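import Mathlib
import Cfsg.Prelude.Def_Sporadic
import Cfsg.Prelude.Def_Spor_J4
import Cfsg.Agent.H54.J4.Rep

/-!
The matrix realization of the fourth Janko group in dimension 112, from simplicity and order of the
presented group.
-/

set_option autoImplicit false
set_option maxRecDepth 100000
set_option maxHeartbeats 400000

namespace H96.J4Real

open H54.J4.Rep

/-- the 112-dimensional representation of the presented group -/
noncomputable def rho : Cfsg.Spor.J4 →* Matˣ := PresentedGroup.toGroup rels_hold

theorem rho_x : rho (PresentedGroup.of Cfsg.Spor.J4.Gen.x) = uX :=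
  PresentedGroup.toGroup.of rels_hold

theorem rho_injective [IsSimpleGroup Cfsg.Spor.J4] : Function.Injective rho := by
  rcases (MonoidHom.normal_ker rho).eq_bot_or_eq_top with h | h
  · exact (MonoidHom.ker_eq_bot_iff rho).mp h
  · exfalso
    apply uX_ne_one
    rw [← rho_x]
    exact MonoidHom.mem_ker.mp (h ▸ Subgroup.mem_top _)

theorem isJ4_range {G K : Type} [Group G] [Group K] (f : G →* K) (hf : Function.Injective f)
    (h : Cfsg.IsJ4 G) : Cfsg.IsJ4 f.range := by
  have := h.1
  exact ⟨(MonoidHom.ofInjective hf).symm.isSimpleGroup,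
    (Nat.card_congr (MonoidHom.ofInjective hf).toEquiv).symm.trans h.2⟩

theorem realization (h : Cfsg.IsJ4 Cfsg.Spor.J4) :
    ∃ H : Subgroup (GL (Fin 112) (ZMod 2)), Cfsg.IsJ4 H := by
  have := h.1
  exact ⟨rho.range, isJ4_range rho rho_injective h⟩

end H96.J4Real
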