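import Cfsg.Agent.H95.LeechLikeInst
import Cfsg.Agent.H95.Transitive
import Cfsg.Agent.H90.Code

/-!
Membership in the lattice by computation, and generation by 37 vectors.
-/

set_option autoImplicit false

namespace H96
namespace Check

open Cfsg Finset H95

/-- the word of a vector -/
def maskVec (y : GolayPt → ℤ) : ℕ :=
  Nat.ofBits fun i : Fin 24 => decide ((y (H90.pt i) - y none % 2) % 4 = 2)

/-- membership test -/
def checkB (y : GolayPt → ℤ) : Bool :=
  H90.isCode (maskVec y) &&
    (List.finRange 24).all (fun i => decide ((y (H90.pt i) - y none % 2) % 2 = 0)) &&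
    decide ((∑ i, y i - 4 * (y none % 2)) % 8 = 0)

theorem checkB_spec {y : GolayPt → ℤ} (h : checkB y = true) : y ∈ leechLattice := by
  simp only [checkB, Bool.and_eq_true, decide_eq_true_eq] at h
  obtain ⟨⟨hc, hp⟩, hs⟩ := h
  have hpar : ∀ i, (y i - y none % 2) % 2 = 0 := fun i => by
    have := List.all_eq_true.mp hp (H90.idx i) (List.mem_finRange _)
    rw [H90.pt_idx] at this
    exact of_decide_eq_true this
  have ha : H90.wordOf (maskVec y) ∈ golayCode :=
    (H90.wordOf_mem_iff (Nat.ofBits_lt_two_pow _)).mpr hc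
  refine mem_of_form (a := H90.wordOf (maskVec y)) (m := y none % 2)
    (z := fun i => (y i - y none % 2 - 2 * ((H90.wordOf (maskVec y) i).val : ℤ)) / 4) ha
    (fun i => ?_) (Int.dvd_of_emod_eq_zero hs)
  have hb : ((H90.wordOf (maskVec y) i).val : ℤ) =
      if (y i - y none % 2) % 4 = 2 then 1 else 0 := by
    simp only [H90.wordOf, maskVec, Nat.testBit_ofBits_lt _ _ (H90.idx i).isLt, Fin.eta,
      H90.pt_idx, decide_eq_true_eq]
    split <;> rfl
  have := hpar i
  simp only [hb]
  split <;> omega

theorem le_of_gens (G : AddSubgroup (GolayPt → ℤ))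
    (hsub : ∀ j, (Pi.single j 4 - Pi.single none 4 : GolayPt → ℤ) ∈ G)
    (h8 : (Pi.single none 8 : GolayPt → ℤ) ∈ G)
    (hrow : ∀ r ∈ H90.rows, (fun i => 2 * ((H90.wordOf r i).val : ℤ)) ∈ G)
    (hodd : oddVec ∈ G) : leechLattice ≤ G := by
  classical
  set G' := G ⊓ leechLattice with hG'
  have hrow' : ∀ r ∈ H90.rows, (fun i => 2 * ((H90.wordOf r i).val : ℤ)) ∈ G' := by
    intro r hr
    refine ⟨hrow r hr, checkB_spec ?_⟩
    revert r
    decide +kernel
  have hquad : ∀ z : GolayPt → ℤ, 2 ∣ ∑ i, z i → (fun i => 4 * z i) ∈ G := by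
    intro z ⟨t, ht⟩
    have key : (fun i => 4 * z i) = (∑ j, z j • (Pi.single j 4 - Pi.single none 4 : GolayPt → ℤ))
        + t • Pi.single none 8 := by
      funext i
      simp only [Pi.add_apply, Finset.sum_apply, Pi.smul_apply, Pi.sub_apply, smul_eq_mul, mul_sub,
        Finset.sum_sub_distrib, ← Finset.sum_mul, ht]
      simp only [Pi.single_apply, mul_ite, mul_zero, sum_ite_eq, mem_univ, if_true]
      split <;> ring
    rw [key]
    exact add_mem (sum_mem fun j _ => zsmul_mem (hsub j) _) (zsmul_mem h8 _)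
  have hxor : ∀ (rs : List ℕ), (∀ r ∈ rs, r ∈ H90.rows) → ∀ n, ∃ z : GolayPt → ℤ,
      (fun i => 2 * ((H90.wordOf (H90.xorSel rs n) i).val : ℤ) + 4 * z i) ∈ G' := by
    intro rs
    induction rs with
    | nil =>
      intro _ n
      refine ⟨0, ?_⟩
      convert zero_mem G' using 1
      funext i
      simp [H90.xorSel, H90.wordOf_zero]
    | cons r rs ih =>
      intro hrs n
      obtain ⟨z, hz⟩ := ih (fun x hx => hrs x (List.mem_cons_of_mem _ hx)) (n / 2)
      by_cases hn : n % 2 = 1
      · refine ⟨fun i => z i + ((H90.wordOf r i).val : ℤ) * ((H90.wordOf (H90.xorSel rs (n / 2)) i).val : ℤ), ?_⟩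
        convert add_mem (hrow' r (hrs r List.mem_cons_self)) hz using 1
        funext i
        simp only [Pi.add_apply, H90.xorSel, if_pos hn, H90.wordOf_xor]
        have key : ∀ a b : ZMod 2, (((a + b).val : ℕ) : ℤ) = a.val + b.val - 2 * (a.val * b.val) := by
          decide
        rw [key]; ring
      · refine ⟨z, ?_⟩
        simpa [H90.xorSel, hn] using hz
  have heven : ∀ x ∈ leechLattice, 2 ∣ x none → x ∈ G := by
    intro x hx hp
    obtain ⟨m, hm, a, ha, z, hz, hs⟩ := exists_form hx
    have hm0 : m = 0 := by have := hz none; omega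
    subst hm0
    obtain ⟨n, -, rfl⟩ := H90.mem_golayCode_iff.mp ha
    obtain ⟨w, hw, hwL⟩ := hxor H90.rows (fun r hr => hr) n
    obtain ⟨m', hp', hs', -⟩ := mem_leech.mp hwL
    have h4 := golayOK.four_dvd ha
    have hsum := sum_form hz
    have hsumw := sum_form (x := fun i => 2 * ((H90.wordOf (H90.xorSel H90.rows n) i).val : ℤ) + 4 * w i)
      (m := 0) (a := H90.wordOf (H90.xorSel H90.rows n)) (z := w) (fun i => by ring)
    have := hp' none
    have hd : 2 ∣ ∑ i, (z i - w i) := by
      rw [sum_sub_distrib]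
      simp only [H90.encode] at *
      omega
    have e : x = (fun i => 2 * ((H90.wordOf (H90.xorSel H90.rows n) i).val : ℤ) + 4 * w i)
        + fun i => 4 * (z i - w i) := by
      funext i
      simp only [Pi.add_apply]
      rw [hz i]
      simp only [H90.encode]
      ring
    rw [e]
    exact G.add_mem hw (hquad _ hd)
  intro x hx
  by_cases hp : 2 ∣ x none
  · exact heven x hx hp
  · have hd : 2 ∣ (x - oddVec) none := by simp [oddVec]; omega
    simpa using add_mem (heven _ (sub_mem hx oddVec_mem) hd) hodd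

end Check
end H96
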