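import Cfsg.Agent.H95.Orbits
import Cfsg.Agent.H95.Unique
import Cfsg.Agent.H90.Orbits

/-!
`Co0` is transitive on pairs (vector of norm 48, minimal vector) with inner product 16.
-/

set_option autoImplicit false

namespace H96
namespace Lam

open Cfsg Finset H95

/-! ### Moving configurations in `M24` -/

theorem fix_octad_transitive {o : Finset GolayPt} (ho : o ∈ octads) {q q' : GolayPt}
    (hq : q ∉ o) (hq' : q' ∉ o) : ∃ σ ∈ M24, (∀ x ∈ o, σ x = x) ∧ σ q = q' := by
  have hcover : ∀ j : Fin 24, (H90.encode H90.oct0N).testBit j.val = false →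
      (H90.octFixList.any fun p => Nat.beq (H90.img p 5) j.val) = true := by decide +kernel
  have hfix : ∀ p ∈ H90.octFixList, ∀ j : Fin 24, (H90.encode H90.oct0N).testBit j.val = true →
      H90.img p j.val = j.val := by decide +kernel
  have base : ∀ r, r ∉ H90.octad0 → ∃ σ ∈ M24, (∀ x ∈ H90.octad0, σ x = x) ∧
      σ (H90.pt 5) = r := by
    intro r hr
    have hb : (H90.encode H90.oct0N).testBit (H90.idx r).val = false := by
      simpa [H90.octad0, H90.mem_setOf'] using hr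
    obtain ⟨p, hp, hp5⟩ := List.any_eq_true.mp (hcover _ hb)
    obtain ⟨σ, hσ, hrep⟩ := H90.inGen_stab5List p (List.mem_filter.mp hp).1
    refine ⟨σ, H90.closure_gens_le hσ, fun x hx => H90.idx_injective (Fin.ext ?_), ?_⟩
    · rw [hrep.apply]; exact hfix p hp _ (H90.mem_setOf'.mp hx)
    · exact H90.idx_injective (Fin.ext ((hrep 5).trans (Nat.eq_of_beq_eq_true hp5)))
  obtain ⟨g, hg, hgo⟩ := H90.exists_M24_octad H90.octad0_mem ho
  have hout : ∀ z, z ∉ o → g⁻¹ z ∉ H90.octad0 := by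
    intro z hz h
    apply hz
    rw [← hgo]
    exact mem_image.mpr ⟨_, h, Equiv.apply_symm_apply g z⟩
  obtain ⟨a, ha, haf, ha5⟩ := base _ (hout q hq)
  obtain ⟨b, hb, hbf, hb5⟩ := base _ (hout q' hq')
  refine ⟨g * b * a⁻¹ * g⁻¹, mul_mem (mul_mem (mul_mem hg hb) (inv_mem ha)) (inv_mem hg), ?_, ?_⟩
  · intro x hx
    rw [← hgo, mem_image] at hx
    obtain ⟨y, hy, rfl⟩ := hx
    have e : a⁻¹ y = y := Equiv.Perm.inv_eq_iff_eq.mpr (haf y hy).symm
    simp only [Equiv.Perm.mul_apply]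
    rw [show g⁻¹ (g y) = y from Equiv.symm_apply_apply g y, e, hbf y hy]
  · simp only [Equiv.Perm.mul_apply]
    rw [show a⁻¹ (g⁻¹ q) = H90.pt 5 from Equiv.Perm.inv_eq_iff_eq.mpr ha5.symm, hb5]
    exact Equiv.apply_symm_apply g q'

theorem pick_five {s : Finset GolayPt} (hs : 5 ≤ s.card) {p q : GolayPt} (hp : p ∈ s) (hq : q ∈ s)
    (hpq : p ≠ q) : ∃ x : Fin 5 ↪ GolayPt, x 0 = p ∧ x 1 = q ∧ ∀ i, x i ∈ s := by
  obtain ⟨x, hx⟩ := H90.exists_emb_in ((s.erase p).erase q) (k := 3) (by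
    rw [card_erase_of_mem (by simp [hq, hpq.symm]), card_erase_of_mem hp]; omega)
  have hx0 := hx 0; have hx1 := hx 1; have hx2 := hx 2
  simp only [mem_erase] at hx0 hx1 hx2
  have h01 : x 0 ≠ x 1 := fun h => absurd (x.injective h) (by decide)
  have h02 : x 0 ≠ x 2 := fun h => absurd (x.injective h) (by decide)
  have h12 : x 1 ≠ x 2 := fun h => absurd (x.injective h) (by decide)
  refine ⟨⟨![p, q, x 0, x 1, x 2], ?_⟩, rfl, rfl, ?_⟩
  · intro i j
    fin_cases i <;> fin_cases j <;>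
      simp [hpq, hpq.symm, h01, h01.symm, h02, h02.symm, h12, h12.symm, hx0.1, hx1.1, hx2.1,
        Ne.symm hx0.1, Ne.symm hx1.1, Ne.symm hx2.1, hx0.2.1, hx1.2.1, hx2.2.1,
        Ne.symm hx0.2.1, Ne.symm hx1.2.1, Ne.symm hx2.2.1]
  · intro i
    fin_cases i
    exacts [hp, hq, hx0.2.2, hx1.2.2, hx2.2.2]

theorem dodecad_move {d d' : Finset GolayPt} (hd : d ∈ dodecads) (hd' : d' ∈ dodecads)
    {p q : GolayPt} (hpq : p ≠ q) (hp : p ∈ d) (hq : q ∈ d) (hp' : p ∈ d') (hq' : q ∈ d') :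
    ∃ σ ∈ M24, σ p = p ∧ σ q = q ∧ d.image σ = d' := by
  obtain ⟨x, hx0, hx1, hx⟩ := pick_five (by rw [hd.2]; norm_num) hp hq hpq
  obtain ⟨y, hy0, hy1, hy⟩ := pick_five (by rw [hd'.2]; norm_num) hp' hq' hpq
  obtain ⟨a, ha, hax, had⟩ := H90.exists_dodecad_move hd x hx
  obtain ⟨b, hb, hby, hbd⟩ := H90.exists_dodecad_move hd' y hy
  have key : ∀ i, (b * a⁻¹) (x i) = y i := by
    intro i
    rw [Equiv.Perm.mul_apply, show a⁻¹ (x i) = H90.base5 i from
      Equiv.Perm.inv_eq_iff_eq.mpr (hax i).symm, hby]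
  refine ⟨b * a⁻¹, mul_mem hb (inv_mem ha), ?_, ?_, ?_⟩
  · have := key 0; rwa [hx0, hy0] at this
  · have := key 1; rwa [hx1, hy1] at this
  · rw [← hbd, ← had, image_image, ← Equiv.Perm.coe_mul, inv_mul_cancel_right]

/-! ### Shapes -/

/-- all coordinates in `0, ±2`, the first two equal to `2` -/
def ShapeD (u : GolayPt → ℤ) (a : GolayPt → ZMod 2) : Prop :=
  a ∈ golayCode ∧ hammingNorm a = 12 ∧ a none ≠ 0 ∧ a (some 0) ≠ 0 ∧
    ∀ i, (a i = 0 ∧ u i = 0) ∨ (a i ≠ 0 ∧ (u i = 2 ∨ u i = -2))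

/-- an octad of `±2` through the first two points and one further `±4` at `p` -/
def ShapeO (u : GolayPt → ℤ) (a : GolayPt → ZMod 2) (p : GolayPt) : Prop :=
  a ∈ golayCode ∧ hammingNorm a = 8 ∧ a none ≠ 0 ∧ a (some 0) ≠ 0 ∧ a p = 0 ∧
    ∀ i, (i = p ∧ (u i = 4 ∨ u i = -4)) ∨ (i ≠ p ∧ a i = 0 ∧ u i = 0) ∨
      (a i ≠ 0 ∧ (u i = 2 ∨ u i = -2))

theorem sum_sq_zmod (a : GolayPt → ZMod 2) :
    ∑ i, 4 * ((a i).val : ℤ) = 4 * (hammingNorm a : ℤ) := by rw [← mul_sum, sum_val]

theorem shape_cases {u : leechLattice} (hu : ldot u u = 48)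
    (h0 : (u : GolayPt → ℤ) none = 2) (h1 : (u : GolayPt → ℤ) (some 0) = 2) :
    (∃ a, ShapeD u a) ∨ ∃ a p, ShapeO u a p := by
  classical
  obtain ⟨m, hm, a, ha, z, hz, -⟩ := exists_form u.2
  have hn : sqNorm (u : GolayPt → ℤ) = 48 := (sqNorm_eq_ldot u).trans hu
  set x := (u : GolayPt → ℤ) with hx
  have hm0 : m = 0 := by
    have := hz none; rw [h0] at this
    rcases zmod2_val_lt (a none) with h | h <;> rw [h] at this <;> omega
  subst hm0
  have val1 : ∀ i, a i ≠ 0 → ((a i).val : ℤ) = 1 := fun i h => by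
    rw [eq_one_of_ne h]; rfl
  have val0 : ∀ i, a i = 0 → ((a i).val : ℤ) = 0 := fun i h => by rw [h]; rfl
  have han : a none ≠ 0 := fun h => by have := hz none; rw [h0, val0 _ h] at this; omega
  have ha0 : a (some 0) ≠ 0 := fun h => by have := hz (some 0); rw [h1, val0 _ h] at this; omega
  have hane : a ≠ 0 := fun h => han (by rw [h]; rfl)
  have h8 := golayOK.like.min8 a ha hane
  set r : GolayPt → ℤ := fun i => x i ^ 2 - 4 * ((a i).val : ℤ) with hr
  have rvals : ∀ i, r i = 0 ∨ (a i = 0 ∧ (x i = 4 ∨ x i = -4) ∧ r i = 16) ∨ 32 ≤ r i := by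
    intro i
    have hzi := hz i
    rcases eq_or_ne (a i) 0 with h | h
    · rw [val0 i h] at hzi
      simp only [hr, val0 i h, mul_zero, sub_zero]
      have hcase : z i = 0 ∨ z i = 1 ∨ z i = -1 ∨ 2 ≤ z i ∨ z i ≤ -2 := by omega
      rcases hcase with e | e | e | e | e
      · left; rw [hzi, e]; ring
      · right; left; exact ⟨h, Or.inl (by omega), by rw [hzi, e]; ring⟩
      · right; left; exact ⟨h, Or.inr (by omega), by rw [hzi, e]; ring⟩
      · right; right; rw [hzi]; nlinarith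
      · right; right; rw [hzi]; nlinarith
    · rw [val1 i h] at hzi
      simp only [hr, val1 i h, mul_one]
      have hcase : z i = 0 ∨ z i = -1 ∨ 1 ≤ z i ∨ z i ≤ -2 := by omega
      rcases hcase with e | e | e | e
      · left; rw [hzi, e]; ring
      · left; rw [hzi, e]; ring
      · right; right; rw [hzi]; nlinarith
      · right; right; rw [hzi]; nlinarith
  have rnn : ∀ i, 0 ≤ r i := fun i => by rcases rvals i with h | h | h <;> omega
  have rsum : ∑ i, r i = 48 - 4 * (hammingNorm a : ℤ) := by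
    rw [hr, sum_sub_distrib, sum_sq_zmod, ← hn]; rfl
  have hcases := norm_cases golayOK ha
  have rle : ∀ i, r i ≤ ∑ i, r i := fun i => single_le_sum (fun j _ => rnn j) (mem_univ i)
  have twos : ∀ i, r i = 0 → (a i = 0 ∧ x i = 0) ∨ (a i ≠ 0 ∧ (x i = 2 ∨ x i = -2)) := by
    intro i h
    simp only [hr] at h
    rcases eq_or_ne (a i) 0 with e | e
    · left; rw [val0 i e] at h; exact ⟨e, sq_eq_zero_iff.mp (by linarith)⟩
    · right; rw [val1 i e] at h
      exact ⟨e, sq_eq_sq_iff_eq_or_eq_neg.mp (by linarith : x i ^ 2 = 2 ^ 2)⟩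
  by_cases h12 : hammingNorm a = 12
  · left
    refine ⟨a, ha, h12, han, ha0, fun i => twos i ?_⟩
    have := rle i; have := rnn i
    rw [rsum, h12] at *
    omega
  · have ha8 : hammingNorm a = 8 := by
      have := sum_nonneg fun i (_ : i ∈ univ) => rnn i
      rw [rsum] at this
      omega
    right
    obtain ⟨p, hp⟩ : ∃ p, r p ≠ 0 := by
      by_contra h
      push Not at h
      rw [sum_congr rfl fun i _ => h i, ha8] at rsum
      simp at rsum
    have hp16 := rle p
    rw [rsum, ha8] at hp16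
    rcases rvals p with h | ⟨hap, hxp, hrp⟩ | h
    · exact absurd h hp
    · refine ⟨a, p, ha, ha8, han, ha0, hap, fun i => ?_⟩
      rcases eq_or_ne i p with rfl | hip
      · exact Or.inl ⟨rfl, hxp⟩
      · have hpair := sum_le_sum_of_subset_of_nonneg (f := r)
          (subset_univ ({i, p} : Finset GolayPt)) (fun t _ _ => rnn t)
        rw [sum_pair hip, hrp, rsum, ha8] at hpair
        rcases twos i (by have := rnn i; omega) with e | e
        · exact Or.inr (Or.inl ⟨hip, e⟩)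
        · exact Or.inr (Or.inr e)
    · omega

/-- matching signs by a code word -/
theorem sign_fix {u u' : leechLattice} {a : GolayPt → ZMod 2} {T : Finset GolayPt}
    (hT : ∀ w ∈ golayCode, (∀ i, i ∉ T → w i = 0) → w = 0 ∨ w = a)
    (haT : ∀ i, a i ≠ 0 → i ∈ T)
    (htwo : ∀ i, a i ≠ 0 → (u : GolayPt → ℤ) i = 2 ∨ (u : GolayPt → ℤ) i = -2)
    (hout : ∀ i, a i = 0 → (u : GolayPt → ℤ) i = 0 ∨ (u : GolayPt → ℤ) i = 4 ∨
      (u : GolayPt → ℤ) i = -4)
    (hzero : ∀ i, i ∉ T → (u : GolayPt → ℤ) i = 0)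
    (habs : ∀ i, (u : GolayPt → ℤ) i = (u' : GolayPt → ℤ) i ∨
      (u : GolayPt → ℤ) i = -(u' : GolayPt → ℤ) i)
    (hn : (u : GolayPt → ℤ) none = 2) (h0 : (u : GolayPt → ℤ) (some 0) = 2)
    (hn' : (u' : GolayPt → ℤ) none = 2) (h0' : (u' : GolayPt → ℤ) (some 0) = 2)
    (hnT : none ∈ T) (h0T : some 0 ∈ T) :
    ∃ g : Co0, g • vBase = vBase ∧ g • u = u' := by
  classical
  let s : GolayPt → ZMod 2 :=
    fun i => if (u : GolayPt → ℤ) i = (u' : GolayPt → ℤ) i then 0 else 1
  have hev : ∑ i, a i * s i = 0 := by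
    obtain ⟨m, hp, hsx, -⟩ := mem_leech.mp u.2
    obtain ⟨n, hp', hsy, -⟩ := mem_leech.mp u'.2
    have e1 := hp none
    have e2 := hp' none
    rw [hn] at e1
    rw [hn'] at e2
    have hterm : ∀ i, 8 ∣ ((u : GolayPt → ℤ) i - (u' : GolayPt → ℤ) i)
        - 4 * ((a i).val : ℤ) * ((s i).val : ℤ) := by
      intro i
      have hab := habs i
      rcases zmod2_cases (a i) with ha | ha
      · rw [ha]
        have := hout i ha
        simp only [ZMod.val_zero, Nat.cast_zero, mul_zero, zero_mul, sub_zero]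
        omega
      · rw [ha, show (((1 : ZMod 2).val : ℕ) : ℤ) = 1 from rfl]
        have h2 := htwo i (by rw [ha]; decide)
        simp only [s]
        split
        · simp only [ZMod.val_zero, Nat.cast_zero, mul_zero, sub_zero]; omega
        · rw [show (((1 : ZMod 2).val : ℕ) : ℤ) = 1 from rfl]; omega
    have hsum := dvd_sum fun i (_ : i ∈ (univ : Finset GolayPt)) => hterm i
    simp only [sum_sub_distrib, mul_assoc, ← mul_sum, sum_val_mul] at hsum
    rw [dot2_eq, ZMod.natCast_eq_zero_iff]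
    omega
  obtain ⟨w, hw, hws⟩ := exists_code_restrict T s fun v hv hsupp => by
    rcases hT v hv hsupp with rfl | rfl
    · simp
    · exact hev
  have hwc : ∀ i ∈ T, (i ∈ support₂ w ↔ (u : GolayPt → ℤ) i ≠ (u' : GolayPt → ℤ) i) := by
    intro i hi
    simp only [support₂, mem_filter, mem_univ, true_and, hws i hi, s]
    split <;> simp_all
  have h3 : none ∉ support₂ w := fun h => (hwc _ hnT).mp h (hn.trans hn'.symm)
  have h4 : some 0 ∉ support₂ w := fun h => (hwc _ h0T).mp h (h0.trans h0'.symm)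
  refine ⟨mono 1 (support₂ w) (one_mem _) ⟨w, hw, rfl⟩,
    mono_fix_vBase (one_mem _) _ rfl rfl h3 h4, Subtype.ext ?_⟩
  erw [mono_smul]
  funext i
  show (if i ∈ support₂ w then -(u : GolayPt → ℤ) i else (u : GolayPt → ℤ) i) = _
  have hab := habs i
  by_cases hi : i ∈ T
  · have := hwc i hi
    split <;> rename_i hh
    · have := this.mp hh; omega
    · by_contra hc
      exact hh (this.mpr hc)
  · have := hzero i hi
    split <;> omega

theorem code_in_dodecad {a w : GolayPt → ZMod 2} (ha : a ∈ golayCode) (ha12 : hammingNorm a = 12)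
    (hw : w ∈ golayCode) (hsupp : ∀ i, i ∉ support₂ a → w i = 0) : w = 0 ∨ w = a := by
  by_cases h0 : w = 0
  · exact Or.inl h0
  right
  have hsub : support₂ w ⊆ support₂ a := fun i hi => by
    by_contra hn
    simp [support₂, hsupp i hn] at hi
  have h8 := golayOK.like.min8 w hw h0
  by_contra hne
  have h0' : w + a ≠ 0 := fun h => hne (by
    funext i
    have := congrFun h i
    simp only [Pi.add_apply, Pi.zero_apply] at this
    exact CharTwo.add_eq_zero.mp this)
  have h8' := golayOK.like.min8 _ (add_mem hw ha) h0'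
  have e : hammingNorm (w + a) + 2 * (support₂ w ∩ support₂ a).card
      = hammingNorm w + hammingNorm a := H94.norm_add_aux w a
  rw [inter_eq_left.mpr hsub, ← hammingNorm_eq_support₂, ha12] at e
  omega

theorem dodecad_orbit {u u' : leechLattice} {a a' : GolayPt → ZMod 2}
    (hD : ShapeD u a) (hD' : ShapeD u' a')
    (hn : (u : GolayPt → ℤ) none = 2) (h0 : (u : GolayPt → ℤ) (some 0) = 2)
    (hn' : (u' : GolayPt → ℤ) none = 2) (h0' : (u' : GolayPt → ℤ) (some 0) = 2) :
    ∃ g : Co0, g • vBase = vBase ∧ g • u = u' := by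
  classical
  obtain ⟨ha, ha12, han, ha0, hsh⟩ := hD
  obtain ⟨ha', ha12', han', ha0', hsh'⟩ := hD'
  have hd : support₂ a ∈ dodecads := ⟨⟨a, ha, rfl⟩, by rw [← hammingNorm_eq_support₂]; exact ha12⟩
  have hd' : support₂ a' ∈ dodecads :=
    ⟨⟨a', ha', rfl⟩, by rw [← hammingNorm_eq_support₂]; exact ha12'⟩
  have hmem : ∀ {b : GolayPt → ZMod 2} {i}, b i ≠ 0 → i ∈ support₂ b := fun h => by simp [support₂, h]
  obtain ⟨τ, hτ, hτn, hτ0, hτd⟩ := dodecad_move hd hd' (by simp : (none : GolayPt) ≠ some 0)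
    (hmem han) (hmem ha0) (hmem han') (hmem ha0')
  have hempty : (∅ : Finset GolayPt) ∈ supports (golayCode : Set (GolayPt → ZMod 2)) :=
    ⟨0, zero_mem _, by ext i; simp [support₂]⟩
  set g1 := mono τ ∅ hτ hempty with hg1
  have hg1v : g1 • vBase = vBase := mono_fix_vBase hτ hempty hτn hτ0 (by simp) (by simp)
  set x := g1 • u with hxdef
  have hxi : ∀ i, (x : GolayPt → ℤ) i = (u : GolayPt → ℤ) (τ.symm i) := by
    intro i; rw [hxdef, hg1, mono_smul]; simp [signedPerm]
  have hiff : ∀ i, a (τ.symm i) ≠ 0 ↔ a' i ≠ 0 := by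
    intro i
    have e : i ∈ (support₂ a).image τ ↔ i ∈ support₂ a' := by rw [hτd]
    simp only [mem_image, support₂, mem_filter, mem_univ, true_and] at e
    refine ⟨fun h => e.mp ⟨_, h, Equiv.apply_symm_apply τ i⟩, fun h => ?_⟩
    obtain ⟨j, hj, rfl⟩ := e.mpr h
    rwa [Equiv.symm_apply_apply]
  have hx : ∀ i, (a' i = 0 ∧ (x : GolayPt → ℤ) i = 0) ∨
      (a' i ≠ 0 ∧ ((x : GolayPt → ℤ) i = 2 ∨ (x : GolayPt → ℤ) i = -2)) := by
    intro i
    rw [hxi]
    rcases hsh (τ.symm i) with ⟨h1, h2⟩ | ⟨h1, h2⟩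
    · exact Or.inl ⟨by_contra fun h => (hiff i).mpr h h1, h2⟩
    · exact Or.inr ⟨(hiff i).mp h1, h2⟩
  have hxn : (x : GolayPt → ℤ) none = 2 := by
    rw [hxi, show τ.symm none = none by rw [Equiv.symm_apply_eq, hτn], hn]
  have hx0 : (x : GolayPt → ℤ) (some 0) = 2 := by
    rw [hxi, show τ.symm (some 0) = some 0 by rw [Equiv.symm_apply_eq, hτ0], h0]
  obtain ⟨g2, hg2, hg2x⟩ := sign_fix (u := x) (u' := u') (a := a') (T := support₂ a')
    (fun w hw hs => code_in_dodecad ha' ha12' hw hs) (fun i h => hmem h)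
    (fun i hi => ((hx i).resolve_left fun h => hi h.1).2)
    (fun i hi => Or.inl ((hx i).resolve_right fun h => h.1 hi).2)
    (fun i hi => ((hx i).resolve_right fun h => hi (hmem h.1)).2)
    (fun i => by
      rcases hx i with ⟨e1, e2⟩ | ⟨e1, e2⟩ <;> rcases hsh' i with ⟨f1, f2⟩ | ⟨f1, f2⟩
      · omega
      · exact absurd e1 f1
      · exact absurd f1 e1
      · omega)
    hxn hx0 hn' h0' (hmem han') (hmem ha0')
  exact ⟨g2 * g1, by rw [mul_smul, hg1v, hg2], by rw [mul_smul, ← hxdef, hg2x]⟩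

theorem code_in_nine {a w : GolayPt → ZMod 2} {p : GolayPt} (ha : a ∈ golayCode)
    (ha8 : hammingNorm a = 8) (hw : w ∈ golayCode)
    (hsupp : ∀ i, i ∉ insert p (support₂ a) → w i = 0) : w = 0 ∨ w = a := by
  by_cases h0 : w = 0
  · exact Or.inl h0
  right
  have h8 := golayOK.like.min8 w hw h0
  have hsub : support₂ w ⊆ insert p (support₂ a) := fun i hi => by
    by_contra hn
    simp [support₂, hsupp i hn] at hi
  have h9 : (insert p (support₂ a)).card ≤ 9 := by
    refine le_trans (card_insert_le _ _) ?_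
    rw [← hammingNorm_eq_support₂, ha8]
  have hle := le_trans (card_le_card hsub) h9
  rw [← hammingNorm_eq_support₂] at hle
  have hw8 : hammingNorm w = 8 := by have := norm_cases golayOK hw; omega
  refine golayOK.like.octad_unique hw ha hw8 ha8 ?_
  have hsub2 : (support₂ w).erase p ⊆ H94.sup2 w ∩ H94.sup2 a := by
    intro i hi
    obtain ⟨hne, hi⟩ := mem_erase.mp hi
    exact mem_inter.mpr ⟨hi, (mem_insert.mp (hsub hi)).resolve_left hne⟩
  have := card_le_card hsub2
  have hpe := pred_card_le_card_erase (a := p) (s := support₂ w)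
  rw [← hammingNorm_eq_support₂, hw8] at hpe
  omega

theorem octad_orbit {u u' : leechLattice} {a a' : GolayPt → ZMod 2} {p p' : GolayPt}
    (hO : ShapeO u a p) (hO' : ShapeO u' a' p')
    (hn : (u : GolayPt → ℤ) none = 2) (h0 : (u : GolayPt → ℤ) (some 0) = 2)
    (hn' : (u' : GolayPt → ℤ) none = 2) (h0' : (u' : GolayPt → ℤ) (some 0) = 2) :
    ∃ g : Co0, g • vBase = vBase ∧ g • u = u' := by
  classical
  obtain ⟨ha, ha8, han, ha0, hap, hsh⟩ := hO
  obtain ⟨ha', ha8', han', ha0', hap', hsh'⟩ := hO'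
  have hmem : ∀ {b : GolayPt → ZMod 2} {i}, b i ≠ 0 → i ∈ support₂ b := fun h => by simp [support₂, h]
  obtain ⟨τ1, hτ1, hτ1n, hτ10, hτ1a⟩ := m24_move_octad (p := none) (q := some 0) (by simp)
    ha ha8 han ha0 ha' ha8' han' ha0'
  have ho' : support₂ a' ∈ octads :=
    ⟨⟨a', ha', rfl⟩, by rw [← hammingNorm_eq_support₂]; exact ha8'⟩
  have hq : τ1 p ∉ support₂ a' := by
    have := congrFun hτ1a (τ1 p)
    simp only [Equiv.symm_apply_apply] at this
    simp [support₂, ← this, hap]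
  obtain ⟨τ2, hτ2, hτ2f, hτ2p⟩ := fix_octad_transitive ho' hq (q' := p') (by simp [support₂, hap'])
  set τ := τ2 * τ1 with hτdef
  have hτ : τ ∈ M24 := mul_mem hτ2 hτ1
  have hτn : τ none = none := by rw [hτdef, Equiv.Perm.mul_apply, hτ1n, hτ2f _ (hmem han')]
  have hτ0 : τ (some 0) = some 0 := by rw [hτdef, Equiv.Perm.mul_apply, hτ10, hτ2f _ (hmem ha0')]
  have hτp : τ p = p' := by rw [hτdef, Equiv.Perm.mul_apply, hτ2p]
  have hiff : ∀ i, a (τ.symm i) ≠ 0 ↔ a' i ≠ 0 := by
    intro i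
    obtain ⟨j, rfl⟩ := τ.surjective i
    rw [Equiv.symm_apply_apply]
    have e : a' (τ1 j) = a j := by rw [← congrFun hτ1a (τ1 j)]; simp
    constructor
    · intro h
      have h' : a' (τ1 j) ≠ 0 := by rwa [e]
      rw [hτdef, Equiv.Perm.mul_apply, hτ2f _ (hmem h')]
      exact h'
    · intro h
      rw [hτdef, Equiv.Perm.mul_apply] at h
      have : τ2 (τ2 (τ1 j)) = τ2 (τ1 j) := hτ2f _ (hmem h)
      rw [τ2.injective this, e] at h
      exact h
  have hempty : (∅ : Finset GolayPt) ∈ supports (golayCode : Set (GolayPt → ZMod 2)) :=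
    ⟨0, zero_mem _, by ext i; simp [support₂]⟩
  set g1 := mono τ ∅ hτ hempty with hg1
  have hg1v : g1 • vBase = vBase := mono_fix_vBase hτ hempty hτn hτ0 (by simp) (by simp)
  set x := g1 • u with hxdef
  have hxi : ∀ i, (x : GolayPt → ℤ) i = (u : GolayPt → ℤ) (τ.symm i) := by
    intro i; rw [hxdef, hg1, mono_smul]; simp [signedPerm]
  have hx : ∀ i, (i = p' ∧ ((x : GolayPt → ℤ) i = 4 ∨ (x : GolayPt → ℤ) i = -4)) ∨
      (i ≠ p' ∧ a' i = 0 ∧ (x : GolayPt → ℤ) i = 0) ∨
      (a' i ≠ 0 ∧ ((x : GolayPt → ℤ) i = 2 ∨ (x : GolayPt → ℤ) i = -2)) := by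
    intro i
    rw [hxi]
    rcases hsh (τ.symm i) with ⟨h1, h2⟩ | ⟨h1, h2, h3⟩ | ⟨h1, h2⟩
    · exact Or.inl ⟨by rw [← hτp, ← h1, Equiv.apply_symm_apply], h2⟩
    · exact Or.inr (Or.inl ⟨fun e => h1 (by rw [e, ← hτp, Equiv.symm_apply_apply]),
        by_contra fun h => (hiff i).mpr h h2, h3⟩)
    · exact Or.inr (Or.inr ⟨(hiff i).mp h1, h2⟩)
  have hxn : (x : GolayPt → ℤ) none = 2 := by
    rw [hxi, show τ.symm none = none by rw [Equiv.symm_apply_eq, hτn], hn]
  have hx0 : (x : GolayPt → ℤ) (some 0) = 2 := by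
    rw [hxi, show τ.symm (some 0) = some 0 by rw [Equiv.symm_apply_eq, hτ0], h0]
  obtain ⟨g2, hg2, hg2x⟩ := sign_fix (u := x) (u' := u') (a := a') (T := insert p' (support₂ a'))
    (fun w hw hs => code_in_nine ha' ha8' hw hs) (fun i h => mem_insert_of_mem (hmem h))
    (fun i hi => by
      rcases hx i with ⟨h, -⟩ | ⟨-, h, -⟩ | ⟨-, h⟩
      · exact absurd (h ▸ hap') hi
      · exact absurd h hi
      · exact h)
    (fun i hi => by
      rcases hx i with ⟨-, h⟩ | ⟨-, -, h⟩ | ⟨h, -⟩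
      · exact Or.inr h
      · exact Or.inl h
      · exact absurd hi h)
    (fun i hi => by
      rw [mem_insert, not_or] at hi
      rcases hx i with ⟨h, -⟩ | ⟨-, -, h⟩ | ⟨h, -⟩
      · exact absurd h hi.1
      · exact h
      · exact absurd (hmem h) hi.2)
    (fun i => by
      rcases hx i with ⟨e1, e2⟩ | ⟨e1, e2, e3⟩ | ⟨e1, e2⟩ <;>
        rcases hsh' i with ⟨f1, f2⟩ | ⟨f1, f2, f3⟩ | ⟨f1, f2⟩
      · omega
      · exact absurd e1 f1
      · exact absurd (e1 ▸ hap') f1
      · exact absurd f1 e1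
      · omega
      · exact absurd e2 f1
      · exact absurd (f1 ▸ hap') e1
      · exact absurd f2 e1
      · omega)
    hxn hx0 hn' h0' (mem_insert_of_mem (hmem han')) (mem_insert_of_mem (hmem ha0'))
  exact ⟨g2 * g1, by rw [mul_smul, hg1v, hg2], by rw [mul_smul, ← hxdef, hg2x]⟩

/-! ### Fusing the two shapes -/

/-- word of the sample dodecad -/
def sampleWord : GolayPt → ZMod 2 := H90.wordOf 8419127
/-- sample vector of dodecad shape -/
def sampleD : GolayPt → ℤ := fun i => 2 * ((sampleWord i).val : ℤ)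
/-- a member of the cross of the chosen frame -/
def sampleY : GolayPt → ℤ := fun i =>
  if i = some 1 ∨ i = some 8 ∨ i = some 10 ∨ i = some 13 then 4 else 0
/-- the half of the difference -/
def sampleW : GolayPt → ℤ := fun i =>
  if i = some 1 ∨ i = some 8 ∨ i = some 10 ∨ i = some 13 then 2
  else if i = none ∨ i = some 0 ∨ i = some 3 ∨ i = some 6 then -2 else 0

theorem sampleWord_code : sampleWord ∈ golayCode :=
  H90.mem_golayCode_iff.mpr ⟨8419127 % 4096, Nat.mod_lt _ (by norm_num), by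
    rw [show H90.encode (8419127 % 4096) = 8419127 by decide +kernel]; rfl⟩

theorem sampleD_mem : sampleD ∈ leechLattice :=
  mem_of_form (z := 0) (m := 0) sampleWord_code (fun i => by simp [sampleD]) (by decide +kernel)

theorem sampleW_mem : sampleW ∈ leechLattice := by
  refine mem_of_form (a := H90.wordOf 8398155)
    (z := fun i => if i = none ∨ i = some 0 ∨ i = some 3 ∨ i = some 6 then -1 else 0) (m := 0)
    (H90.mem_golayCode_iff.mpr ⟨8398155 % 4096, Nat.mod_lt _ (by norm_num), by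
      rw [show H90.encode (8398155 % 4096) = 8398155 by decide +kernel]⟩) ?_ (by decide +kernel)
  decide +kernel

theorem sampleD_shape : ShapeD sampleD sampleWord :=
  ⟨sampleWord_code, by decide +kernel, by decide +kernel, by decide +kernel, by decide +kernel⟩

theorem exists_D_to_O {u : leechLattice} (hu : ldot u u = 48)
    (hn : (u : GolayPt → ℤ) none = 2) (h0 : (u : GolayPt → ℤ) (some 0) = 2) :
    ∃ g : Co0, g • vBase = vBase ∧ ((g • u : leechLattice) : GolayPt → ℤ) none = 2 ∧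
      ((g • u : leechLattice) : GolayPt → ℤ) (some 0) = 2 ∧
      ∃ a p, ShapeO (g • u : leechLattice) a p := by
  rcases shape_cases hu hn h0 with ⟨a, ha⟩ | hO
  · -- move to the sample, then change frame
    set uD : leechLattice := ⟨sampleD, sampleD_mem⟩
    obtain ⟨g1, hg1, hg1u⟩ := dodecad_orbit (u' := uD) ha sampleD_shape hn h0
      (by decide +kernel) (by decide +kernel)
    set z : leechLattice := quad (some 3) (some 6) (by decide) 1 1 (Or.inl rfl) (Or.inl rfl) with hz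
    set y : leechLattice := ⟨sampleW, sampleW_mem⟩ + ⟨sampleW, sampleW_mem⟩ + (vBase + z) with hy
    have hyv : (y : GolayPt → ℤ) = sampleY := by
      simp only [hy, hz, AddSubgroup.coe_add, coe_vBase, quad]
      decide +kernel
    have hvz : ldot vBase z = 0 := by
      rw [hz, ldot_quad, coe_vBase]; decide +kernel
    have hDz : ldot uD z = 0 := by rw [hz, ldot_quad]; decide +kernel
    obtain ⟨g2, hg2, hg2z⟩ := orth_pair_transitive golayUnique vBase_norm (quad_norm _ _ _) hvz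
      vBase_norm zBase_norm vBase_zBase
    have hye : g2 • y = g2 • ⟨sampleW, sampleW_mem⟩ + g2 • ⟨sampleW, sampleW_mem⟩ + eight none := by
      rw [hy, co0_add, co0_add, co0_add, hg2, hz, hg2z]
      congr 1
      apply Subtype.ext
      simp only [AddSubgroup.coe_add, coe_vBase, zBase, quad, eight]
      decide +kernel
    have hcls : eight none - g2 • y ∈ twice leechLattice :=
      mem_twice.mpr ⟨-(g2 • ⟨sampleW, sampleW_mem⟩), by rw [hye, two_nsmul]; abel⟩
    have hyn : ldot (g2 • y) (g2 • y) = 64 := by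
      rw [co0_dot, ← sqNorm_eq_ldot, hyv]; decide +kernel
    obtain ⟨j, hj⟩ := cross_std hyn hcls
    have hd : ldot uD y = 32 := by show dotInt sampleD (y : GolayPt → ℤ) = 32; rw [hyv]; decide +kernel
    set u2 := g2 • uD with hu2
    have hj4 : ((u2 : leechLattice) : GolayPt → ℤ) j = 4 ∨ ((u2 : leechLattice) : GolayPt → ℤ) j = -4 := by
      have h : ldot u2 (g2 • y) = 32 := by rw [co0_dot, hd]
      rcases hj with e | e <;> rw [e] at h
      · rw [ldot, eight, dotInt_single_right] at h; left; omega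
      · rw [ldot, AddSubgroup.coe_neg, eight, ← Pi.single_neg, dotInt_single_right] at h; right; omega
    have hu2n : ldot u2 u2 = 48 := by rw [hu2, co0_dot, ← hg1u, co0_dot, hu]
    have hbv : ldot u2 vBase = 16 := by
      rw [hu2, ← hg2, co0_dot, ldot_vBase]; decide +kernel
    have hbz : ldot u2 zBase = 0 := by rw [hu2, ← hg2z, co0_dot, hDz]
    rw [ldot_vBase] at hbv
    rw [ldot_zBase] at hbz
    have e1 : (u2 : GolayPt → ℤ) none = 2 := by omega
    have e2 : (u2 : GolayPt → ℤ) (some 0) = 2 := by omega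
    refine ⟨g2 * g1, by rw [mul_smul, hg1, hg2], ?_⟩
    rw [mul_smul, hg1u, ← hu2]
    refine ⟨e1, e2, ?_⟩
    rcases shape_cases hu2n e1 e2 with ⟨b, hb⟩ | h
    · exfalso
      rcases hb.2.2.2.2 j with ⟨-, h⟩ | ⟨-, h | h⟩ <;> omega
    · exact h
  · exact ⟨1, one_smul _ _, by rw [one_smul]; exact ⟨hn, h0, hO⟩⟩

/-- transitivity on pairs (norm 48, minimal) with inner product 16 -/
theorem pair_transitive_48_32 {v x v' x' : leechLattice} (hv : ldot v v = 48) (hx : ldot x x = 32)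
    (hd : ldot x v = 16) (hv' : ldot v' v' = 48) (hx' : ldot x' x' = 32) (hd' : ldot x' v' = 16) :
    ∃ g : Co0, g • v = v' ∧ g • x = x' := by
  have key : ∀ {v x : leechLattice}, ldot v v = 48 → ldot x x = 32 → ldot x v = 16 →
      ∃ g : Co0, g • x = vBase ∧ ((g • v : leechLattice) : GolayPt → ℤ) none = 2 ∧
        ((g • v : leechLattice) : GolayPt → ℤ) (some 0) = 2 ∧
        ∃ a p, ShapeO (g • v : leechLattice) a p := by
    intro v x hv hx hd
    obtain ⟨g, hg, e1, e2⟩ := exists_normal golayUnique hx (w := v) (by rw [hv]; norm_num)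
    obtain ⟨k, hk, r⟩ := exists_D_to_O (u := g • v) (by rw [co0_dot, hv]) (by omega) (by omega)
    refine ⟨k * g, by rw [mul_smul, hg, hk], ?_⟩
    rw [mul_smul]; exact r
  obtain ⟨g, hg, a1, a2, a, p, ha⟩ := key hv hx hd
  obtain ⟨g', hg', b1, b2, a', p', ha'⟩ := key hv' hx' hd'
  obtain ⟨k, hk, hku⟩ := octad_orbit ha ha' a1 a2 b1 b2
  refine ⟨g'⁻¹ * k * g, ?_, ?_⟩
  · rw [mul_smul, mul_smul, hku, inv_smul_smul]
  · rw [mul_smul, mul_smul, hg, hk, ← hg', inv_smul_smul]

/-- the same with inner product `-16` -/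
theorem pair_transitive_48_32_neg {v x v' x' : leechLattice} (hv : ldot v v = 48)
    (hx : ldot x x = 32) (hd : ldot v x = -16) (hv' : ldot v' v' = 48) (hx' : ldot x' x' = 32)
    (hd' : ldot v' x' = -16) : ∃ g : Co0, g • v = v' ∧ g • x = x' := by
  obtain ⟨g, h1, h2⟩ := pair_transitive_48_32 (x := -x) (x' := -x') hv
    (by rw [leechLike.norm_neg, hx]) (by rw [leechLike.neg_left, ldot_comm, hd]; rfl) hv'
    (by rw [leechLike.norm_neg, hx']) (by rw [leechLike.neg_left, ldot_comm, hd']; rfl)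
  exact ⟨g, h1, neg_injective (by rw [← co0_neg, h2])⟩

/-- two vectors of norm 48 with inner product -32 can be exchanged -/
theorem exists_swap {v w : leechLattice} (hv : ldot v v = 48) (hw : ldot w w = 48)
    (hd : ldot v w = -32) : ∃ g : Co0, g • v = w ∧ g • w = v := by
  have hx : ldot (v + w) (v + w) = 32 := by rw [leechLike.norm_add, hv, hw, hd]; norm_num
  obtain ⟨g, h1, h2⟩ := pair_transitive_48_32 hv hx
    (by rw [leechLike.add_left, hv, ldot_comm w v, hd]; norm_num) hw hx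
    (by rw [leechLike.add_left, hd, hw]; norm_num)
  refine ⟨g, h1, ?_⟩
  have e : g • w = g • (v + w) - g • v := by rw [co0_add, add_sub_cancel_left]
  rw [e, h2, h1, add_sub_cancel_right]

end Lam
end H96
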