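import Cfsg.Agent.H95.Census
import Cfsg.Agent.H95.Orbits
import Cfsg.Agent.H95.Unique

/-!
Inner products of minimal vectors with a vector of norm 48.
-/

set_option autoImplicit false

namespace H96
namespace Census48

open Cfsg Finset H95

/-- fourth moments of the minimal vectors are isotropic -/
theorem moment_abcd (a b c d : GolayPt) :
    ∑ x ∈ minSet, x a * x b * x c * x d = 322560 * ((if a = b ∧ c = d then 1 else 0)
      + (if a = c ∧ b = d then 1 else 0) + (if a = d ∧ b = c then 1 else 0)) := by
  classical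
  have odd : ∀ p q r s : GolayPt, p ≠ q → p ≠ r → p ≠ s →
      ∑ x ∈ minSet, x p * x q * x r * x s = 0 := by
    intro p q r s hq hr hs
    obtain ⟨w, hw, hws⟩ := exists_code_small ({p, q, r, s} : Finset GolayPt)
      (le_trans card_le_four (by norm_num)) (Pi.single p 1)
    have mp : p ∈ support₂ w := by simp [support₂, hws p (by simp)]
    have mq : q ∉ support₂ w := by simp [support₂, hws q (by simp), hq.symm]
    have mr : r ∉ support₂ w := by simp [support₂, hws r (by simp), hr.symm]
    have ms : s ∉ support₂ w := by simp [support₂, hws s (by simp), hs.symm]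
    have h := sum_minSet_sign ⟨w, hw, rfl⟩ fun x => x p * x q * x r * x s
    simp only [if_pos mp, if_neg mq, if_neg mr, if_neg ms, neg_mul, sum_neg_distrib] at h
    linarith
  have two : ∀ p q : GolayPt, ∑ x ∈ minSet, x p * x p * x q * x q =
      322560 * (1 + (if p = q then 1 else 0) + (if p = q then 1 else 0)) := by
    intro p q
    rcases eq_or_ne p q with rfl | h
    · rw [sum_congr rfl (fun x _ => show x p * x p * x p * x p = x p ^ 4 by ring), moment_four]
      simp
    · rw [sum_congr rfl (fun x _ => show x p * x p * x q * x q = x p ^ 2 * x q ^ 2 by ring),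
        moment_mixed h]
      simp [h]
  by_cases hab : a = b
  · subst hab
    by_cases hcd : c = d
    · subst hcd; rw [two]; simp
    · by_cases hca : c = a
      · subst hca
        rw [sum_congr rfl (fun x _ => show x c * x c * x c * x d = x d * x c * x c * x c by ring),
          odd d c c c (Ne.symm hcd) (Ne.symm hcd) (Ne.symm hcd)]
        simp [hcd]
      · rw [sum_congr rfl (fun x _ => show x a * x a * x c * x d = x c * x a * x a * x d by ring),
          odd c a a d hca hca hcd]
        simp [hcd, Ne.symm hca]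
  · by_cases hac : a = c
    · subst hac
      by_cases hbd : b = d
      · subst hbd
        rw [sum_congr rfl (fun x _ => show x a * x b * x a * x b = x a * x a * x b * x b by ring),
          two]
        simp [hab]
      · rw [sum_congr rfl (fun x _ => show x a * x b * x a * x d = x b * x a * x a * x d by ring),
          odd b a a d (Ne.symm hab) (Ne.symm hab) hbd]
        simp [hab, hbd, Ne.symm hab]
    · by_cases had : a = d
      · subst had
        by_cases hbc : b = c
        · subst hbc
          rw [sum_congr rfl (fun x _ => show x a * x b * x b * x a = x a * x a * x b * x b by ring),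
            two]
          simp [hab]
        · rw [sum_congr rfl (fun x _ => show x a * x b * x c * x a = x b * x a * x c * x a by ring),
            odd b a c a (Ne.symm hab) hbc (Ne.symm hab)]
          simp [hab, hac, hbc]
      · rw [odd a b c d hab hac had]; simp [hab, hac, had]

theorem moment_ab (a b : GolayPt) :
    ∑ x ∈ minSet, x a * x b = 262080 * if a = b then 1 else 0 := by
  rcases eq_or_ne a b with rfl | h
  · rw [sum_congr rfl (fun x _ => (sq (x a)).symm), moment_two]; simp
  · rw [sum_odd_zero h (fun s t => s * t) (fun s t => by ring)]; simp [h]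

theorem moment_dot_two (u : GolayPt → ℤ) :
    ∑ x ∈ minSet, dotInt u x ^ 2 = 262080 * sqNorm u := by
  have e : ∀ x, dotInt u x ^ 2 = ∑ a, ∑ b, u a * u b * (x a * x b) := by
    intro x
    rw [sq, dotInt, sum_mul_sum]
    exact sum_congr rfl fun a _ => sum_congr rfl fun b _ => by ring
  simp only [e]
  rw [sum_comm, sqNorm, mul_sum]
  refine sum_congr rfl fun a _ => ?_
  rw [sum_comm, sum_congr rfl (fun b _ => (mul_sum minSet (fun x => x a * x b) (u a * u b)).symm)]
  simp only [moment_ab, mul_ite, mul_one, mul_zero, sum_ite_eq, mem_univ, if_true]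
  ring

theorem moment_dot_four (u : GolayPt → ℤ) :
    ∑ x ∈ minSet, dotInt u x ^ 4 = 967680 * sqNorm u ^ 2 := by
  have e : ∀ x, dotInt u x ^ 4
      = ∑ a, ∑ b, ∑ c, ∑ d, u a * u b * u c * u d * (x a * x b * x c * x d) := by
    intro x
    rw [show dotInt u x ^ 4
        = dotInt u x * (dotInt u x * (dotInt u x * dotInt u x)) by ring]
    simp only [dotInt, sum_mul, mul_sum]
    exact sum_congr rfl fun a _ => sum_congr rfl fun b _ => sum_congr rfl fun c _ =>
      sum_congr rfl fun d _ => by ring
  simp only [e]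
  rw [sum_comm]
  have : ∀ a, ∑ x ∈ minSet, ∑ b, ∑ c, ∑ d, u a * u b * u c * u d * (x a * x b * x c * x d)
      = ∑ b, ∑ c, ∑ d, u a * u b * u c * u d * ∑ x ∈ minSet, x a * x b * x c * x d := by
    intro a
    rw [sum_comm]
    refine sum_congr rfl fun b _ => ?_
    rw [sum_comm]
    refine sum_congr rfl fun c _ => ?_
    rw [sum_comm]
    exact sum_congr rfl fun d _ => (mul_sum _ _ _).symm
  simp only [this, moment_abcd, mul_add, sum_add_distrib, mul_ite, mul_one, mul_zero, ite_and,
    sum_ite_eq, mem_univ, if_true, sum_ite_irrel, sum_const_zero]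
  have h1 : ∑ a, ∑ c, u a * u a * u c * u c * 322560 = 322560 * sqNorm u ^ 2 := by
    rw [sqNorm, sq, sum_mul_sum, mul_sum]
    refine sum_congr rfl fun a _ => ?_
    rw [mul_sum]
    exact sum_congr rfl fun c _ => by ring
  have h2 : ∑ a, ∑ b, u a * u b * u a * u b * 322560 = 322560 * sqNorm u ^ 2 := by
    rw [← h1]; exact sum_congr rfl fun a _ => sum_congr rfl fun b _ => by ring
  have h3 : ∑ a, ∑ b, u a * u b * u b * u a * 322560 = 322560 * sqNorm u ^ 2 := by
    rw [← h1]; exact sum_congr rfl fun a _ => sum_congr rfl fun b _ => by ring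
  rw [h1, h2, h3]
  ring

theorem ncard_dot_neg16 (u : leechLattice) (hu : sqNorm (u : GolayPt → ℤ) = 48) :
    {x : leechLattice | sqNorm (x : GolayPt → ℤ) = 32 ∧
      dotInt (u : GolayPt → ℤ) (x : GolayPt → ℤ) = -16}.ncard = 11178 := by
  classical
  set N : ℤ → ℤ := fun s =>
    ((minSet.filter fun x => dotInt (u : GolayPt → ℤ) x = s).card : ℤ) with hN
  have hconv : ∀ s, ({x : leechLattice | sqNorm (x : GolayPt → ℤ) = 32 ∧
      dotInt (u : GolayPt → ℤ) (x : GolayPt → ℤ) = s}.ncard : ℤ) = N s := by
    intro s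
    rw [hN, ← Set.ncard_image_of_injective _ Subtype.val_injective]
    beta_reduce
    rw [← Set.ncard_coe_finset]
    congr 2
    ext x
    simp only [Set.mem_image, Set.mem_ofPred_eq, coe_filter, mem_minSet]
    constructor
    · rintro ⟨y, ⟨h1, h2⟩, rfl⟩; exact ⟨⟨y.2, h1⟩, h2⟩
    · rintro ⟨⟨h1, h2⟩, h3⟩; exact ⟨⟨x, h1⟩, ⟨h2, h3⟩, rfl⟩
  have hd2 : ∀ x : GolayPt → ℤ, sqNorm x = 32 →
      sqNorm ((u : GolayPt → ℤ) - x) = 80 - 2 * dotInt (u : GolayPt → ℤ) x := by
    intro x hx
    rw [show 80 = sqNorm (u : GolayPt → ℤ) + sqNorm x by rw [hu, hx]; norm_num]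
    simp only [sqNorm, dotInt, mul_sum, ← sum_add_distrib, ← sum_sub_distrib, Pi.sub_apply]
    exact sum_congr rfl fun i _ => by ring
  have h24 : N 24 = 552 := by
    rw [← hconv]
    have e := ncard_summands golayUnique (u := u) ((sqNorm_eq_ldot u).symm.trans hu)
    simp only [summands, ← sqNorm_eq_ldot, AddSubgroup.coe_sub] at e
    refine (congrArg (fun n : ℕ => (n : ℤ)) (Eq.trans ?_ e)).trans rfl
    congr 1
    ext x
    constructor
    · rintro ⟨h1, h2⟩; exact ⟨h1, by rw [hd2 _ h1, h2]; norm_num⟩
    · rintro ⟨h1, h2⟩; exact ⟨h1, by rw [hd2 _ h1] at h2; omega⟩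
  have hneg : ∀ s, N (-s) = N s := by
    intro s
    have hm : ∀ x ∈ minSet, -x ∈ minSet := by
      intro x hx
      rw [mem_minSet] at hx ⊢
      exact ⟨neg_mem hx.1, by rw [← hx.2]; simp [sqNorm]⟩
    have hdn : ∀ x, dotInt (u : GolayPt → ℤ) (-x) = -dotInt (u : GolayPt → ℤ) x := fun x => by
      simp [dotInt]
    show ((_ : Finset _).card : ℤ) = _
    congr 1
    apply card_nbij' (fun x => -x) (fun x => -x)
    · intro x hx
      simp only [coe_filter, Set.mem_ofPred_eq, hdn] at hx ⊢
      exact ⟨hm x hx.1, by omega⟩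
    · intro x hx
      simp only [coe_filter, Set.mem_ofPred_eq, hdn] at hx ⊢
      exact ⟨hm x hx.1, by omega⟩
    · intro x _; simp
    · intro x _; simp
  have hvals : ∀ x ∈ minSet,
      dotInt (u : GolayPt → ℤ) x ∈ ({-24, -16, -8, 0, 8, 16, 24} : Finset ℤ) := by
    intro x hx
    obtain ⟨hL, hn⟩ := mem_minSet.mp hx
    have h8 := dot_leech golayOK u.2 hL
    have hne : ∀ y : GolayPt → ℤ, sqNorm y = 32 → (u : GolayPt → ℤ) - y ≠ 0 := fun y hy h => by
      rw [sub_eq_zero] at h
      rw [h, hy] at hu
      norm_num at hu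
    have a := min_leech golayOK (sub_mem u.2 hL) (hne x hn)
    have hn' : sqNorm (-x) = 32 := by rw [← hn]; simp [sqNorm]
    have b := min_leech golayOK (sub_mem u.2 (neg_mem hL)) (hne _ hn')
    rw [hd2 x hn] at a
    rw [hd2 _ hn', show dotInt (u : GolayPt → ℤ) (-x) = -dotInt (u : GolayPt → ℤ) x from by
      simp [dotInt]] at b
    simp only [mem_insert, mem_singleton]
    omega
  have hmom : ∀ f : ℤ → ℤ, ∑ x ∈ minSet, f (dotInt (u : GolayPt → ℤ) x) =
      N (-24) * f (-24) + (N (-16) * f (-16) + (N (-8) * f (-8) + (N 0 * f 0 + (N 8 * f 8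
        + (N 16 * f 16 + N 24 * f 24))))) := by
    intro f
    rw [← sum_fiberwise_of_maps_to hvals]
    have : ∀ s, ∑ x ∈ minSet with dotInt (u : GolayPt → ℤ) x = s,
        f (dotInt (u : GolayPt → ℤ) x) = N s * f s := by
      intro s
      rw [sum_congr rfl (fun x hx => by rw [(mem_filter.mp hx).2]), sum_const, nsmul_eq_mul]
    simp only [this]
    rw [sum_insert (by decide), sum_insert (by decide), sum_insert (by decide),
      sum_insert (by decide), sum_insert (by decide), sum_insert (by decide), sum_singleton]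
  have m0 := hmom fun _ => 1
  have m2 := hmom fun s => s ^ 2
  have m4 := hmom fun s => s ^ 4
  rw [sum_const, card_minSet, nsmul_eq_mul] at m0
  rw [moment_dot_two, hu] at m2
  rw [moment_dot_four, hu] at m4
  have n24 := hneg 24
  have n16 := hneg 16
  have n8 := hneg 8
  norm_num at m0 m2 m4 n24 n16 n8
  have : N (-16) = 11178 := by linarith
  have := (hconv (-16)).trans this
  exact_mod_cast this

end Census48
end H96
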