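import Cfsg.Agent.H95.HSSimple
import Cfsg.Agent.H96.Census48
import Cfsg.Agent.H90.Orbits

/-!
The 100 minimal vectors of the Higman–Sims configuration.
-/

set_option autoImplicit false

namespace H96
namespace HS100

open Cfsg Finset H95

theorem card_group : Nat.card pvU'.group = 44352000 := by
  refine card_hs_model ?_
  simp only [← sqNorm_eq_ldot]
  exact Census48.ncard_dot_neg16 Spor.leechV ((sqNorm_eq_ldot _).trans leechV_norm)

/-- the hundred points in the model -/
def pts : Set leechLattice :=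
  {x | ldot x x = 32 ∧ ldot Spor.leechV x = 24 ∧ ldot pvU'.w x = 0}

/-- the point fixed by the two point stabiliser of `M24` -/
noncomputable def base : leechLattice :=
  quad none (some 0) (by simp) (-1) (-1) (Or.inr rfl) (Or.inr rfl)

theorem base_eq : (base : GolayPt → ℤ) = Pi.single none (-4) + Pi.single (some 0) (-4) := by
  simp [base, quad]

theorem base_mem : base ∈ pts := by
  refine ⟨quad_norm _ _ _, ?_, ?_⟩
  · rw [base, ldot_quad, leechV_none, leechV_some]; norm_num
  · rw [base, ldot_quad, pvU'.h0, pvU'.h1]; norm_num [pvU']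

theorem ldot_base (y : leechLattice) :
    ldot base y = -4 * ((y : GolayPt → ℤ) none + (y : GolayPt → ℤ) (some 0)) := by
  rw [ldot_comm, base, ldot_quad]; ring

/-- a vector `3, (-1)^23` -/
def oddFun (l : GolayPt) : GolayPt → ℤ := fun i => if i = l then 3 else -1

/-- an octad vector `(-2)^8` -/
def octFun (a : GolayPt → ZMod 2) : GolayPt → ℤ := fun i => -2 * ((a i).val : ℤ)

theorem dot_const' (x : leechLattice) :
    ldot Spor.leechV x = -4 * (x : GolayPt → ℤ) none - ∑ i, (x : GolayPt → ℤ) i := by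
  rw [ldot_comm, dot_const leechV_none leechV_some, H95.sum_option]; ring

theorem classify {x : leechLattice} (hx : x ∈ pts) :
    x = base ∨ (∃ l, l ≠ none ∧ l ≠ some 0 ∧ (x : GolayPt → ℤ) = oddFun l) ∨
      ∃ a ∈ golayCode, hammingNorm a = 8 ∧ a none ≠ 0 ∧ a (some 0) ≠ 0 ∧
        (x : GolayPt → ℤ) = octFun a := by
  classical
  obtain ⟨hn, hv, hu⟩ := hx
  rw [← sqNorm_eq_ldot] at hn
  rw [dot_const'] at hv
  rw [ldot_comm, pvU'.dot] at hu
  norm_num [pvU'] at hu
  by_cases hodd : 2 ∣ (x : GolayPt → ℤ) none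
  · by_cases h4 : ∃ k, (x : GolayPt → ℤ) k % 4 = 2
    · right; right
      obtain ⟨k, hk⟩ := h4
      obtain ⟨a, ha, ha8, hsh⟩ := octad_shape x.2 hn hk
      have hle : ∀ i, octFun a i ≤ (x : GolayPt → ℤ) i := by
        intro i
        rcases hsh i with ⟨h, h'⟩ | ⟨h, h'⟩
        · simp [octFun, h, h']
        · rw [octFun, eq_one_of_ne h, show (((1 : ZMod 2).val : ℕ) : ℤ) = 1 from rfl]; omega
      have hsum : ∑ i, octFun a i = -16 := by
        simp only [octFun]; rw [← mul_sum, sum_val, ha8]; rfl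
      have hS := sum_le_sum (s := univ) fun i _ => hle i
      rw [hsum] at hS
      have hx0 : (x : GolayPt → ℤ) none = -2 := by
        rcases hsh none with ⟨-, h⟩ | ⟨-, h⟩ <;> omega
      have heq : ∀ i, octFun a i = (x : GolayPt → ℤ) i := fun i =>
        (sum_eq_sum_iff_of_le fun i _ => hle i).mp (by rw [hsum]; omega) i (mem_univ i)
      refine ⟨a, ha, ha8, ?_, ?_, (funext heq).symm⟩
      · rcases hsh none with ⟨-, h⟩ | ⟨h, -⟩
        · omega
        · exact h
      · rcases hsh (some 0) with ⟨-, h⟩ | ⟨h, -⟩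
        · omega
        · exact h
    · left
      push Not at h4
      have hvals : ∀ i, (x : GolayPt → ℤ) i = 0 ∨ (x : GolayPt → ℤ) i = 4 ∨
          (x : GolayPt → ℤ) i = -4 := by
        intro i
        have := abs_le_of_sqNorm (R := 5) hn (by norm_num) (by norm_num) i
        have := parity_leech x.2 i none
        have := h4 i
        omega
      set f : GolayPt → ℤ := fun i => (x : GolayPt → ℤ) i ^ 2 + 4 * (x : GolayPt → ℤ) i with hf
      have hfnn : ∀ i, 0 ≤ f i := fun i => by
        rcases hvals i with h | h | h <;> simp [hf, h]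
      have hsum : ∑ i, f i = 32 + 4 * ∑ i, (x : GolayPt → ℤ) i := by
        rw [hf, sum_add_distrib, ← mul_sum, ← hn]; rfl
      have hS : -8 ≤ ∑ i, (x : GolayPt → ℤ) i := by
        have := sum_nonneg fun i (_ : i ∈ univ) => hfnn i
        omega
      have hx0 : (x : GolayPt → ℤ) none = -4 := by
        rcases hvals none with h | h | h <;> omega
      have hrest : ∀ i, i ≠ none → i ≠ some 0 → (x : GolayPt → ℤ) i = 0 := by
        intro i h1 h2
        have h3 := sum_le_sum_of_subset_of_nonneg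
          (f := fun j => (x : GolayPt → ℤ) j ^ 2) (subset_univ ({i, none, some 0} : Finset GolayPt))
          (fun j _ _ => sq_nonneg _)
        rw [sum_insert (by simp [h1, h2]), sum_pair (by simp), hx0,
          show (x : GolayPt → ℤ) (some 0) = -4 by omega] at h3
        have h4 : (x : GolayPt → ℤ) i ^ 2 ≤ 0 := by
          have : ∑ j, (x : GolayPt → ℤ) j ^ 2 = 32 := hn
          linarith
        exact sq_eq_zero_iff.mp (le_antisymm h4 (sq_nonneg _))
      refine Subtype.ext ?_
      rw [base_eq]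
      funext i
      by_cases h1 : i = none
      · subst h1; simp [hx0]
      by_cases h2 : i = some 0
      · subst h2; simp; omega
      · simp [hrest i h1 h2, h1, h2]
  · right; left
    obtain ⟨l, hl, hrest⟩ := odd_shape x.2 hn (k := none) hodd
    have hln : l ≠ none := by
      rintro rfl; have := hrest (some 0) (by simp); omega
    have hl0 : l ≠ some 0 := by
      rintro rfl; have := hrest none (by simp); omega
    have hxn := hrest none (Ne.symm hln)
    obtain ⟨m, hm, a, ha, z, hz, -⟩ := exists_form x.2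
    have hm1 : m = 1 := by have := hz none; omega
    subst hm1
    have hc : ∀ i, (x : GolayPt → ℤ) i =
        -1 + 2 * (((1 + a) i).val : ℤ) + if i = l then (if (x : GolayPt → ℤ) l = 3 then 4 else -4) else 0 := by
      intro i
      have hzi := hz i
      have hval : ((a i).val : ℤ) + (((1 + a) i).val : ℤ) = 1 := by
        rcases zmod2_cases (a i) with h | h <;> simp [h] <;> rfl
      have := zmod2_val_lt (a i)
      by_cases hil : i = l
      · subst hil; rw [if_pos rfl]; split <;> omega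
      · rw [if_neg hil]; have := hrest i hil; omega
    have hsum : ∑ i, (x : GolayPt → ℤ) i =
        -24 + 2 * (hammingNorm (1 + a) : ℤ) + if (x : GolayPt → ℤ) l = 3 then 4 else -4 := by
      rw [sum_congr rfl (fun i _ => hc i), sum_add_distrib, sum_add_distrib, ← mul_sum, sum_val,
        sum_const, card_univ, sum_ite_eq' univ l, if_pos (mem_univ l)]
      rfl
    have hca := norm_cases golayOK (add_mem one_mem_code ha)
    have hbit : ((1 + a) none).val ≤ hammingNorm (1 + a) := by
      have h' : (((1 + a) none).val : ℤ) ≤ (hammingNorm (1 + a) : ℤ) := by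
        rw [← sum_val]
        exact single_le_sum (f := fun i => (((1 + a) i).val : ℤ)) (fun i _ => by positivity) (mem_univ none)
      exact_mod_cast h'
    have hcn := hc none
    rw [if_neg (Ne.symm hln), add_zero] at hcn
    have h3 : (x : GolayPt → ℤ) l = 3 ∧ hammingNorm (1 + a) = 0 := by
      generalize hc' : hammingNorm (1 + a) = c at hbit hsum hca ⊢
      generalize hbv : ((1 + a) none).val = bt at hbit hcn
      rcases hxn with h | h <;> rw [h] at hv hcn <;> split at hsum <;> rename_i hh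
      all_goals first
        | exact ⟨hh, by omega⟩
        | (exfalso; omega)
    refine ⟨l, hln, hl0, funext fun i => ?_⟩
    rw [hc i, show (1 + a) i = 0 from congrFun (hammingNorm_eq_zero.mp h3.2) i, h3.1]
    simp only [oddFun, ZMod.val_zero, Nat.cast_zero, mul_zero, add_zero, if_true]
    split <;> rfl

theorem dot_oct {y : leechLattice} {a : GolayPt → ZMod 2} (ha : a none ≠ 0) (ha' : a (some 0) ≠ 0)
    (hy : (y : GolayPt → ℤ) = octFun a) : ldot base y = 16 := by
  rw [ldot_base, hy]; simp [octFun, eq_one_of_ne ha, eq_one_of_ne ha']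
  rfl

theorem dot_odd {y : leechLattice} {l : GolayPt} (hl : l ≠ none) (hl' : l ≠ some 0)
    (hy : (y : GolayPt → ℤ) = oddFun l) : ldot base y = 8 := by
  rw [ldot_base, hy]; simp [oddFun, Ne.symm hl, Ne.symm hl']

theorem octad_pairs :
    (((List.range 4096).filter fun n => Nat.beq (H90.popc (H90.encode n)) 8 &&
      (H90.encode n).testBit (H90.idx none).val &&
      (H90.encode n).testBit (H90.idx (some 0)).val).map H90.encode).length = 77 := by
  decide +kernel

theorem small_sets : (pts ∩ {y | ldot base y = 8}).ncard ≤ 22 ∧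
    (pts ∩ {y | ldot base y = 16}).ncard ≤ 77 ∧
    ∀ y ∈ pts, y = base ∨ ldot base y = 8 ∨ ldot base y = 16 := by
  classical
  have h32 : ldot base base = 32 := quad_norm _ _ _
  refine ⟨?_, ?_, fun y hy => ?_⟩
  · let s : Finset (GolayPt → ℤ) := ((univ.erase none).erase (some 0)).image oddFun
    refine le_trans (Set.ncard_le_ncard_of_injOn (t := (s : Set (GolayPt → ℤ)))
      (fun y : leechLattice => (y : GolayPt → ℤ)) ?_ (fun _ _ _ _ h => Subtype.ext h)) ?_
    · rintro y ⟨hy, hd⟩
      rcases classify hy with rfl | ⟨l, h1, h2, h⟩ | ⟨a, -, -, h1, h2, h⟩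
      · rw [Set.mem_ofPred_eq, h32] at hd; norm_num at hd
      · exact mem_coe.mpr (mem_image.mpr ⟨l, by simp [h1, h2], h.symm⟩)
      · rw [Set.mem_ofPred_eq, dot_oct h1 h2 h] at hd; norm_num at hd
    · rw [Set.ncard_coe_finset]
      exact le_trans card_image_le (by decide)
  · let L := ((List.range 4096).filter fun n => Nat.beq (H90.popc (H90.encode n)) 8 &&
      (H90.encode n).testBit (H90.idx none).val &&
      (H90.encode n).testBit (H90.idx (some 0)).val).map H90.encode
    let s : Finset (GolayPt → ℤ) := L.toFinset.image fun m => octFun (H90.wordOf m)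
    refine le_trans (Set.ncard_le_ncard_of_injOn (t := (s : Set (GolayPt → ℤ)))
      (fun y : leechLattice => (y : GolayPt → ℤ)) ?_ (fun _ _ _ _ h => Subtype.ext h)) ?_
    · rintro y ⟨hy, hd⟩
      rcases classify hy with rfl | ⟨l, h1, h2, h⟩ | ⟨a, ha, ha8, h1, h2, h⟩
      · rw [Set.mem_ofPred_eq, h32] at hd; norm_num at hd
      · rw [Set.mem_ofPred_eq, dot_odd h1 h2 h] at hd; norm_num at hd
      · obtain ⟨n, hn, rfl⟩ := H90.mem_golayCode_iff.mp ha
        refine mem_coe.mpr (mem_image.mpr ⟨H90.encode n, List.mem_toFinset.mpr ?_, h.symm⟩)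
        refine List.mem_map.mpr ⟨n, List.mem_filter.mpr ⟨List.mem_range.mpr hn, ?_⟩, rfl⟩
        rw [H90.hammingNorm_wordOf] at ha8
        simp only [H90.wordOf, ne_eq, ite_eq_right_iff, one_ne_zero, imp_false, not_not] at h1 h2
        rw [ha8, h1, h2]
        rfl
    · rw [Set.ncard_coe_finset]
      exact le_trans card_image_le (le_trans (List.toFinset_card_le _) octad_pairs.le)
  · rcases classify hy with h | ⟨l, h1, h2, h⟩ | ⟨a, -, -, h1, h2, h⟩
    · exact Or.inl h
    · exact Or.inr (Or.inl (dot_odd h1 h2 h))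
    · exact Or.inr (Or.inr (dot_oct h1 h2 h))

theorem stab_base :
    (pvU'.group ⊓ MulAction.stabilizer Co0 base : Subgroup Co0) =
      pvU'.hom.range.map pvU'.group.subtype := by
  apply le_antisymm
  · rintro g ⟨hg, hgb⟩
    have hgb : g • base = base := hgb
    have he : g • eight none = eight none := by
      have e : eight none = pvU'.w - base := Subtype.ext (by
        funext i
        rcases i with _ | x
        · simp [eight, base_eq, pvU'.h0]
        · by_cases hx : x = 0
          · subst hx; simp [eight, base_eq, pvU'.h1]; rfl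
          · simp [eight, base_eq, pvU'.h2 x hx, hx])
      rw [e, co0_sub, hgb, show g • pvU'.w = pvU'.w from hg.2]
    obtain ⟨σ, hσ, rfl⟩ := mono_of_const he leechV_some (by norm_num) hg.1
    have h' : σ.1 (some 0) = some 0 := by
      have e := congrArg (fun v : leechLattice => (v : GolayPt → ℤ) (σ.1 (some 0))) hgb
      simp only [permHom_apply, Equiv.symm_apply_apply, base_eq] at e
      by_contra hne
      have h1 : σ.1 (some 0) ≠ none := fun h => by
        simpa using σ.1.injective (h.trans hσ.symm)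
      simp [hne, h1] at e
    exact ⟨pvU'.hom ⟨σ, hσ, h'⟩, ⟨_, rfl⟩, rfl⟩
  · rintro _ ⟨k, ⟨σ, rfl⟩, rfl⟩
    refine ⟨(pvU'.hom σ).2, ?_⟩
    refine MulAction.mem_stabilizer_iff.mpr (Subtype.ext (funext fun i => ?_))
    show ((permHom σ.1 • base : leechLattice) : GolayPt → ℤ) i = _
    have h1 : σ.1.1 none = none := σ.2.1
    have h2 : σ.1.1 (some 0) = some 0 := σ.2.2
    rw [permHom_apply, base_eq]
    simp only [Pi.add_apply, Pi.single_apply, Equiv.symm_apply_eq, h1, h2]

theorem card_stab_base :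
    Nat.card ↥(pvU'.group ⊓ MulAction.stabilizer Co0 base) = 443520 := by
  rw [stab_base, Nat.card_congr (Subgroup.equivMapOfInjective _ pvU'.group.subtype
    Subtype.val_injective).symm.toEquiv,
    ← Nat.card_congr (MonoidHom.ofInjective pvU'.hom_injective).toEquiv]
  exact H90.natCard_stab_pair (by simp)

theorem pts_inv {g : Co0} (hg : g ∈ pvU'.group) {x : leechLattice} (hx : x ∈ pts) : g • x ∈ pts := by
  refine ⟨by rw [co0_dot]; exact hx.1, ?_, ?_⟩
  · conv_lhs => rw [← (hg.1 : g • Spor.leechV = Spor.leechV)]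
    rw [co0_dot]; exact hx.2.1
  · conv_lhs => rw [← (hg.2 : g • pvU'.w = pvU'.w)]
    rw [co0_dot]; exact hx.2.2

theorem main : pts.ncard = 100 ∧ (pts ∩ {y | ldot base y = 8}).ncard = 22 ∧
    (pts ∩ {y | ldot base y = 16}).ncard = 77 ∧ ∀ x ∈ pts, ∃ g ∈ pvU'.group, g • base = x := by
  classical
  set O : Set leechLattice := {x | ∃ g ∈ pvU'.group, g • base = x} with hO
  have hcard := H90.natCard_inf_stabilizer pvU'.group base O fun q => Iff.rfl
  rw [card_stab_base, card_group] at hcard
  have hO100 : O.ncard = 100 := by omega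
  have hOsub : O ⊆ pts := by rintro _ ⟨g, hg, rfl⟩; exact pts_inv hg base_mem
  have hfin : pts.Finite := (leechLike.finite_norm (Or.inl rfl)).subset fun x hx => hx.1
  obtain ⟨h22, h77, hcases⟩ := small_sets
  have hunion : pts ⊆ {base} ∪ (pts ∩ {y | ldot base y = 8}) ∪ (pts ∩ {y | ldot base y = 16}) := by
    intro y hy
    rcases hcases y hy with h | h | h
    · exact Or.inl (Or.inl h)
    · exact Or.inl (Or.inr ⟨hy, h⟩)
    · exact Or.inr ⟨hy, h⟩
  have hle := le_trans (Set.ncard_le_ncard hunion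
    (((Set.finite_singleton base).union (hfin.inter_of_left _)).union (hfin.inter_of_left _)))
    (le_trans (Set.ncard_union_le _ _) (Nat.add_le_add_right (Set.ncard_union_le _ _) _))
  rw [Set.ncard_singleton] at hle
  have hge := Set.ncard_le_ncard hOsub hfin
  have heq : O = pts := Set.eq_of_subset_of_ncard_le hOsub (by omega) hfin
  refine ⟨by omega, by omega, by omega, fun x hx => ?_⟩
  rw [← heq] at hx
  exact hx

theorem rank_three {y y' : leechLattice} (hy : y ∈ pts) (hy' : y' ∈ pts) (h : y ≠ base)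
    (h' : y' ≠ base) (hd : ldot base y = ldot base y') :
    ∃ g ∈ pvU'.group, g • base = base ∧ g • y = y' := by
  have key : ∀ σ : m22Grp, ∀ (i : GolayPt) (z : leechLattice),
      (((pvU'.hom σ).1 • z : leechLattice) : GolayPt → ℤ) i = (z : GolayPt → ℤ) (σ.1.1.symm i) :=
    fun σ i z => permHom_apply σ.1 z i
  have fixb : ∀ σ : m22Grp, (pvU'.hom σ).1 • base = base := fun σ => by
    have : (pvU'.hom σ).1 ∈ pvU'.group ⊓ MulAction.stabilizer Co0 base := by
      rw [stab_base]; exact ⟨_, ⟨σ, rfl⟩, rfl⟩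
    exact this.2
  rcases classify hy with hb | ⟨l, l1, l2, hl⟩ | ⟨a, ha, ha8, a1, a2, hla⟩
  · exact absurd hb h
  · rcases classify hy' with hb | ⟨l', l1', l2', hl'⟩ | ⟨a', -, -, a1', a2', hla'⟩
    · exact absurd hb h'
    · obtain ⟨τ, hτ, t1, t2, t3⟩ := m24_move_three (p := none) (q := some 0) (r := l)
        (p' := none) (q' := some 0) (r' := l') (by simp) l1.symm l2.symm (by simp) l1'.symm l2'.symm
      refine ⟨_, (pvU'.hom ⟨⟨τ, hτ⟩, t1, t2⟩).2, fixb _, Subtype.ext (funext fun i => ?_)⟩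
      rw [key, hl, hl']
      simp only [oddFun, Equiv.symm_apply_eq, t3]
    · rw [dot_odd l1 l2 hl, dot_oct a1' a2' hla'] at hd; norm_num at hd
  · rcases classify hy' with hb | ⟨l', l1', l2', hl'⟩ | ⟨a', ha', ha8', a1', a2', hla'⟩
    · exact absurd hb h'
    · rw [dot_oct a1 a2 hla, dot_odd l1' l2' hl'] at hd; norm_num at hd
    · obtain ⟨τ, hτ, t1, t2, t3⟩ := m24_move_octad (p := none) (q := some 0) (by simp)
        ha ha8 a1 a2 ha' ha8' a1' a2'
      refine ⟨_, (pvU'.hom ⟨⟨τ, hτ⟩, t1, t2⟩).2, fixb _, Subtype.ext (funext fun i => ?_)⟩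
      rw [key, hla, hla']
      show octFun a (τ.symm i) = octFun a' i
      rw [octFun, octFun, ← congrFun t3 i]

/-! ### Moving to the model -/

theorem exists_model {v w : leechLattice} (hv : sqNorm (v : GolayPt → ℤ) = 48)
    (hw : sqNorm (w : GolayPt → ℤ) = 48)
    (hd : dotInt (v : GolayPt → ℤ) (w : GolayPt → ℤ) = -32) :
    ∃ g : Co0, g • v = Spor.leechV ∧ g • w = -(Spor.leechV + pvU'.w) ∧
      ∀ x : leechLattice, (sqNorm (x : GolayPt → ℤ) = 32 ∧
        dotInt (v : GolayPt → ℤ) (x : GolayPt → ℤ) = 24 ∧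
        dotInt (w : GolayPt → ℤ) (x : GolayPt → ℤ) = -24) ↔ g • x ∈ pts := by
  rw [sqNorm_eq_ldot] at hv hw
  replace hd : ldot v w = -32 := hd
  have hx : ldot (-(v + w)) (-(v + w)) = 32 := by
    rw [leechLike.norm_neg, leechLike.norm_add, hv, hw, hd]; norm_num
  have hxd : ldot v (-(v + w)) = -16 := by
    rw [leechLike.neg_right, leechLike.add_right, hv, hd]; norm_num
  obtain ⟨g, h1, h2⟩ := Lam.pair_transitive_48_32_neg hv hx hxd leechV_norm pvU'.norm pvU'_dot
  have h2' : g • w = -(Spor.leechV + pvU'.w) := by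
    rw [← h1, ← h2, ← co0_add, ← co0_neg]
    congr 1
    abel
  refine ⟨g, h1, h2', fun x => ?_⟩
  show _ ↔ ldot (g • x) (g • x) = 32 ∧ ldot Spor.leechV (g • x) = 24 ∧ ldot pvU'.w (g • x) = 0
  rw [sqNorm_eq_ldot, co0_dot, ← h1, co0_dot, ← h2, co0_dot, leechLike.neg_left,
    leechLike.add_left]
  show ldot x x = 32 ∧ ldot v x = 24 ∧ ldot w x = -24 ↔ _
  constructor
  · rintro ⟨a, b, c⟩; exact ⟨a, b, by rw [b, c]; rfl⟩
  · rintro ⟨a, b, c⟩; exact ⟨a, b, by linarith⟩

theorem mem_group_conj {v w : leechLattice} {g k : Co0} (h1 : g • v = Spor.leechV)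
    (h2 : g • w = -(Spor.leechV + pvU'.w)) (hk : k ∈ pvU'.group) :
    (g⁻¹ * k * g) • v = v ∧ (g⁻¹ * k * g) • w = w := by
  refine ⟨?_, ?_⟩
  · rw [mul_smul, mul_smul, h1, show k • Spor.leechV = Spor.leechV from hk.1, ← h1, inv_smul_smul]
  · rw [mul_smul, mul_smul, h2, co0_neg, co0_add, show k • Spor.leechV = Spor.leechV from hk.1,
      show k • pvU'.w = pvU'.w from hk.2, ← h2, inv_smul_smul]

theorem hs_hundred (v w : leechLattice) (hv : sqNorm (v : GolayPt → ℤ) = 48)
    (hw : sqNorm (w : GolayPt → ℤ) = 48)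
    (hd : dotInt (v : GolayPt → ℤ) (w : GolayPt → ℤ) = -32) (S : Set leechLattice)
    (hS : ∀ x : leechLattice, x ∈ S ↔ (sqNorm (x : GolayPt → ℤ) = 32 ∧
      dotInt (v : GolayPt → ℤ) (x : GolayPt → ℤ) = 24 ∧
      dotInt (w : GolayPt → ℤ) (x : GolayPt → ℤ) = -24)) :
    S.ncard = 100 ∧ ∀ x ∈ S, ∀ x' ∈ S, ∃ g : Co0, g • v = v ∧ g • w = w ∧ g • x = x' := by
  obtain ⟨g, h1, h2, hiff⟩ := exists_model hv hw hd
  obtain ⟨h100, -, -, htr⟩ := main
  refine ⟨?_, fun x hx x' hx' => ?_⟩
  · rw [← h100, ← Set.ncard_image_of_injective S (MulAction.injective g)]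
    congr 1
    ext y
    constructor
    · rintro ⟨x, hx, rfl⟩; exact (hiff x).mp ((hS x).mp hx)
    · intro hy
      exact ⟨g⁻¹ • y, (hS _).mpr ((hiff _).mpr (by rwa [smul_inv_smul])), smul_inv_smul g y⟩
  · obtain ⟨a, ha, ha'⟩ := htr _ ((hiff x).mp ((hS x).mp hx))
    obtain ⟨b, hb, hb'⟩ := htr _ ((hiff x').mp ((hS x').mp hx'))
    obtain ⟨e1, e2⟩ := mem_group_conj h1 h2 (mul_mem hb (inv_mem ha))
    refine ⟨_, e1, e2, ?_⟩
    rw [mul_smul, mul_smul, mul_smul, ← ha', inv_smul_smul, hb', inv_smul_smul]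

theorem hs_rank_three (v w x : leechLattice) (hv : sqNorm (v : GolayPt → ℤ) = 48)
    (hw : sqNorm (w : GolayPt → ℤ) = 48)
    (hd : dotInt (v : GolayPt → ℤ) (w : GolayPt → ℤ) = -32) (S : Set leechLattice)
    (hS : ∀ x : leechLattice, x ∈ S ↔ (sqNorm (x : GolayPt → ℤ) = 32 ∧
      dotInt (v : GolayPt → ℤ) (x : GolayPt → ℤ) = 24 ∧
      dotInt (w : GolayPt → ℤ) (x : GolayPt → ℤ) = -24)) (hx : x ∈ S) :
    {y : leechLattice | y ∈ S ∧ dotInt (x : GolayPt → ℤ) (y : GolayPt → ℤ) = 8}.ncard = 22 ∧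
    {y : leechLattice | y ∈ S ∧ y ≠ x ∧
      dotInt (x : GolayPt → ℤ) (y : GolayPt → ℤ) ≠ 8}.ncard = 77 ∧
    ∀ y ∈ S, ∀ y' ∈ S, y ≠ x → y' ≠ x →
      (dotInt (x : GolayPt → ℤ) (y : GolayPt → ℤ) = 8 ↔
        dotInt (x : GolayPt → ℤ) (y' : GolayPt → ℤ) = 8) →
      ∃ g : Co0, g • v = v ∧ g • w = w ∧ g • x = x ∧ g • y = y' := by
  obtain ⟨g, h1, h2, hiff⟩ := exists_model hv hw hd
  obtain ⟨-, h22, h77, htr⟩ := main
  obtain ⟨a, ha, ha'⟩ := htr _ ((hiff x).mp ((hS x).mp hx))
  set f : Co0 := a⁻¹ * g with hf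
  have hfx : f • x = base := by rw [hf, mul_smul, ← ha', inv_smul_smul]
  have hfS : ∀ y, y ∈ S ↔ f • y ∈ pts := fun y => by
    rw [hS, hiff, hf, mul_smul]
    exact ⟨fun h => pts_inv (inv_mem ha) h, fun h => by simpa using pts_inv ha h⟩
  have hfd : ∀ y : leechLattice,
      dotInt (x : GolayPt → ℤ) (y : GolayPt → ℤ) = ldot base (f • y) := fun y => by
    rw [← hfx, co0_dot]; rfl
  have h32 : ldot base base = 32 := quad_norm _ _ _
  have himg : ∀ (P : leechLattice → Prop),
      {y | y ∈ S ∧ P (f • y)}.ncard = {y | y ∈ pts ∧ P y}.ncard := by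
    intro P
    rw [← Set.ncard_image_of_injective _ (MulAction.injective f)]
    congr 1
    ext y
    constructor
    · rintro ⟨z, ⟨hz, hP⟩, rfl⟩; exact ⟨(hfS z).mp hz, hP⟩
    · rintro ⟨hy, hP⟩
      exact ⟨f⁻¹ • y, ⟨(hfS _).mpr (by rwa [smul_inv_smul]), by rwa [smul_inv_smul]⟩,
        smul_inv_smul f y⟩
  refine ⟨?_, ?_, fun y hy y' hy' hne hne' hiffd => ?_⟩
  · simp only [hfd]
    rw [himg fun y => ldot base y = 8]
    exact h22
  · have e : {y : leechLattice | y ∈ S ∧ y ≠ x ∧ dotInt (x : GolayPt → ℤ) (y : GolayPt → ℤ) ≠ 8} =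
        {y | y ∈ S ∧ ldot base (f • y) = 16} := by
      ext y
      refine and_congr_right fun hy => ?_
      rw [hfd]
      rcases small_sets.2.2 _ ((hfS y).mp hy) with h | h | h
      · have hyx : y = x := MulAction.injective f (h.trans hfx.symm)
        rw [h, h32]; simp [hyx]
      · rw [h]; simp
      · rw [h]
        refine ⟨fun _ => rfl, fun _ => ⟨?_, by norm_num⟩⟩
        rintro rfl; rw [hfx, h32] at h; norm_num at h
    rw [e, himg fun y => ldot base y = 16]
    exact h77
  · have n1 : f • y ≠ base := fun h => hne (MulAction.injective f (h.trans hfx.symm))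
    have n2 : f • y' ≠ base := fun h => hne' (MulAction.injective f (h.trans hfx.symm))
    rw [hfd, hfd] at hiffd
    have hdd : ldot base (f • y) = ldot base (f • y') := by
      rcases small_sets.2.2 _ ((hfS y).mp hy) with h | h | h
      · exact absurd h n1
      · rw [h, hiffd.mp h]
      · rcases small_sets.2.2 _ ((hfS y').mp hy') with h' | h' | h'
        · exact absurd h' n2
        · have := hiffd.mpr h'; omega
        · rw [h, h']
    obtain ⟨k, hk, hkb, hky⟩ := rank_three ((hfS y).mp hy) ((hfS y').mp hy') n1 n2 hdd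
    obtain ⟨e1, e2⟩ := mem_group_conj h1 h2 (mul_mem (mul_mem ha hk) (inv_mem ha))
    have hconj : g⁻¹ * (a * k * a⁻¹) * g = f⁻¹ * k * f := by rw [hf]; group
    rw [hconj] at e1 e2
    refine ⟨_, e1, e2, ?_, ?_⟩
    · rw [mul_smul, mul_smul, hfx, hkb, ← hfx, inv_smul_smul]
    · rw [mul_smul, mul_smul, hky, inv_smul_smul]

end HS100
end H96
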