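import Cfsg.Prelude.Def_Spor_Conway
import Cfsg.Agent.H92.HSAut
import Cfsg.Agent.H91.DerivedAut
import Cfsg.Agent.H87.MathieuCert

/-!
A rank three group of degree 100 with point stabiliser `M22` and subdegrees 1, 22, 77 is the
Higman–Sims group: its orbital graph is strongly regular with parameters (100, 22, 0, 6).
-/

set_option autoImplicit false

noncomputable section

namespace H96
namespace HSRec

open Cfsg Finset MulAction

theorem steiner_model22 : IsSteinerSystem 3 6 H90.model22 := by
  classical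
  have hcard : ∀ b : Finset H91.Derived.Pts22, (H91.Derived.up22 b).card = b.card + 2 := by
    intro b
    have h1 : (some 0 : GolayPt) ∉ b.image (fun x : H91.Derived.Pts22 => (some x.1 : GolayPt)) := by
      simp only [mem_image, Option.some.injEq, not_exists, not_and]
      exact fun x _ e => x.2 e
    rw [H91.Derived.up22, card_insert_of_notMem (by simp), card_insert_of_notMem h1,
      card_image_of_injective _ fun x y e => Subtype.ext (Option.some.inj e)]
  have hsub : ∀ s b : Finset H91.Derived.Pts22, H91.Derived.up22 s ⊆ H91.Derived.up22 b → s ⊆ b := by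
    intro s b h x hx
    exact (H91.Derived.some_mem_up22 x.2).mp (h ((H91.Derived.some_mem_up22 x.2).mpr hx))
  refine ⟨fun b hb => ?_, fun s hs => ?_⟩
  · have := H90.card_of_mem_wordsOfWeight (H91.Derived.mem_model22.mp hb)
    rw [hcard] at this
    omega
  · obtain ⟨o, ⟨ho, hso⟩, huniq⟩ := H90.octads_steiner.2 (H91.Derived.up22 s) (by rw [hcard, hs])
    have hn : (none : GolayPt) ∈ o := hso (by simp [H91.Derived.up22])
    have h0 : (some 0 : GolayPt) ∈ o := hso (by simp [H91.Derived.up22])
    refine ⟨(eraseNone o).subtype fun x => x ≠ 0, ⟨⟨o, ho, hn, h0, rfl⟩, ?_⟩, ?_⟩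
    · exact hsub _ _ (by rw [H91.Derived.up22_down hn h0]; exact hso)
    · rintro b ⟨hb, hsb⟩
      have := huniq (H91.Derived.up22 b) ⟨H91.Derived.mem_model22.mp hb, by
        unfold H91.Derived.up22; exact insert_subset_insert _ (insert_subset_insert _ (image_subset_image hsb))⟩
      ext ⟨x, hx⟩
      rw [← H91.Derived.some_mem_up22 hx, this]
      simp

variable {Ω : Type*} [Fintype Ω] [DecidableEq Ω]

theorem card_aut {Γ : SimpleGraph Ω} [DecidableRel Γ.Adj] (hΓ : Γ.IsSRGWith 100 22 0 6) :
    Nat.card (Γ ≃g Γ) = 88704000 := by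
  classical
  obtain ⟨a⟩ := H91.Srg.srg100_iso_model hΓ
  have hP : Fintype.card H91.Derived.Pts22 = 22 := by simp
  have h := H92.HSA.card_aut hP steiner_model22
  rw [← h]
  refine Nat.card_congr
    { toFun := fun t => (a.symm.trans t).trans a
      invFun := fun t => (a.trans t).trans a.symm
      left_inv := fun t => RelIso.ext fun x => by simp
      right_inv := fun t => RelIso.ext fun x => by simp }

theorem iso_HS_model : Nonempty (↥H95.pvU'.group ≃* Spor.HS) := by
  refine ⟨MulEquiv.trans (Subgroup.equivMapOfInjective _ Co0.subtype Subtype.val_injective) (MulEquiv.subgroupCongr ?_)⟩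
  ext f
  constructor
  · rintro ⟨g, ⟨h1, h2⟩, rfl⟩
    exact ⟨⟨g.2, h1⟩, h2⟩
  · rintro ⟨⟨h0, h1⟩, h2⟩
    exact ⟨⟨f, h0⟩, ⟨h1, h2⟩, rfl⟩

theorem exists_hs_sub {Γ : SimpleGraph Ω} [DecidableRel Γ.Adj] (hΓ : Γ.IsSRGWith 100 22 0 6) :
    ∃ H : Subgroup (Γ ≃g Γ), IsSimpleGroup H ∧ Nat.card H = 44352000 ∧ Nonempty (H ≃* Spor.HS) := by
  classical
  have hfin : H96.HS100.pts.Finite :=
    (H95.leechLike.finite_norm (Or.inl rfl)).subset fun x hx => hx.1
  haveI : Fintype ↥H96.HS100.pts := hfin.fintype
  obtain ⟨a⟩ := H91.Srg.srg100_iso_model hΓ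
  obtain ⟨b⟩ := H91.Srg.srg100_iso_model H91.HSG.hsGraph_srg
  let e : H91.HSG.hsGraph ≃g Γ := b.trans a.symm
  let C : (H91.HSG.hsGraph ≃g H91.HSG.hsGraph) →* (Γ ≃g Γ) :=
    { toFun := fun t => (e.symm.trans t).trans e
      map_one' := RelIso.ext fun x => e.apply_symm_apply x
      map_mul' := fun s t => RelIso.ext fun x => by
        show e (s (t (e.symm x))) = e (s (e.symm (e (t (e.symm x)))))
        rw [e.symm_apply_apply] }
  have hC : Function.Injective C := fun s t h => RelIso.ext fun x => by
    have := congrArg (fun u : Γ ≃g Γ => e.symm (u (e x))) h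
    simpa [C] using this
  have hinj : Function.Injective (C.comp H91.HSG.actGraph) := hC.comp H91.HSG.actGraph_injective
  haveI : IsSimpleGroup ↥H95.pvU'.group := H95.hs_simple H95.m22_simple H96.HS100.card_group
  let E := (MonoidHom.ofInjective hinj).symm
  obtain ⟨f⟩ := iso_HS_model
  exact ⟨_, E.isSimpleGroup, (Nat.card_congr E.toEquiv).trans H96.HS100.card_group, ⟨E.trans f⟩⟩

/-- the ordered triangles are counted by a multiple of three -/
theorem triangles_dvd {Γ : SimpleGraph Ω} [DecidableRel Γ.Adj] {n k l μ : ℕ}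
    (hΓ : Γ.IsSRGWith n k l μ) : 3 ∣ n * k * l := by
  classical
  let T := {t : Ω × Ω × Ω // Γ.Adj t.1 t.2.1 ∧ Γ.Adj t.2.1 t.2.2 ∧ Γ.Adj t.2.2 t.1}
  have hT : Fintype.card T = n * k * l := by
    have e : Fintype.card T = ∑ x : Ω, ∑ y : Ω, ∑ z : Ω,
        if Γ.Adj x y ∧ Γ.Adj y z ∧ Γ.Adj z x then 1 else 0 := by
      rw [Fintype.card_subtype, card_filter, Fintype.sum_prod_type]
      exact sum_congr rfl fun x _ => Fintype.sum_prod_type _
    rw [e]
    have hy : ∀ x y, (∑ z : Ω, if Γ.Adj x y ∧ Γ.Adj y z ∧ Γ.Adj z x then 1 else 0) =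
        if Γ.Adj x y then l else 0 := by
      intro x y
      by_cases h : Γ.Adj x y
      · rw [if_pos h, ← hΓ.of_adj x y h, ← Set.toFinset_card, ← card_filter]
        congr 1
        ext z
        simp [SimpleGraph.mem_commonNeighbors, h, Γ.adj_comm z x, and_comm]
      · rw [if_neg h]; simp [h]
    have hx : ∀ x, (∑ y : Ω, if Γ.Adj x y then l else 0) = k * l := by
      intro x
      rw [← sum_filter, sum_const, smul_eq_mul, ← hΓ.regular x, ← SimpleGraph.card_neighborFinset_eq_degree,
        SimpleGraph.neighborFinset_eq_filter]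
    simp only [hy, hx, sum_const, card_univ, hΓ.card, smul_eq_mul]
    ring
  let σ : Equiv.Perm T :=
    { toFun := fun t => ⟨(t.1.2.1, t.1.2.2, t.1.1), t.2.2.1, t.2.2.2, t.2.1⟩
      invFun := fun t => ⟨(t.1.2.2, t.1.1, t.1.2.1), t.2.2.2, t.2.1, t.2.2.1⟩
      left_inv := fun t => rfl
      right_inv := fun t => rfl }
  haveI : Fact (Nat.Prime 3) := ⟨Nat.prime_three⟩
  have h := Equiv.Perm.card_compl_support_modEq (p := 3) (n := 1) (σ := σ) (Equiv.ext fun t => rfl)
  have h0 : σ.supportᶜ = ∅ := by
    refine eq_empty_of_forall_notMem fun t ht => ?_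
    rw [mem_compl, Equiv.Perm.mem_support, not_not] at ht
    have e : t.1.2.1 = t.1.1 := congrArg (fun u : T => u.1.1) ht
    exact t.2.1.ne e.symm
  rw [h0, card_empty, hT] at h
  exact (Nat.modEq_zero_iff_dvd).mp h.symm

theorem iso_of_rank_three (hΩ : Fintype.card Ω = 100) (G : Subgroup (Equiv.Perm Ω))
    [IsPretransitive G Ω] (a : Ω) (hcard : Nat.card (stabilizer G a) = 443520) (b c : Ω)
    (hb : (orbit (stabilizer G a) b).ncard = 22) (hc : (orbit (stabilizer G a) c).ncard = 77) :
    Spor.IsoHS G := by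
  classical
  haveI : Finite G := inferInstance
  haveI : Nonempty Ω := ⟨a⟩
  have hG : Nat.card G = 44352000 := by
    have h := Subgroup.card_mul_index (stabilizer G a)
    rw [index_stabilizer_of_transitive, hcard, Nat.card_eq_fintype_card, hΩ] at h
    omega
  set O2 := orbit (stabilizer G a) b with hO2
  set O7 := orbit (stabilizer G a) c with hO7
  have hfix : ∀ k : stabilizer G a, k • a = a := fun k => k.2
  have hinv : ∀ (k : stabilizer G a) (x : Ω), x ∈ O2 → (k : G) • x ∈ O2 := by
    rintro k _ ⟨m, rfl⟩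
    exact ⟨k * m, mul_smul k m b⟩
  have haorb : orbit (stabilizer G a) a = {a} := by
    ext x
    refine ⟨fun ⟨k, hk⟩ => hk ▸ hfix k, fun h => ?_⟩
    rw [Set.mem_singleton_iff] at h
    rw [h]
    exact mem_orbit_self a
  have ha2 : a ∉ O2 := fun h => by
    rw [hO2, ← (orbit_eq_iff.mpr h), haorb, Set.ncard_singleton] at hb; omega
  have ha7 : a ∉ O7 := fun h => by
    rw [hO7, ← (orbit_eq_iff.mpr h), haorb, Set.ncard_singleton] at hc; omega
  have h27 : Disjoint O2 O7 := by
    rw [Set.disjoint_left]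
    intro x h2 h7
    rw [hO2] at h2
    rw [hO7] at h7
    rw [hO2, ← orbit_eq_iff.mpr h2] at hb
    rw [hO7, ← orbit_eq_iff.mpr h7] at hc
    omega
  have hcover : ∀ x, x = a ∨ x ∈ O2 ∨ x ∈ O7 := by
    intro x
    by_contra h
    simp only [not_or] at h
    have hu : ({a} ∪ O2 ∪ O7 : Set Ω).ncard = 100 := by
      rw [Set.ncard_union_eq (Set.disjoint_union_left.mpr ⟨by simpa using ha7, h27⟩) (Set.toFinite _)
        (Set.toFinite _), Set.ncard_union_eq (by simpa using ha2) (Set.toFinite _) (Set.toFinite _),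
        Set.ncard_singleton, hb, hc]
    have := Set.eq_of_subset_of_ncard_le (Set.subset_univ _)
      (le_of_eq (by rw [hu, Set.ncard_univ, Nat.card_eq_fintype_card, hΩ])) (Set.toFinite _)
    have hx := this.ge (Set.mem_univ x)
    simp [h.1, h.2.1, h.2.2] at hx
  -- the paired suborbit
  have hback : ∀ g : G, g • a ∈ O2 → g⁻¹ • a ∈ O2 := by
    intro g hg
    rcases hcover (g⁻¹ • a) with h | h | h
    · rw [inv_smul_eq_iff] at h; exact absurd (by rw [← h] at hg; exact hg) ha2
    · exact h
    · exfalso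
      have e1 := orbit_eq_iff.mpr hg
      have e2 := orbit_eq_iff.mpr h
      have n1 : Nat.card (stabilizer (stabilizer G a) (g • a)) * 22 = 443520 := by
        rw [← hb, hO2, ← e1, ← index_stabilizer, Subgroup.card_mul_index, hcard]
      have n2 : Nat.card (stabilizer (stabilizer G a) (g⁻¹ • a)) * 77 = 443520 := by
        rw [← hc, hO7, ← e2, ← index_stabilizer, Subgroup.card_mul_index, hcard]
      have e : Nat.card (stabilizer (stabilizer G a) (g • a)) =
          Nat.card (stabilizer (stabilizer G a) (g⁻¹ • a)) := by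
        refine Nat.card_congr
          { toFun := fun k => ⟨⟨g⁻¹ * k.1.1 * g, ?_⟩, ?_⟩
            invFun := fun k => ⟨⟨g * k.1.1 * g⁻¹, ?_⟩, ?_⟩
            left_inv := fun k => Subtype.ext (Subtype.ext (by simp [mul_assoc]))
            right_inv := fun k => Subtype.ext (Subtype.ext (by simp [mul_assoc])) }
        · show (g⁻¹ * k.1.1 * g) • a = a
          rw [mul_smul, mul_smul, show k.1.1 • (g • a) = g • a from k.2, inv_smul_smul]
        · show (g⁻¹ * k.1.1 * g) • (g⁻¹ • a) = g⁻¹ • a
          rw [mul_smul, mul_smul, smul_inv_smul, show k.1.1 • a = a from k.1.2]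
        · show (g * k.1.1 * g⁻¹) • a = a
          rw [mul_smul, mul_smul, show k.1.1 • (g⁻¹ • a) = g⁻¹ • a from k.2, smul_inv_smul]
        · show (g * k.1.1 * g⁻¹) • (g • a) = g • a
          rw [mul_smul, mul_smul, inv_smul_smul, show k.1.1 • a = a from k.1.2]
      omega
  -- the graph
  let R : Ω → Ω → Prop := fun x y => ∃ g : G, g • x = a ∧ g • y ∈ O2
  have hsymm : ∀ {x y}, R x y → R y x := by
    rintro x y ⟨g, hgx, hgy⟩
    obtain ⟨h, hh⟩ := exists_smul_eq G (g • y) a
    refine ⟨h * g, by rw [mul_smul, hh], ?_⟩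
    rw [mul_smul, hgx]
    have := hback h⁻¹ (by rw [← hh, inv_smul_smul]; exact hgy)
    rwa [inv_inv] at this
  let Γ : SimpleGraph Ω :=
    { Adj := R
      symm := ⟨fun x y => hsymm⟩
      loopless := ⟨fun x ⟨g, h1, h2⟩ => ha2 (by rw [h1] at h2; exact h2)⟩ }
  have hact : ∀ (g : G) {x y}, Γ.Adj x y → Γ.Adj (g • x) (g • y) := by
    rintro g x y ⟨h, h1, h2⟩
    exact ⟨h * g⁻¹, by rw [mul_smul, inv_smul_smul, h1], by rw [mul_smul, inv_smul_smul]; exact h2⟩
  have hiff : ∀ (g : G) (x y : Ω), Γ.Adj (g • x) (g • y) ↔ Γ.Adj x y :=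
    fun g x y => ⟨fun h => by simpa using hact g⁻¹ h, hact g⟩
  have hnb : ∀ y, Γ.Adj a y ↔ y ∈ O2 := by
    intro y
    refine ⟨fun ⟨g, h1, h2⟩ => ?_, fun h => ⟨1, one_smul _ _, by rwa [one_smul]⟩⟩
    have := hinv (⟨g, h1⟩⁻¹ : stabilizer G a) _ h2
    rwa [show (((⟨g, h1⟩⁻¹ : stabilizer G a) : G)) = g⁻¹ from rfl, inv_smul_smul] at this
  let common : Ω → Ω → ℕ := fun x y => Fintype.card (Γ.commonNeighbors x y)
  have hmove : ∀ (g : G) (x y : Ω), common (g • x) (g • y) = common x y := by
    intro g x y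
    refine Fintype.card_congr
      { toFun := fun z => ⟨g⁻¹ • z.1, ?_⟩
        invFun := fun z => ⟨g • z.1, ?_⟩
        left_inv := fun z => Subtype.ext (smul_inv_smul g _)
        right_inv := fun z => Subtype.ext (inv_smul_smul g _) }
    · rw [SimpleGraph.mem_commonNeighbors, ← hiff g x, ← hiff g y, smul_inv_smul]
      exact z.2
    · rw [SimpleGraph.mem_commonNeighbors, hiff, hiff]
      exact z.2
  set l := common a b with hl
  set μ := common a c with hμ
  have hsrg : Γ.IsSRGWith 100 22 l μ := by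
    refine ⟨hΩ, fun x => ?_, fun x y h => ?_, fun x y hne h => ?_⟩
    · obtain ⟨g, hg⟩ := exists_smul_eq G a x
      rw [← SimpleGraph.card_neighborSet_eq_degree, ← Nat.card_eq_fintype_card, ← hb, ← Nat.card_coe_set_eq]
      refine Nat.card_congr
        { toFun := fun z => ⟨g⁻¹ • z.1, ?_⟩
          invFun := fun z => ⟨g • z.1, ?_⟩
          left_inv := fun z => Subtype.ext (smul_inv_smul g _)
          right_inv := fun z => Subtype.ext (inv_smul_smul g _) }
      · rw [← hnb, ← hiff g, smul_inv_smul, hg]; exact z.2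
      · show Γ.Adj x (g • z.1)
        rw [← hg, hiff, hnb]; exact z.2
    · obtain ⟨g, hg⟩ := exists_smul_eq G x a
      have h2 : g • y ∈ O2 := by rw [← hnb, ← hg, hiff]; exact h
      obtain ⟨k, hk⟩ := h2
      show common x y = common a b
      rw [← hmove g, hg, ← hmove (k : G) a b, show (k : G) • a = a from hfix k]
      exact congrArg (common a) hk.symm
    · obtain ⟨g, hg⟩ := exists_smul_eq G x a
      rcases hcover (g • y) with e | e | e
      · exact absurd (MulAction.injective g (hg.trans e.symm)) hne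
      · exact absurd ((hiff g x y).mp (by rw [hg, hnb]; exact e)) h
      · obtain ⟨k, hk⟩ := e
        show common x y = common a c
        rw [← hmove g, hg, ← hmove (k : G) a c, show (k : G) • a = a from hfix k]
        exact congrArg (common a) hk.symm
  have hp := hsrg.param_eq Γ (by norm_num)
  have h3 := triangles_dvd hsrg
  have hl21 : l ≤ 21 := by
    have hba : Γ.Adj a b := (hnb b).mpr (mem_orbit_self b)
    have hsub : Γ.commonNeighbors a b ⊂ Γ.neighborSet a :=
      ⟨fun z hz => hz.1, fun h => (show Γ.Adj b b from (h (show b ∈ Γ.neighborSet a from hba)).2).ne rfl⟩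
    have h22 : Fintype.card (Γ.neighborSet a) = 22 :=
      (SimpleGraph.card_neighborSet_eq_degree _ _).trans (hsrg.regular a)
    have h1 := Set.ncard_lt_ncard hsub (Set.toFinite _)
    rw [← Nat.card_coe_set_eq, ← Nat.card_coe_set_eq, Nat.card_eq_fintype_card,
      Nat.card_eq_fintype_card, h22] at h1
    have h2 : common a b < 22 := by convert h1
    show common a b ≤ 21
    omega
  have hcases : l = 0 ∨ l = 21 := by
    have key : ∀ i : Fin 22, (22 * (22 - i.val - 1)) % 77 = 0 → (100 * 22 * i.val) % 3 = 0 →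
        i.val = 0 ∨ i.val = 21 := by decide
    exact key ⟨l, by omega⟩ (by rw [hp]; exact Nat.mul_mod_right 77 μ) (Nat.mod_eq_zero_of_dvd h3)
  have hl0 : l = 0 := by
    rcases hcases with h | h
    · exact h
    exfalso
    have hμ0 : μ = 0 := by rw [h] at hp; omega
    -- the relation is then transitive
    have htr : ∀ x y z, Γ.Adj x y → Γ.Adj y z → x ≠ z → Γ.Adj x z := by
      intro x y z hxy hyz hne
      by_contra hxz
      have h0 := hsrg.of_not_adj hne hxz
      rw [hμ0, Fintype.card_eq_zero_iff] at h0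
      exact h0.elim ⟨y, hxy, hyz.symm⟩
    let s : Setoid Ω := ⟨fun x y => x = y ∨ Γ.Adj x y,
      fun x => Or.inl rfl, fun h => h.elim (fun e => Or.inl e.symm) (fun e => Or.inr e.symm),
      fun {x y z} h1 h2 => by
        rcases h1 with rfl | h1
        · exact h2
        rcases h2 with rfl | h2
        · exact Or.inr h1
        by_cases hne : x = z
        · exact Or.inl hne
        · exact Or.inr (htr x y z h1 h2 hne)⟩
    have hclass : ∀ q : Quotient s, Fintype.card {x // Quotient.mk s x = q} = 23 := by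
      intro q
      induction q using Quotient.inductionOn with
      | h x =>
        have e : ∀ y, Quotient.mk s y = Quotient.mk s x ↔ y ∈ insert x (Γ.neighborFinset x) := by
          intro y
          rw [Quotient.eq, mem_insert, SimpleGraph.mem_neighborFinset, Γ.adj_comm]
          exact Iff.rfl
        rw [Fintype.card_congr (Equiv.subtypeEquivRight e), Fintype.card_coe, card_insert_of_notMem (by simp),
          SimpleGraph.card_neighborFinset_eq_degree, hsrg.regular x]
    have hsum := Fintype.card_congr (Equiv.sigmaFiberEquiv (Quotient.mk s))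
    rw [Fintype.card_sigma, sum_congr rfl fun q _ => hclass q, sum_const, card_univ, hΩ, smul_eq_mul] at hsum
    omega
  have hμ6 : μ = 6 := by rw [hl0] at hp; omega
  rw [hl0, hμ6] at hsrg
  -- the embedding
  let φ : G →* (Γ ≃g Γ) :=
    { toFun := fun g =>
        { toEquiv := MulAction.toPerm g
          map_rel_iff' := fun {x y} => hiff g x y }
      map_one' := RelIso.ext fun x => one_smul G x
      map_mul' := fun g h => RelIso.ext fun x => mul_smul g h x }
  have hφ : Function.Injective φ := fun g h e => Subtype.ext (Equiv.ext fun x => by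
    exact congrArg (fun t : Γ ≃g Γ => t x) e)
  haveI : Finite (Γ ≃g Γ) := Finite.of_injective _ DFunLike.coe_injective
  obtain ⟨H, hHs, hHc, ⟨f⟩⟩ := exists_hs_sub hsrg
  have hA := card_aut hsrg
  have hR : Nat.card φ.range = 44352000 := by
    rw [← hG]; exact (Nat.card_congr (MonoidHom.ofInjective hφ).toEquiv).symm
  have hi : φ.range.index = 2 := by
    have := Subgroup.card_mul_index φ.range
    rw [hA, hR] at this
    omega
  haveI : φ.range.Normal := Subgroup.normal_of_index_eq_two hi
  have hHle : H ≤ φ.range := by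
    rcases (Subgroup.Normal.subgroupOf (inferInstance : φ.range.Normal) H).eq_bot_or_eq_top with h | h
    · exfalso
      have h2 : φ.range.relIndex H ∣ φ.range.index := Subgroup.relIndex_dvd_index_of_normal _ _
      rw [Subgroup.relIndex, h, Subgroup.index_bot, hHc, hi] at h2
      exact absurd (Nat.le_of_dvd (by norm_num) h2) (by norm_num)
    · exact Subgroup.subgroupOf_eq_top.mp h
  have heq : H = φ.range := Subgroup.eq_of_le_of_card_ge hHle (le_of_eq (hR.trans hHc.symm))
  exact ⟨((MonoidHom.ofInjective hφ).trans (MulEquiv.subgroupCongr heq.symm)).trans f⟩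

theorem hs_recognition (hΩ : Fintype.card Ω = 100) (G : Subgroup (Equiv.Perm Ω))
    [IsPretransitive G Ω] (a : Ω) (e : stabilizer G a ≃* Spor.M22) (b c : Ω)
    (hb : (orbit (stabilizer G a) b).ncard = 22) (hc : (orbit (stabilizer G a) c).ncard = 77) :
    Spor.IsoHS G :=
  iso_of_rank_three hΩ G a ((Nat.card_congr e.toEquiv).trans H87.natCard_M22) b c hb hc

end HSRec
end H96
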