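import Cfsg.Agent.H96.Co1Oct
import Cfsg.Agent.H90.CentralizerStructure

/-!
The centraliser of the octad involution: its image on the sublattice modulo two and its kernel.
-/

set_option autoImplicit false

namespace H96
namespace Co1Oct

open Cfsg Finset H95
open scoped Pointwise

theorem octO_supp : octO ∈ supports (golayCode : Set (GolayPt → ZMod 2)) := octO_mem.1

/-- the involution negating the octad -/
noncomputable def eps : Co0 := mono 1 octO (one_mem _) octO_supp

theorem eps_coord (x : leechLattice) (i : GolayPt) :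
    ((eps • x : leechLattice) : GolayPt → ℤ) i =
      if i ∈ octO then -(x : GolayPt → ℤ) i else (x : GolayPt → ℤ) i := by
  rw [eps, mono_smul]; simp [signedPerm, Equiv.Perm.one_def]

/-- the centraliser -/
def Cg : Subgroup Co0 := Subgroup.centralizer {eps}

theorem mem_Cg {g : Co0} : g ∈ Cg ↔ ∀ x : leechLattice, g • (eps • x) = eps • (g • x) := by
  rw [Cg, Subgroup.mem_centralizer_singleton_iff]
  constructor
  · intro h x; rw [← mul_smul, ← mul_smul, h]
  · intro h; exact co0_ext fun x => by rw [mul_smul, mul_smul, h]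

theorem inO_iff {x : leechLattice} : InO x ↔ eps • x = -x := by
  constructor
  · intro hx
    refine Subtype.ext (funext fun i => ?_)
    rw [eps_coord]
    show _ = -(x : GolayPt → ℤ) i
    split_ifs with h
    · rfl
    · rw [hx i h, neg_zero]
  · intro h i hi
    have e := congrArg (fun y : leechLattice => (y : GolayPt → ℤ) i) h
    simp only [eps_coord, if_neg hi] at e
    change _ = -(x : GolayPt → ℤ) i at e
    omega

theorem smul_inO {g : Co0} (hg : g ∈ Cg) {x : leechLattice} (hx : InO x) : InO (g • x) := by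
  rw [inO_iff, ← mem_Cg.mp hg, inO_iff.mp hx, co0_neg]

/-- the matrix modulo two -/
def matOf (g : Cg) : Matrix Ix Ix (ZMod 2) := Matrix.of fun a b => red (g.1 • bvec b) a

theorem red_smul (g : Cg) {x : leechLattice} (hx : InO x) :
    red (g.1 • x) = Matrix.mulVec (matOf g) (red x) := by
  funext a
  let T : subO →+ ℤ := (coordHom a).comp (AddMonoidHom.mk'
    (fun y => (⟨g.1 • y.1, smul_inO g.2 y.2⟩ : subO)) fun y z => Subtype.ext (co0_add g.1 y.1 z.1))
  have hT : T ⟨x, hx⟩ = ∑ b, coord b x * T ⟨bvec b, bvec_inO b⟩ := by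
    conv_lhs => rw [show (⟨x, hx⟩ : subO) = ∑ b, coord b x • ⟨bvec b, bvec_inO b⟩ from Subtype.ext (by
      rw [AddSubgroup.val_finsetSum]; exact expand hx)]
    rw [map_sum]
    exact sum_congr rfl fun b _ => by rw [map_zsmul, smul_eq_mul]
  show ((T ⟨x, hx⟩ : ℤ) : ZMod 2) = _
  rw [hT, Int.cast_sum, Matrix.mulVec, dotProduct]
  refine sum_congr rfl fun b _ => ?_
  rw [Int.cast_mul, mul_comm]
  rfl

theorem red_lift (v : Ix → ZMod 2) : ∃ x, InO x ∧ red x = v := by
  refine ⟨∑ b, ((v b).val : ℤ) • bvec b, subO.sum_mem fun b _ => subO.zsmul_mem (bvec_inO b) _, ?_⟩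
  funext a
  have h : coordHom a (∑ b, ((v b).val : ℤ) • (⟨bvec b, bvec_inO b⟩ : subO)) =
      ∑ b, ((v b).val : ℤ) * coord a (bvec b) := by
    rw [map_sum]; exact sum_congr rfl fun b _ => by rw [map_zsmul, smul_eq_mul]; rfl
  have h' : coord a (∑ b, ((v b).val : ℤ) • bvec b) = ∑ b, ((v b).val : ℤ) * coord a (bvec b) := by
    rw [← h]
    show _ = coord a _
    congr 1
  have hr : ∀ b, ((coord a (bvec b) : ℤ) : ZMod 2) = if a = b then 1 else 0 := fun b => red_bvec b a
  rw [red, h']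
  rw [Int.cast_sum, Fintype.sum_eq_single a]
  · rw [Int.cast_mul, hr, if_pos rfl, mul_one]
    simp
  · intro b hb
    rw [Int.cast_mul, hr, if_neg (Ne.symm hb), mul_zero]

theorem mat_ext {M N : Matrix Ix Ix (ZMod 2)}
    (h : ∀ x, InO x → Matrix.mulVec M (red x) = Matrix.mulVec N (red x)) : M = N := by
  refine Matrix.ext_of_mulVec_single fun b => ?_
  obtain ⟨x, hx, e⟩ := red_lift (Pi.single b 1)
  rw [← e]
  exact h x hx

/-- the action modulo two -/
def matHom : Cg →* Matrix Ix Ix (ZMod 2) where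
  toFun := matOf
  map_one' := mat_ext fun x hx => by
    rw [← red_smul 1 hx, OneMemClass.coe_one, one_smul, Matrix.one_mulVec]
  map_mul' g h := mat_ext fun x hx => by
    rw [← red_smul (g * h) hx, Subgroup.coe_mul, mul_smul, red_smul g (smul_inO h.2 hx), red_smul h hx,
      Matrix.mulVec_mulVec]

theorem matHom_form (g : Cg) (v : Ix → ZMod 2) : qf (Matrix.mulVec (matHom g) v) = qf v := by
  obtain ⟨x, hx, rfl⟩ := red_lift v
  show qf (Matrix.mulVec (matOf g) (red x)) = _
  rw [← red_smul g hx, qf_red (smul_inO g.2 hx), qf_red hx, co0_dot]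

/-- the action as isometries -/
noncomputable def rho : Cg →* isometryGroup (ZMod 2) qf :=
  matHom.toHomUnits.codRestrict _ fun g u _ => matHom_form g u

theorem rho_mat (g : Cg) :
    (((rho g : isometryGroup (ZMod 2) qf) : GL Ix (ZMod 2)) : Matrix Ix Ix (ZMod 2)) = matOf g := rfl

theorem negOne_mem_Cg : negOne ∈ Cg :=
  mem_Cg.mpr fun x => by rw [negOne_smul, negOne_smul, co0_neg]

/-- the elements fixing the octad vectors -/
def Kg : Subgroup Co0 := ⨅ j : Fin 8, MulAction.stabilizer Co0 (eight (oL j))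

theorem mem_Kg {g : Co0} : g ∈ Kg ↔ ∀ i ∈ octO, g • eight i = eight i := by
  simp only [Kg, Subgroup.mem_iInf, MulAction.mem_stabilizer_iff]
  refine ⟨fun h i hi => ?_, fun h j => h _ (oL_mem j)⟩
  obtain ⟨j, rfl⟩ := (mem_octO_iff i).mp hi
  exact h j

theorem mono_eight_eq {σ : Equiv.Perm GolayPt} {c : Finset GolayPt} {hσ : σ ∈ M24}
    {hc : c ∈ supports (golayCode : Set (GolayPt → ZMod 2))} (i : GolayPt) :
    mono σ c hσ hc • eight i = eight i ↔ σ i = i ∧ i ∉ c := by
  rw [Subtype.ext_iff, mono_smul]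
  simp only [eight, signedPerm_single]
  constructor
  · intro h
    have e := congrFun h (σ i)
    rw [Pi.single_eq_same, Pi.single_apply] at e
    by_cases hi : σ i = i
    · rw [if_pos hi, hi] at e
      refine ⟨hi, fun hc => ?_⟩
      rw [if_pos hc] at e; omega
    · rw [if_neg hi] at e; split_ifs at e <;> omega
  · rintro ⟨h1, h2⟩
    rw [h1, if_neg h2]

theorem fixesStd_of_mem_Kg {g : Co0} (hg : g ∈ Kg) : FixesStd g := by
  have h0 : H90.pt ⟨0, by norm_num⟩ ∈ octO := by decide +kernel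
  obtain ⟨σ, hσ, hσ0⟩ := H90.exists_move1 none (H90.pt ⟨0, by norm_num⟩)
  have h := mem_Kg.mp hg _ h0
  rw [← hσ0, ← permHom_eight ⟨σ, hσ⟩ none, ← mul_smul] at h
  have h' : ((permHom ⟨σ, hσ⟩)⁻¹ * (g * permHom ⟨σ, hσ⟩)) • eight none = eight none := by
    rw [mul_smul, h, inv_smul_smul]
  have hm := fixesStd_of_eight h'
  rw [fixesStd_iff] at hm ⊢
  have hp : permHom ⟨σ, hσ⟩ ∈ stdGrp := ⟨σ, monMap_permHom _⟩
  have := mul_mem (mul_mem hp hm) (inv_mem hp)
  simpa [mul_assoc] using this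

theorem mem_Kg_iff {g : Co0} : g ∈ Kg ↔ ∃ (σ : Equiv.Perm GolayPt) (c : Finset GolayPt) (hσ : σ ∈ M24)
    (hc : c ∈ supports (golayCode : Set (GolayPt → ZMod 2))), g = mono σ c hσ hc ∧
      ∀ i ∈ octO, σ i = i ∧ i ∉ c := by
  constructor
  · intro hg
    obtain ⟨σ, c, hσ, hc, rfl⟩ := exists_mono_of_fixesStd (fixesStd_of_mem_Kg hg)
    exact ⟨σ, c, hσ, hc, rfl, fun i hi => (mono_eight_eq i).mp (mem_Kg.mp hg i hi)⟩
  · rintro ⟨σ, c, hσ, hc, rfl, h⟩
    exact mem_Kg.mpr fun i hi => (mono_eight_eq i).mpr (h i hi)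

theorem mono_mem_Cg {σ : Equiv.Perm GolayPt} {c : Finset GolayPt} {hσ : σ ∈ M24}
    {hc : c ∈ supports (golayCode : Set (GolayPt → ZMod 2))} (h : ∀ i, σ i ∈ octO ↔ i ∈ octO) :
    mono σ c hσ hc ∈ Cg := by
  refine mem_Cg.mpr fun x => Subtype.ext (funext fun i => ?_)
  rw [mono_smul, eps_coord, mono_smul]
  have := h (σ.symm i)
  rw [σ.apply_symm_apply] at this
  simp only [signedPerm, eps_coord, ← this]
  split_ifs <;> ring

theorem Kg_le : Kg ≤ Cg := by
  intro g hg
  obtain ⟨σ, c, hσ, hc, rfl, h⟩ := mem_Kg_iff.mp hg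
  refine mono_mem_Cg fun i => ⟨fun hi => ?_, fun hi => by rw [(h i hi).1]; exact hi⟩
  have : σ (σ i) = σ i := (h _ hi).1
  rwa [σ.injective this] at hi

theorem smul_fix_of_Kg {g : Co0} (hg : g ∈ Kg) {x : leechLattice} (hx : InO x) : g • x = x := by
  obtain ⟨σ, c, hσ, hc, rfl, h⟩ := mem_Kg_iff.mp hg
  refine ext8 (smul_inO (Kg_le hg) hx) hx fun j => ?_
  rw [v8, v8, mono_smul]
  have hs : σ.symm (oL j) = oL j := by
    rw [Equiv.symm_apply_eq, (h _ (oL_mem j)).1]
  simp only [signedPerm, if_neg (h _ (oL_mem j)).2, hs]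

theorem root_pm {g : Cg} (hg : matOf g = 1) {r : leechLattice} (hr : InO r) (hn : ldot r r = 32) :
    g.1 • r = r ∨ g.1 • r = -r := by
  have hgr := smul_inO g.2 hr
  have hd : InO (g.1 • r - r) := subO.sub_mem hgr hr
  have h0 : red (g.1 • r - r) = 0 := by
    have e : red (g.1 • r - r) + red r = red (g.1 • r) := by
      rw [← red_add hd hr, sub_add_cancel]
    rw [red_smul g hr, hg, Matrix.one_mulVec] at e
    exact (add_eq_right.mp e)
  obtain ⟨y, hy, he⟩ := twice_of_red hd h0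
  have hgn : ldot (g.1 • r) (g.1 • r) = 32 := by rw [co0_dot, hn]
  have hyn := norm_dvd hy
  have e1 : 4 * ldot y y = 64 - 2 * ldot (g.1 • r) r := by
    have h1 : g.1 • r = r + (y + y) := by rw [← two_nsmul, ← he]; abel
    rw [h1] at hgn ⊢
    simp only [leechLike.add_left, leechLike.add_right, leechLike.symm y r] at hgn ⊢
    omega
  have hsum : InO (g.1 • r + r) := subO.add_mem hgr hr
  have hp : ldot (g.1 • r + r) (g.1 • r + r) = 128 - 4 * ldot y y := by
    rw [leechLike.norm_add, hgn, hn]; omega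
  have hnn : 0 ≤ ldot (g.1 • r + r) (g.1 • r + r) := leechLike.norm_nonneg _
  have hy0 : 0 ≤ ldot y y := leechLike.norm_nonneg _
  rcases (show ldot y y = 0 ∨ ldot y y = 32 by omega) with h | h
  · left
    have : y = 0 := leechLike.eq_zero_of_norm h
    rw [this, smul_zero, sub_eq_zero] at he
    exact he
  · right
    have : g.1 • r + r = 0 := leechLike.eq_zero_of_norm (by omega)
    exact eq_neg_of_add_eq_zero_left this

theorem quad_inO {a b : GolayPt} (ha : a ∈ octO) (hb : b ∈ octO) (h : a ≠ b) (s t : ℤ)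
    (hs : s = 1 ∨ s = -1) (ht : t = 1 ∨ t = -1) : InO (quad a b h s t hs ht) := by
  intro i hi
  show (Pi.single a (4 * s) + Pi.single b (4 * t) : GolayPt → ℤ) i = 0
  rw [Pi.add_apply, Pi.single_eq_of_ne (fun e => hi (by rw [e]; exact ha)),
    Pi.single_eq_of_ne (fun e => hi (by rw [e]; exact hb)), add_zero]

theorem kernel_cases {g : Cg} (hg : matOf g = 1) : g.1 ∈ Kg ∨ negOne * g.1 ∈ Kg := by
  -- the sign on a root
  let P : GolayPt → GolayPt → ℤ → ℤ → Prop := fun a b s t =>
    ∀ y : leechLattice, (y : GolayPt → ℤ) = Pi.single a (4 * s) + Pi.single b (4 * t) → g.1 • y = y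
  have hP : ∀ {a b : GolayPt} (h : a ≠ b) {s t : ℤ} (hs : s = 1 ∨ s = -1) (ht : t = 1 ∨ t = -1),
      P a b s t ↔ g.1 • quad a b h s t hs ht = quad a b h s t hs ht := by
    intro a b h s t hs ht
    exact ⟨fun hp => hp _ rfl, fun hp y hy => by rwa [show y = quad a b h s t hs ht from Subtype.ext hy]⟩
  have hchain : ∀ {a b c : GolayPt}, a ∈ octO → b ∈ octO → c ∈ octO → a ≠ b → b ≠ c → a ≠ c →
      ∀ {s t u : ℤ}, (s = 1 ∨ s = -1) → (t = 1 ∨ t = -1) → (u = 1 ∨ u = -1) →
      (P a b s t ↔ P a c s u) := by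
    intro a b c ha hb hc hab hbc hac s t u hs ht hu
    have hnt : -t = 1 ∨ -t = -1 := by omega
    rw [hP hab hs ht, hP hac hs hu]
    have hsum : quad a c hac s u hs hu = quad a b hab s t hs ht + quad b c hbc (-t) u hnt hu := by
      refine Subtype.ext (funext fun i => ?_)
      show (Pi.single a (4 * s) + Pi.single c (4 * u) : GolayPt → ℤ) i =
        (Pi.single a (4 * s) + Pi.single b (4 * t) : GolayPt → ℤ) i +
          (Pi.single b (4 * -t) + Pi.single c (4 * u) : GolayPt → ℤ) i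
      simp only [Pi.add_apply, mul_neg, Pi.single_neg, Pi.neg_apply]
      ring
    have hne1 : ∀ x : leechLattice, ldot x x = 32 → x ≠ -x := fun x hx e => by
      have h2 : ldot x x = -ldot x x := by
        conv_lhs => arg 2; rw [e]
        rw [leechLike.neg_right]
      omega
    have h1 := root_pm hg (quad_inO ha hb hab s t hs ht) (quad_norm hab hs ht)
    have h2 := root_pm hg (quad_inO hb hc hbc (-t) u hnt hu) (quad_norm hbc hnt hu)
    have h3 := root_pm hg (quad_inO ha hc hac s u hs hu) (quad_norm hac hs hu)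
    have n1 := hne1 _ (quad_norm hab hs ht)
    have n2 := hne1 _ (quad_norm hbc hnt hu)
    have n3 := hne1 _ (quad_norm hac hs hu)
    rw [hsum] at h3 n3 ⊢
    rw [co0_add] at h3 ⊢
    rcases h1 with e1 | e1 <;> rcases h2 with e2 | e2 <;> rw [e1, e2] at h3 ⊢
    · simp
    · refine iff_of_true rfl (h3.elim id fun e => absurd ?_ n1)
      rw [neg_add] at e; exact add_right_cancel e
    · exfalso
      rcases h3 with e | e
      · exact n1 (add_right_cancel e).symm
      · rw [neg_add] at e; exact n2 (add_left_cancel e)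
    · exact iff_of_false (fun e => n1 e.symm) (fun e => n3 (by rw [neg_add]; exact e.symm))
  have hthird : ∀ a b : Fin 8, ∃ c, c ≠ a ∧ c ≠ b := by decide
  have third : ∀ {a b : GolayPt}, a ∈ octO → b ∈ octO → ∃ c ∈ octO, c ≠ a ∧ c ≠ b := by
    intro a b ha hb
    obtain ⟨i, rfl⟩ := (mem_octO_iff a).mp ha
    obtain ⟨j, rfl⟩ := (mem_octO_iff b).mp hb
    obtain ⟨c, h1, h2⟩ := hthird i j
    exact ⟨oL c, oL_mem c, fun e => h1 (oL_inj e), fun e => h2 (oL_inj e)⟩
  have hone : (1 : ℤ) = 1 ∨ (1 : ℤ) = -1 := Or.inl rfl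
  have hmone : (-1 : ℤ) = 1 ∨ (-1 : ℤ) = -1 := Or.inr rfl
  have hsame : ∀ {a b b' : GolayPt}, a ∈ octO → b ∈ octO → b' ∈ octO → a ≠ b → a ≠ b' →
      ∀ {s t t' : ℤ}, (s = 1 ∨ s = -1) → (t = 1 ∨ t = -1) → (t' = 1 ∨ t' = -1) →
      (P a b s t ↔ P a b' s t') := by
    intro a b b' ha hb hb' hab hab' s t t' hs ht ht'
    obtain ⟨c, hc, hca, hcb⟩ := third ha hb
    rcases eq_or_ne b b' with rfl | hbb
    · exact (hchain ha hb hc hab hcb.symm hca.symm hs ht hone).trans
        (hchain ha hc hb hca.symm hcb hab hs hone ht')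
    · exact hchain ha hb hb' hab hbb hab' hs ht ht'
  have hswap : ∀ a b s t, P a b s t ↔ P b a t s := fun a b s t => by
    simp only [P]; rw [add_comm]
  have hall : ∀ {a b a' b' : GolayPt}, a ∈ octO → b ∈ octO → a' ∈ octO → b' ∈ octO → a ≠ b → a' ≠ b' →
      ∀ {s t s' t' : ℤ}, (s = 1 ∨ s = -1) → (t = 1 ∨ t = -1) → (s' = 1 ∨ s' = -1) → (t' = 1 ∨ t' = -1) →
      (P a b s t ↔ P a' b' s' t') := by
    intro a b a' b' ha hb ha' hb' hab hab' s t s' t' hs ht hs' ht'
    rcases eq_or_ne a a' with rfl | haa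
    · obtain ⟨c, hc, hca, hcb⟩ := third ha hb
      calc P a b s t ↔ P a b s 1 := hsame ha hb hb hab hab hs ht hone
        _ ↔ P b a 1 s := hswap _ _ _ _
        _ ↔ P b c 1 1 := hsame hb ha hc hab.symm hcb.symm hone hs hone
        _ ↔ P b a 1 s' := hsame hb hc ha hcb.symm hab.symm hone hone hs'
        _ ↔ P a b s' 1 := (hswap _ _ _ _).symm
        _ ↔ P a b' s' t' := hsame ha hb hb' hab hab' hs' hone ht'
    · calc P a b s t ↔ P a a' s s' := hsame ha hb ha' hab haa hs ht hs'
        _ ↔ P a' a s' s := hswap _ _ _ _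
        _ ↔ P a' b' s' t' := hsame ha' ha hb' haa.symm hab' hs' hs ht'
  have hne : oL 0 ≠ oL 1 := fun e => absurd (oL_inj e) (by decide)
  have height : ∀ {a b : GolayPt} (h : a ≠ b),
      eight a = quad a b h 1 1 hone hone + quad a b h 1 (-1) hone hmone := by
    intro a b h
    refine Subtype.ext (funext fun i => ?_)
    show (Pi.single a 8 : GolayPt → ℤ) i = (Pi.single a (4 * 1) + Pi.single b (4 * 1) : GolayPt → ℤ) i
      + (Pi.single a (4 * 1) + Pi.single b (4 * -1) : GolayPt → ℤ) i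
    simp only [Pi.add_apply, Pi.single_apply]
    split_ifs <;> simp
  by_cases h0 : P (oL 0) (oL 1) 1 1
  · left
    refine mem_Kg.mpr fun a ha => ?_
    obtain ⟨b, hb, hba, -⟩ := third ha ha
    have e1 := (hP hba.symm hone hone).mp ((hall (oL_mem 0) (oL_mem 1) ha hb hne hba.symm hone hone hone hone).mp h0)
    have e2 := (hP hba.symm hone hmone).mp ((hall (oL_mem 0) (oL_mem 1) ha hb hne hba.symm hone hone hone hmone).mp h0)
    rw [height hba.symm, co0_add, e1, e2]
  · right
    refine mem_Kg.mpr fun a ha => ?_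
    obtain ⟨b, hb, hba, -⟩ := third ha ha
    have m : ∀ {t : ℤ} (ht : t = 1 ∨ t = -1), g.1 • quad a b hba.symm 1 t hone ht =
        -quad a b hba.symm 1 t hone ht := fun {t} ht =>
      (root_pm hg (quad_inO ha hb hba.symm 1 t hone ht) (quad_norm hba.symm hone ht)).resolve_left
        fun e => h0 ((hall (oL_mem 0) (oL_mem 1) ha hb hne hba.symm hone hone hone ht).mpr
          ((hP hba.symm hone ht).mpr e))
    rw [mul_smul, negOne_smul, height hba.symm, co0_add, m, m, ← neg_add, neg_neg]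

theorem matOf_one_iff (g : Cg) : matOf g = 1 ↔ g.1 ∈ Kg ∨ negOne * g.1 ∈ Kg := by
  refine ⟨kernel_cases, fun h => mat_ext fun x hx => ?_⟩
  rw [← red_smul g hx, Matrix.one_mulVec]
  rcases h with h | h
  · rw [smul_fix_of_Kg h hx]
  · have e : g.1 • x = -x := by
      have h2 := smul_fix_of_Kg h hx
      rw [mul_smul, negOne_smul] at h2
      conv_rhs => rw [← h2]
      rw [neg_neg]
    rw [e]
    funext a
    have e2 : red (-x) + red x = 0 := by
      rw [← red_add (subO.neg_mem hx) hx, neg_add_cancel]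
      funext b
      show ((coordHom b 0 : ℤ) : ZMod 2) = 0
      rw [map_zero, Int.cast_zero]
    have := congrFun e2 a
    exact (ZModModule.neg_eq_self (red (-x) a)).symm.trans (neg_eq_of_add_eq_zero_right this)

end Co1Oct
end H96
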