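import Cfsg.Agent.H96.Co1Local

/-!
The orders of the centraliser and of the kernel of its action; the image is the commutator
subgroup of the orthogonal group.
-/

set_option autoImplicit false

namespace H96
namespace Co1Oct

open Cfsg Finset H95
open scoped Pointwise

/-! ### The centraliser order -/

/-- the action on binary vectors -/
@[reducible] def actV : MulAction Cg (Ix → ZMod 2) where
  smul g v := Matrix.mulVec (matOf g) v
  one_smul v := by
    show Matrix.mulVec (matOf 1) v = v
    rw [show matOf 1 = 1 from matHom.map_one, Matrix.one_mulVec]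
  mul_smul g h v := by
    show Matrix.mulVec (matOf (g * h)) v = Matrix.mulVec (matOf g) (Matrix.mulVec (matOf h) v)
    rw [show matOf (g * h) = matOf g * matOf h from matHom.map_mul g h, Matrix.mulVec_mulVec]

theorem eight_inO {i : GolayPt} : InO (eight i) ↔ i ∈ octO := by
  constructor
  · intro h
    by_contra hi
    have := h i hi
    simp [eight] at this
  · intro hi k hk
    show (Pi.single i 8 : GolayPt → ℤ) k = 0
    rw [Pi.single_eq_of_ne fun e => hk (by rw [e]; exact hi)]

theorem red_congr {x y : leechLattice} (hx : InO x) (hy : InO y) :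
    red x = red y ↔ x - y ∈ twice leechLattice := by
  have hd : InO (x - y) := subO.sub_mem hx hy
  have e : red (x - y) + red y = red x := by rw [← red_add hd hy, sub_add_cancel]
  constructor
  · intro h
    have h0 : red (x - y) = 0 := by rw [h] at e; exact add_eq_right.mp e
    obtain ⟨z, -, hz⟩ := twice_of_red hd h0
    exact mem_twice.mpr ⟨z, hz⟩
  · intro h
    obtain ⟨z, hz⟩ := mem_twice.mp h
    have hzO : InO z := fun i hi => by
      have := hd i hi
      rw [hz, two_nsmul] at this
      change (z : GolayPt → ℤ) i + (z : GolayPt → ℤ) i = 0 at this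
      omega
    rw [← e, hz, two_nsmul, red_add hzO hzO, ZModModule.add_self, zero_add]

theorem eight_cls (i j : GolayPt) : eight i - eight j ∈ twice leechLattice := eight_sub_mem_twice i j

theorem stab_start (g : Cg) :
    Matrix.mulVec (matOf g) (red (eight (oL 0))) = red (eight (oL 0)) ↔ g.1 ∈ stdGrp := by
  have h0 : InO (eight (oL 0)) := eight_inO.mpr (oL_mem 0)
  rw [← red_smul g h0, red_congr (smul_inO g.2 h0) h0, ← fixesStd_iff]
  constructor
  · intro h
    have hall : ∀ i, ∃ (j : GolayPt) (s : ℤ), (s = 8 ∨ s = -8) ∧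
        ((g.1 • eight i : leechLattice) : GolayPt → ℤ) = Pi.single j s := by
      intro i
      have h1 : g.1 • eight i - g.1 • eight (oL 0) ∈ twice leechLattice := by
        rw [← co0_sub]; exact H95.smul_twice g.1 (eight_cls _ _)
      have h2 : eight none - g.1 • eight i ∈ twice leechLattice := by
        have h3 := sub_mem (eight_cls none (oL 0)) (add_mem h1 h)
        rwa [show eight none - eight (oL 0) - (g.1 • eight i - g.1 • eight (oL 0) + (g.1 • eight (oL 0) - eight (oL 0)))
          = eight none - g.1 • eight i by abel] at h3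
      obtain ⟨j, e | e⟩ := cross_std (by rw [co0_dot, eight_norm]) h2
      · exact ⟨j, 8, Or.inl rfl, by rw [e]; rfl⟩
      · exact ⟨j, -8, Or.inr rfl, by rw [e]; exact (Pi.single_neg j 8).symm⟩
    obtain ⟨σ, c, hσ, hc, e⟩ := exists_mono_of_eight hall
    rw [e]; exact mono_fixesStd _ _ _ _
  · intro h
    obtain ⟨σ, c, hσ, hc, e⟩ := exists_mono_of_fixesStd h
    obtain ⟨s, hs, es⟩ := monMap_mono σ c hσ hc (oL 0)
    rw [← e] at es
    rcases eight_single hs es with e' | e' <;> rw [e']
    · exact eight_cls _ _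
    · rw [show -eight (σ (oL 0)) - eight (oL 0) = -(eight (σ (oL 0)) + eight (oL 0)) by abel]
      exact neg_mem (leechLike.sub_mem_twice_iff.mp (eight_cls _ _))

theorem image_of_mono {σ : Equiv.Perm GolayPt} {c : Finset GolayPt} {hσ : σ ∈ M24}
    {hc : c ∈ supports (golayCode : Set (GolayPt → ZMod 2))} (h : mono σ c hσ hc ∈ Cg) :
    octO.image σ = octO := by
  refine eq_of_subset_of_card_le ?_ (by rw [card_image_of_injective _ σ.injective])
  intro k hk
  obtain ⟨i, hi, rfl⟩ := mem_image.mp hk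
  have h1 := smul_inO h (eight_inO.mpr hi)
  by_contra hk
  have := h1 (σ i) hk
  obtain ⟨s, hs, es⟩ := monMap_mono σ c hσ hc i
  rw [es, Pi.single_eq_same] at this
  omega

theorem card_std_Cg : Nat.card {g : Cg // g.1 ∈ stdGrp} = 322560 * 4096 := by
  classical
  have hcard : Nat.card (supports (golayCode : Set (GolayPt → ZMod 2))) = 4096 := by
    rw [← golayOK.card_code]
    exact Nat.card_congr
      { toFun := fun c => ⟨ind c.1, mem_supports_iff.mp c.2⟩
        invFun := fun a => ⟨support₂ a.1, ⟨a.1, a.2, rfl⟩⟩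
        left_inv := fun c => Subtype.ext (support₂_ind c.1)
        right_inv := fun a => Subtype.ext (ind_support₂ a.1) }
  rw [← hcard, ← H90.natCard_stab_octad octO_mem, ← Nat.card_prod]
  have hmem : ∀ p : MulAction.stabilizer M24 octO × supports (golayCode : Set (GolayPt → ZMod 2)),
      mono p.1.1.1 p.2.1 p.1.1.2 p.2.2 ∈ Cg := fun p => mono_mem_Cg (stab_iff p.1.2)
  refine (Nat.card_eq_of_bijective (fun p => (⟨⟨_, hmem p⟩, fixesStd_iff.mp (mono_fixesStd p.1.1.1 p.2.1 p.1.1.2 p.2.2)⟩ :
    {g : Cg // g.1 ∈ stdGrp})) ⟨?_, ?_⟩).symm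
  · intro p q h
    obtain ⟨h1, h2⟩ := mono_injective (hσ := p.1.1.2) (hσ' := q.1.1.2) (hc := p.2.2) (hc' := q.2.2)
      (congrArg (fun x : {g : Cg // g.1 ∈ stdGrp} => x.1.1) h)
    exact Prod.ext (Subtype.ext (Subtype.ext h1)) (Subtype.ext h2)
  · rintro ⟨⟨g, hg⟩, hs⟩
    obtain ⟨σ, c, hσ, hc, rfl⟩ := exists_mono_of_fixesStd (fixesStd_iff.mpr hs)
    exact ⟨(⟨⟨σ, hσ⟩, image_of_mono hg⟩, ⟨c, hc⟩), rfl⟩

theorem card_singular : Nat.card {v : Ix → ZMod 2 // v ≠ 0 ∧ qf v = 0} = 135 := by
  rw [Nat.card_eq_fintype_card]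
  decide +kernel

theorem card_Cg : Nat.card Cg = 178362777600 := by
  letI := actV
  haveI : Finite Co0 := co0_finite
  set b := red (eight (oL 0)) with hb
  have h0 : InO (eight (oL 0)) := eight_inO.mpr (oL_mem 0)
  have hb0 : b ≠ 0 := by
    rw [hb, start_red]
    decide +kernel
  have horb : MulAction.orbit Cg b = {v | v ≠ 0 ∧ qf v = 0} := by
    ext v
    constructor
    · rintro ⟨g, rfl⟩
      refine ⟨fun h => hb0 ?_, ?_⟩
      · have := congrArg (fun w => (g⁻¹ : Cg) • w) h
        simp only [inv_smul_smul] at this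
        rw [this]
        exact Matrix.mulVec_zero _
      · show qf (Matrix.mulVec (matOf g) b) = 0
        rw [hb, ← red_smul g h0]
        exact qf_red_of_norm (smul_inO g.2 h0) (by rw [co0_dot, eight_norm])
    · rintro ⟨hv, hq⟩
      obtain ⟨m, e, hm⟩ := reached_all v hv hq
      obtain ⟨-, g, hg⟩ := reached_orbit m.val (List.elem_iff.mp hm)
      exact ⟨g, by show Matrix.mulVec (matOf g) b = v; rw [hb, start_red, hg, e]⟩
  have hstab : Nat.card (MulAction.stabilizer Cg b) = 322560 * 4096 := by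
    rw [← card_std_Cg]
    exact Nat.card_congr (Equiv.subtypeEquivRight fun g => stab_start g)
  have h := Subgroup.card_mul_index (MulAction.stabilizer Cg b)
  rw [MulAction.index_stabilizer, horb, hstab] at h
  rw [← h, ← Nat.card_coe_set_eq]
  rw [show Nat.card {v : Ix → ZMod 2 | v ≠ 0 ∧ qf v = 0} = 135 from card_singular]

/-! ### The kernel -/

/-- the codewords avoiding the octad -/
def disList : List ℕ :=
  (((List.range 4096).filter fun n => Nat.beq (H90.encode n &&& 5279) 0).map H90.encode)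

theorem disList_ok : disList.length = 32 ∧ disList.Nodup ∧ (∀ M ∈ disList, M < 2 ^ 24) := by
  decide +kernel

theorem disjoint_supp (c : Finset GolayPt) :
    (c ∈ supports (golayCode : Set (GolayPt → ZMod 2)) ∧ ∀ i ∈ octO, i ∉ c) ↔
      ∃ M ∈ disList, c = H90.setOf' M := by
  simp only [disList, List.mem_map, List.mem_filter, List.mem_range]
  constructor
  · rintro ⟨hc, hd⟩
    obtain ⟨n, hn, rfl⟩ := H90.mem_supports_iff.mp hc
    refine ⟨_, ⟨n, ⟨hn, ?_⟩, rfl⟩, rfl⟩
    have e : H90.encode n &&& 5279 = 0 := by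
      refine H90.setOf'_injOn (Nat.and_le_left.trans_lt (H90.encode_lt hn)) (by norm_num) ?_
      rw [H90.setOf'_and]
      ext i
      simp only [mem_inter, H90.mem_setOf' (m := 0), Nat.zero_testBit, Bool.false_eq_true, iff_false,
        not_and]
      exact fun h1 h2 => hd i h2 h1
    rw [e]; rfl
  · rintro ⟨_, ⟨n, ⟨hn, he⟩, rfl⟩, rfl⟩
    refine ⟨H90.mem_supports_iff.mpr ⟨n, hn, rfl⟩, fun i hi h => ?_⟩
    have : i ∈ H90.setOf' (H90.encode n &&& 5279) := by
      rw [H90.setOf'_and]; exact mem_inter.mpr ⟨h, hi⟩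
    rw [Nat.eq_of_beq_eq_true he, H90.mem_setOf', Nat.zero_testBit] at this
    exact Bool.false_ne_true this

theorem card_disjoint_supp :
    Nat.card {c : Finset GolayPt // c ∈ supports (golayCode : Set (GolayPt → ZMod 2)) ∧ ∀ i ∈ octO, i ∉ c}
      = 32 := by
  classical
  rw [show {c : Finset GolayPt // c ∈ supports (golayCode : Set (GolayPt → ZMod 2)) ∧ ∀ i ∈ octO, i ∉ c}
    = {c : Finset GolayPt // ∃ M ∈ disList, c = H90.setOf' M} from by
      simp only [disjoint_supp]]
  obtain ⟨hl, hn, hlt⟩ := disList_ok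
  rw [Nat.card_congr (Equiv.subtypeEquivRight (q := fun c => c ∈ disList.toFinset.image H90.setOf')
    fun c => by simp [eq_comm]), Nat.card_eq_finsetCard, card_image_of_injOn, List.toFinset_card_of_nodup hn, hl]
  intro a ha b hb h
  exact H90.setOf'_injOn (hlt a (List.mem_toFinset.mp ha)) (hlt b (List.mem_toFinset.mp hb)) h

/-- the pointwise stabiliser of the octad -/
def fixT : Subgroup (Equiv.Perm GolayPt) :=
  M24 ⊓ fixingSubgroup (Equiv.Perm GolayPt) (octO : Set GolayPt)

theorem mem_fixT {σ : Equiv.Perm GolayPt} : σ ∈ fixT ↔ σ ∈ M24 ∧ ∀ i ∈ octO, σ i = i := by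
  simp [fixT, mem_fixingSubgroup_iff, Equiv.Perm.smul_def]

theorem card_Kg : Nat.card Kg = 512 := by
  have h16 : Nat.card fixT = 16 := (H90.octad_fix octO octO_mem).1
  rw [show (512 : ℕ) = 16 * 32 by norm_num, ← h16, ← card_disjoint_supp, ← Nat.card_prod]
  refine (Nat.card_eq_of_bijective (fun p : fixT × {c : Finset GolayPt //
      c ∈ supports (golayCode : Set (GolayPt → ZMod 2)) ∧ ∀ i ∈ octO, i ∉ c} =>
    (⟨mono p.1.1 p.2.1 (mem_fixT.mp p.1.2).1 p.2.2.1, mem_Kg_iff.mpr ⟨_, _, _, _, rfl,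
      fun i hi => ⟨(mem_fixT.mp p.1.2).2 i hi, p.2.2.2 i hi⟩⟩⟩ : Kg)) ⟨?_, ?_⟩).symm
  · intro p q h
    obtain ⟨h1, h2⟩ := mono_injective (hσ := (mem_fixT.mp p.1.2).1) (hσ' := (mem_fixT.mp q.1.2).1)
      (hc := p.2.2.1) (hc' := q.2.2.1) (Subtype.ext_iff.mp h)
    exact Prod.ext (Subtype.ext h1) (Subtype.ext h2)
  · rintro ⟨g, hg⟩
    obtain ⟨σ, c, hσ, hc, rfl, h⟩ := mem_Kg_iff.mp hg
    exact ⟨(⟨σ, mem_fixT.mpr ⟨hσ, fun i hi => (h i hi).1⟩⟩, ⟨c, hc, fun i hi => (h i hi).2⟩), rfl⟩

theorem negOne_not_mem_Kg : negOne ∉ Kg := fun h => by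
  have := congrArg (fun v : leechLattice => (v : GolayPt → ℤ) (oL 0)) (mem_Kg.mp h _ (oL_mem 0))
  simp [negOne_smul, eight] at this

theorem rho_ker {g : Cg} : g ∈ rho.ker ↔ g.1 ∈ Kg ∨ negOne * g.1 ∈ Kg := by
  rw [← matOf_one_iff, MonoidHom.mem_ker, Subtype.ext_iff, Units.ext_iff]
  exact Iff.rfl

theorem negOne_sq : negOne * negOne = 1 :=
  co0_ext fun v => by rw [mul_smul, negOne_smul, negOne_smul, neg_neg, one_smul]

theorem card_ker : Nat.card rho.ker = 1024 := by
  classical
  have hb : Nat.card (Bool × Kg) = 1024 := by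
    rw [Nat.card_prod, card_Kg, Nat.card_eq_fintype_card, Fintype.card_bool]
  rw [← hb]
  let f : Bool × Kg → rho.ker := fun p =>
    if p.1 then ⟨⟨p.2.1, Kg_le p.2.2⟩, rho_ker.mpr (Or.inl p.2.2)⟩
    else ⟨⟨negOne * p.2.1, mul_mem negOne_mem_Cg (Kg_le p.2.2)⟩, rho_ker.mpr (Or.inr (by
      rw [← mul_assoc, negOne_sq, one_mul]; exact p.2.2))⟩
  refine (Nat.card_eq_of_bijective f ⟨?_, ?_⟩).symm
  · rintro ⟨a, x⟩ ⟨b, y⟩ h
    have h' := congrArg (fun t : rho.ker => (t.1.1 : Co0)) h
    cases a <;> cases b <;> simp only [f, Bool.false_eq_true, if_true, if_false] at h'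
    · exact Prod.ext rfl (Subtype.ext (mul_left_cancel h'))
    · exact absurd (by
        have h1 := mul_mem y.2 (inv_mem x.2)
        rwa [← h', mul_assoc, mul_inv_cancel, mul_one] at h1) negOne_not_mem_Kg
    · exact absurd (by
        have h1 := mul_mem x.2 (inv_mem y.2)
        rwa [h', mul_assoc, mul_inv_cancel, mul_one] at h1) negOne_not_mem_Kg
    · exact Prod.ext rfl (Subtype.ext h')
  · rintro ⟨g, hg⟩
    rcases rho_ker.mp hg with h | h
    · exact ⟨(true, ⟨g.1, h⟩), rfl⟩
    · refine ⟨(false, ⟨_, h⟩), Subtype.ext (Subtype.ext ?_)⟩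
      show negOne * (negOne * g.1) = g.1
      rw [← mul_assoc, negOne_sq, one_mul]

/-! ### The image -/

theorem card_iso : Nat.card (isometryGroup (ZMod 2) qf) = 348364800 := by
  rw [show qf = quadFormPlus (3 + 1) (ZMod 2) from rfl, H38.card_plus 3, ZMod.card]
  norm_num [prod_range_succ]

theorem omega_index_two : (Omega (ZMod 2) qf).index = 2 := by
  show (Omega (ZMod 2) (quadFormPlus 4 (ZMod 2))).index = 2
  rw [← H43.coe_qPlus, H43.omega_index]
  exact H43.commutator_index_even (H43.qPlus_nondeg 4)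
    (H43.reflGenerates_of_card (Or.inr (by simp))) (by simp) (CharTwo.two_eq_zero)

theorem range_rho : rho.range = Omega (ZMod 2) qf := by
  haveI : Finite Co0 := co0_finite
  haveI : Finite (isometryGroup (ZMod 2) qf) := inferInstance
  have h1 := Subgroup.card_eq_card_quotient_mul_card_subgroup rho.ker
  rw [card_Cg, card_ker, Nat.card_congr (QuotientGroup.quotientKerEquivRange rho).toEquiv] at h1
  have hr : rho.range.index = 2 := by
    have h2 := Subgroup.card_mul_index rho.range
    rw [card_iso] at h2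
    have h3 : Nat.card rho.range = 174182400 := by omega
    rw [h3] at h2
    omega
  haveI : rho.range.Normal := Subgroup.normal_of_index_eq_two hr
  have hle : Omega (ZMod 2) qf ≤ rho.range := by
    haveI : IsMulCommutative (isometryGroup (ZMod 2) qf ⧸ rho.range) :=
      haveI : IsCyclic (isometryGroup (ZMod 2) qf ⧸ rho.range) :=
        isCyclic_of_prime_card (p := 2) (by rw [← Subgroup.index]; exact hr)
      inferInstance
    exact Subgroup.Normal.quotient_commutative_iff_commutator_le.mp inferInstance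
  refine (Subgroup.eq_of_le_of_card_ge hle ?_).symm
  have h4 := Subgroup.card_mul_index (Omega (ZMod 2) qf)
  have h5 := Subgroup.card_mul_index rho.range
  rw [omega_index_two] at h4
  rw [hr] at h5
  omega

end Co1Oct
end H96
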