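import Cfsg.Agent.H96.Co1Cent
import Cfsg.Agent.H95.Co0Centre
import Cfsg.Agent.H69.Setting
import Cfsg.Agent.H43.Simple
import Cfsg.Agent.H43.Omega
import Cfsg.Agent.H38.StdForms

/-!
The orders of the centraliser of the octad involution and of its kernel; the image is `Ω⁺₈(2)`.
-/

set_option autoImplicit false

namespace H96
namespace Co1Oct

open Cfsg Finset H95
open scoped Pointwise

/-! ### Three elements -/

/-- the non-monomial element -/
def sextet : MatData := ⟨sextetRows, by decide +kernel, by decide +kernel⟩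

theorem sextet_blocks : ∀ a b : GolayPt, (a ∈ octO ↔ b ∈ octO) ∨ entryL sextet.E a b = 0 := by
  decide +kernel

theorem sextet_mem : sextet.elt ∈ Cg := by
  refine mem_Cg.mpr fun x => Subtype.ext (funext fun i => ?_)
  rw [eps_coord, MatData.elt_apply, MatData.elt_apply]
  have e : mulE sextet.E ((eps • x : leechLattice) : GolayPt → ℤ) i =
      if i ∈ octO then -mulE sextet.E (x : GolayPt → ℤ) i else mulE sextet.E (x : GolayPt → ℤ) i := by
    rw [mulE_eq, mulE_eq]
    split_ifs with hi
    · rw [← sum_neg_distrib]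
      refine sum_congr rfl fun q _ => ?_
      rcases sextet_blocks i q with h | h
      · rw [eps_coord, if_pos (h.mp hi)]; ring
      · rw [h]; ring
    · refine sum_congr rfl fun q _ => ?_
      rcases sextet_blocks i q with h | h
      · rw [eps_coord, if_neg fun hq => hi (h.mpr hq)]
      · rw [h]; ring
  rw [e]
  obtain ⟨z, -, hz⟩ := sextet.leech_ok x.2
  split_ifs
  · rw [hz i]; omega
  · rfl

theorem sigma_ok : H90.isPerm sigmaN = true ∧ H90.preservesCode sigmaN = true ∧
    H90.permMask sigmaN 5279 = 5279 ∧ H90.isCode signMask = true ∧ signMask < 2 ^ 24 := by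
  decide +kernel

/-- a permutation in the stabiliser of the octad -/
noncomputable def sigma : M24 :=
  ⟨(H90.exists_M24_repr sigma_ok.1 sigma_ok.2.1).choose,
    (H90.exists_M24_repr sigma_ok.1 sigma_ok.2.1).choose_spec.1⟩

theorem sigma_repr : H90.Repr sigma.1 sigmaN :=
  (H90.exists_M24_repr sigma_ok.1 sigma_ok.2.1).choose_spec.2

theorem stab_iff {σ : Equiv.Perm GolayPt} (h : octO.image σ = octO) (i : GolayPt) :
    σ i ∈ octO ↔ i ∈ octO := by
  constructor
  · intro hi
    rw [← h, mem_image] at hi
    obtain ⟨k, hk, e⟩ := hi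
    exact σ.injective e ▸ hk
  · intro hi
    rw [← h]
    exact mem_image_of_mem _ hi

theorem sigma_mem : permHom sigma ∈ Cg := by
  show mono sigma.1 ∅ sigma.2 empty_supp ∈ Cg
  exact mono_mem_Cg (stab_iff (by rw [octO, ← H90.setOf'_permMask sigma_repr, sigma_ok.2.2.1]))

theorem sign_supp : H90.setOf' signMask ∈ supports (golayCode : Set (GolayPt → ZMod 2)) :=
  (H90.setOf'_mem_supports_iff sigma_ok.2.2.2.2).mpr sigma_ok.2.2.2.1

/-- a sign change -/
noncomputable def signG : Co0 := mono 1 (H90.setOf' signMask) (one_mem _) sign_supp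

theorem sign_mem : signG ∈ Cg := mono_mem_Cg fun _ => Iff.rfl

/-- the generators -/
noncomputable def genEl : ℕ → Cg
  | 0 => ⟨sextet.elt, sextet_mem⟩
  | 1 => ⟨permHom sigma, sigma_mem⟩
  | _ => ⟨signG, sign_mem⟩

/-- binary vector of a mask -/
def vecOf (m : ℕ) (a : Ix) : ZMod 2 := if m.testBit (num a) then 1 else 0

/-- entry of a list of masks -/
def maskEnt (k : ℕ) (a b : Ix) : ZMod 2 := vecOf ((genMasks.getD k []).getD (num a) 0) b

/-- matrix of a list of masks -/
def maskMat (k : ℕ) : Matrix Ix Ix (ZMod 2) := Matrix.of (maskEnt k)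

theorem numer_mat : ∀ a b : Ix,
    ((numer a (fun j => mulE sextetRows (spread (rowF basisRows (num b))) (oL j) / 8) / 16 : ℤ) : ZMod 2)
      = maskEnt 0 a b := by decide +kernel

/-- the inverse of the permutation on the eight points -/
def sigmaInv (j : Fin 8) : Fin 8 := ⟨sigmaOp.idxOf j.val % 8, Nat.mod_lt _ (by norm_num)⟩

theorem sigma_op : ∀ j : Fin 8,
    H90.img sigmaN (H90.idx (oL (sigmaInv j))).val = (H90.idx (oL j)).val := by decide +kernel

theorem numer_perm : ∀ a b : Ix,
    ((numer a (fun j => rowF basisRows (num b) (sigmaInv j)) / 16 : ℤ) : ZMod 2) = maskEnt 1 a b := by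
  decide +kernel

theorem numer_sign : ∀ a b : Ix,
    ((numer a (fun j => if oL j ∈ H90.setOf' signMask then -rowF basisRows (num b) j
      else rowF basisRows (num b) j) / 16 : ℤ) : ZMod 2) = maskEnt 2 a b := by
  decide +kernel

theorem matOf_gen : ∀ k : Fin 3, matOf (genEl k.val) = maskMat k.val := by
  intro k
  refine Matrix.ext fun a b => ?_
  show ((numer a (v8 ((genEl k.val).1 • bvec b)) / 16 : ℤ) : ZMod 2) = maskEnt k.val a b
  match k with
  | 0 =>
    exact numer_mat a b
  | 1 =>
    rw [show ((1 : Fin 3) : ℕ) = 1 from rfl, ← numer_perm a b]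
    congr 2
    congr 1
    funext j
    show ((permHom sigma • bvec b : leechLattice) : GolayPt → ℤ) (oL j) = _
    rw [permHom_apply, ← v8_bvec b (sigmaInv j)]
    show (bvec b : GolayPt → ℤ) _ = (bvec b : GolayPt → ℤ) (oL (sigmaInv j))
    refine congrArg (bvec b : GolayPt → ℤ) ?_
    apply (Equiv.symm_apply_eq _).mpr
    exact ((sigma_repr.apply_eq_iff _ _).mpr (sigma_op j)).symm
  | 2 =>
    rw [show ((2 : Fin 3) : ℕ) = 2 from rfl, ← numer_sign a b]
    congr 2
    congr 1
    funext j
    show ((mono 1 (H90.setOf' signMask) (one_mem _) sign_supp • bvec b : leechLattice) : GolayPt → ℤ) (oL j) = _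
    rw [mono_smul, ← v8_bvec b j]
    rfl

/-- action of a matrix of masks on a mask -/
def stepM (k m : ℕ) : ℕ :=
  ((List.range 8).map fun a =>
    (H90.popc (((genMasks.getD k []).getD a 0) &&& m) % 2) * 2 ^ a).sum

theorem stepM_ok : ∀ k : Fin 3, ∀ m : Fin 256,
    vecOf (stepM k.val m.val) = Matrix.mulVec (maskMat k.val) (vecOf m.val) ∧ stepM k.val m.val < 256 := by
  decide +kernel

/-- the orbit along the tree -/
def reached : List ℕ :=
  pointTree.foldl (fun L e => L ++ [stepM e.2 (L.getD e.1 startPt)]) [startPt]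

theorem reached_all : ∀ v : Ix → ZMod 2, v ≠ 0 → qf v = 0 →
    ∃ m : Fin 256, vecOf m.val = v ∧ reached.elem m.val = true := by decide +kernel

theorem start_red : red (eight (oL 0)) = vecOf startPt := by
  have h : ∀ a : Ix, ((numer a (fun j => (Pi.single (oL 0) 8 : GolayPt → ℤ) (oL j)) / 16 : ℤ) : ZMod 2) =
      vecOf startPt a := by decide +kernel
  funext a
  exact h a

theorem reached_orbit : ∀ m ∈ reached, m < 256 ∧
    ∃ g : Cg, Matrix.mulVec (matOf g) (vecOf startPt) = vecOf m := by
  have hs : startPt < 256 := by decide +kernel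
  have hT : ∀ e ∈ pointTree, e.2 < 3 := by decide +kernel
  have key : ∀ T : List (ℕ × ℕ), (∀ e ∈ T, e.2 < 3) →
      ∀ m ∈ T.foldl (fun L e => L ++ [stepM e.2 (L.getD e.1 startPt)]) [startPt], m < 256 ∧
        ∃ g : Cg, Matrix.mulVec (matOf g) (vecOf startPt) = vecOf m := by
    intro T hT
    induction T using List.reverseRecOn with
    | nil =>
      intro m hm
      rw [List.foldl_nil, List.mem_singleton] at hm
      rw [hm]
      exact ⟨hs, 1, by rw [show matOf 1 = 1 from matHom.map_one, Matrix.one_mulVec]⟩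
    | append_singleton T e ih =>
      intro m hm
      rw [List.foldl_append, List.foldl_cons, List.foldl_nil] at hm
      have ih' := ih fun e he => hT e (by simp [he])
      rcases List.mem_append.mp hm with hm | hm
      · exact ih' m hm
      · rw [List.mem_singleton] at hm
        generalize T.foldl (fun L e => L ++ [stepM e.2 (L.getD e.1 startPt)]) [startPt] = L at ih' hm
        have h2 := hT e (by simp)
        have hmem : L.getD e.1 startPt < 256 ∧
            ∃ g : Cg, Matrix.mulVec (matOf g) (vecOf startPt) = vecOf (L.getD e.1 startPt) := by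
          by_cases hlt : e.1 < L.length
          · rw [List.getD_eq_getElem _ _ hlt]; exact ih' _ (List.getElem_mem hlt)
          · rw [List.getD_eq_default _ _ (Nat.le_of_not_lt hlt)]
            exact ⟨hs, 1, by rw [show matOf 1 = 1 from matHom.map_one, Matrix.one_mulVec]⟩
        obtain ⟨hb, g, hg⟩ := hmem
        obtain ⟨e1, e2⟩ := stepM_ok ⟨e.2, h2⟩ ⟨_, hb⟩
        refine ⟨hm ▸ e2, genEl e.2 * g, ?_⟩
        rw [show matOf (genEl e.2 * g) = matOf (genEl e.2) * matOf g from matHom.map_mul _ _,
          ← Matrix.mulVec_mulVec, hg, matOf_gen ⟨e.2, h2⟩, hm]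
        exact e1.symm
  exact key pointTree hT

end Co1Oct
end H96
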