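/-!
Data for the centraliser of the involution negating an octad in the automorphism group of the
Leech lattice: a basis of the eight-dimensional sublattice that is hyperbolic modulo two,
three elements of the centraliser and a Schreier tree on 135 singular points.
-/

set_option autoImplicit false

namespace H96
namespace Co1Oct

/-- the positions of the octad -/
def octIdx : List Nat :=
  [0, 1, 2, 3, 4, 7, 10, 12]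

/-- the basis -/
def basisRows : List (List Int) :=
  [[2, -2, 6, 2, 2, 2, 2, 2],
   [0, -4, 12, -4, -4, 0, 8, -24],
   [2, 6, -10, 6, 6, 6, -2, 2],
   [-4, 0, -4, -8, -4, -8, -4, 8],
   [-2, -2, -6, 2, 6, -10, -2, -2],
   [-2, -10, 6, 6, -6, -6, -2, -2],
   [-2, -10, 6, 6, -10, -2, 2, -6],
   [2, 6, -6, -2, 10, 6, 2, -10]]

/-- sixteen times the coordinate functionals -/
def coordRows : List (List Int) :=
  [[-1034, 238, 226, 178, 174, 142, 70, 38],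
   [-518, 122, 114, 90, 86, 70, 34, 18],
   [-1070, 250, 234, 186, 178, 146, 70, 38],
   [-946, 218, 206, 162, 158, 130, 62, 34],
   [62, -14, -14, -10, -10, -10, -2, -2],
   [-140, 32, 32, 24, 24, 20, 4, 4],
   [-38, 6, 6, 6, 6, 6, 6, 2],
   [104, -28, -24, -20, -16, -12, -8, -4]]

/-- eight times a non-monomial element -/
def sextetRows : List (List Int) :=
  [[-4, 4, 4, 4, 0, 0, 0, 0, 0, 0, 0, 0, 0, 0, 0, 0, 0, 0, 0, 0, 0, 0, 0, 0],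
   [4, -4, 4, 4, 0, 0, 0, 0, 0, 0, 0, 0, 0, 0, 0, 0, 0, 0, 0, 0, 0, 0, 0, 0],
   [4, 4, -4, 4, 0, 0, 0, 0, 0, 0, 0, 0, 0, 0, 0, 0, 0, 0, 0, 0, 0, 0, 0, 0],
   [4, 4, 4, -4, 0, 0, 0, 0, 0, 0, 0, 0, 0, 0, 0, 0, 0, 0, 0, 0, 0, 0, 0, 0],
   [0, 0, 0, 0, 4, 0, 0, -4, 0, 0, -4, 0, -4, 0, 0, 0, 0, 0, 0, 0, 0, 0, 0, 0],
   [0, 0, 0, 0, 0, 4, 0, 0, 0, 0, 0, 0, 0, 0, -4, 0, 0, -4, 0, 0, 0, 0, 0, -4],
   [0, 0, 0, 0, 0, 0, 4, 0, 0, -4, 0, -4, 0, 0, 0, 0, 0, 0, 0, 0, 0, 0, -4, 0],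
   [0, 0, 0, 0, -4, 0, 0, 4, 0, 0, -4, 0, -4, 0, 0, 0, 0, 0, 0, 0, 0, 0, 0, 0],
   [0, 0, 0, 0, 0, 0, 0, 0, 4, 0, 0, 0, 0, 0, 0, -4, -4, 0, 0, -4, 0, 0, 0, 0],
   [0, 0, 0, 0, 0, 0, -4, 0, 0, 4, 0, -4, 0, 0, 0, 0, 0, 0, 0, 0, 0, 0, -4, 0],
   [0, 0, 0, 0, -4, 0, 0, -4, 0, 0, 4, 0, -4, 0, 0, 0, 0, 0, 0, 0, 0, 0, 0, 0],
   [0, 0, 0, 0, 0, 0, -4, 0, 0, -4, 0, 4, 0, 0, 0, 0, 0, 0, 0, 0, 0, 0, -4, 0],
   [0, 0, 0, 0, -4, 0, 0, -4, 0, 0, -4, 0, 4, 0, 0, 0, 0, 0, 0, 0, 0, 0, 0, 0],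
   [0, 0, 0, 0, 0, 0, 0, 0, 0, 0, 0, 0, 0, 4, 0, 0, 0, 0, -4, 0, -4, -4, 0, 0],
   [0, 0, 0, 0, 0, -4, 0, 0, 0, 0, 0, 0, 0, 0, 4, 0, 0, -4, 0, 0, 0, 0, 0, -4],
   [0, 0, 0, 0, 0, 0, 0, 0, -4, 0, 0, 0, 0, 0, 0, 4, -4, 0, 0, -4, 0, 0, 0, 0],
   [0, 0, 0, 0, 0, 0, 0, 0, -4, 0, 0, 0, 0, 0, 0, -4, 4, 0, 0, -4, 0, 0, 0, 0],
   [0, 0, 0, 0, 0, -4, 0, 0, 0, 0, 0, 0, 0, 0, -4, 0, 0, 4, 0, 0, 0, 0, 0, -4],
   [0, 0, 0, 0, 0, 0, 0, 0, 0, 0, 0, 0, 0, -4, 0, 0, 0, 0, 4, 0, -4, -4, 0, 0],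
   [0, 0, 0, 0, 0, 0, 0, 0, -4, 0, 0, 0, 0, 0, 0, -4, -4, 0, 0, 4, 0, 0, 0, 0],
   [0, 0, 0, 0, 0, 0, 0, 0, 0, 0, 0, 0, 0, -4, 0, 0, 0, 0, -4, 0, 4, -4, 0, 0],
   [0, 0, 0, 0, 0, 0, 0, 0, 0, 0, 0, 0, 0, -4, 0, 0, 0, 0, -4, 0, -4, 4, 0, 0],
   [0, 0, 0, 0, 0, 0, -4, 0, 0, -4, 0, -4, 0, 0, 0, 0, 0, 0, 0, 0, 0, 0, 4, 0],
   [0, 0, 0, 0, 0, -4, 0, 0, 0, 0, 0, 0, 0, 0, -4, 0, 0, -4, 0, 0, 0, 0, 0, 4]]

/-- a permutation fixing the octad -/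
def sigmaN : Nat :=
  234609428759105202097551343070878764

/-- its action on the octad -/
def sigmaOp : List Nat :=
  [7, 1, 5, 4, 6, 3, 0, 2]

/-- an octad meeting the base octad in two points -/
def signMask : Nat :=
  13062145

/-- the three matrices modulo two, a mask a row -/
def genMasks : List (List Nat) :=
  [[7, 4, 2, 8, 22, 93, 59, 134],
   [236, 1, 174, 73, 207, 117, 204, 193],
   [60, 63, 204, 192, 45, 32, 125, 117]]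

/-- the point of the standard frame -/
def startPt : Nat :=
  95

/-- parent and generator -/
def pointTree : List (Nat × Nat) :=
  [(0, 0), (1, 1), (1, 2), (2, 0), (2, 1), (2, 2), (4, 1), (4, 2), (5, 0), (5, 1), (6, 0), (6, 1), (7, 0), (7, 1), (8, 1), (9, 1), (9, 2), (10, 0), (10, 1), (10, 2), (11, 1), (11, 2), (13, 1), (13, 2), (14, 0), (14, 1), (15, 0), (15, 1), (16, 0), (16, 1), (16, 2), (17, 1), (18, 1), (19, 0), (19, 1), (19, 2), (22, 1), (23, 1), (24, 0), (24, 1), (25, 1), (26, 0), (26, 1), (27, 1), (28, 1), (28, 2), (29, 1), (29, 2), (30, 0), (30, 1), (32, 0), (32, 1), (33, 0), (33, 1), (34, 1), (35, 0), (35, 1), (35, 2), (37, 1), (38, 0), (38, 1), (38, 2), (39, 1), (40, 1), (41, 0), (41, 1), (42, 1), (43, 0), (43, 2), (44, 1), (45, 1), (45, 2), (46, 0), (46, 1), (47, 0), (47, 1), (48, 0), (48, 1), (49, 1), (50, 0),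 (50, 1), (50, 2), (51, 1), (51, 2), (52, 2), (53, 1), (54, 0), (54, 1), (55, 0), (55, 1), (56, 2), (57, 2), (59, 1), (59, 2), (60, 1), (60, 2), (61, 0), (62, 1), (63, 1), (64, 1), (66, 0), (67, 0), (68, 2), (70, 1), (73, 1), (73, 2), (74, 1), (74, 2), (75, 2), (76, 0), (76, 1), (77, 2), (78, 1), (79, 0), (79, 2), (80, 2), (81, 2), (82, 1), (84, 0), (90, 2), (93, 2), (96, 0), (96, 1), (98, 1), (101, 2), (103, 0), (104, 1), (105, 1), (108, 1), (110, 2), (111, 2), (115, 1), (120, 1), (130, 1)]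

/-- an octad disjoint from the base one -/
def farOct : Nat :=
  11952160

/-- another one -/
def farOctTwo : Nat :=
  15515712

end Co1Oct
end H96
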