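import Cfsg.Prelude.Def_Classical
import Cfsg.Agent.H96.Co1OctData
import Cfsg.Agent.H96.LeechCheck
import Cfsg.Agent.H95.MatElt
import Cfsg.Agent.H95.Orbits
import Cfsg.Agent.H95.Co1Frame
import Cfsg.Agent.H95.Co1Simple
import Cfsg.Agent.H90.Involutions

/-!
The centraliser in `Co0` of the element negating the coordinates of an octad acts on the
eight-dimensional sublattice supported by the octad, modulo twice that sublattice.
-/

set_option autoImplicit false

namespace H96
namespace Co1Oct

open Cfsg Finset H95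

/-- the index set of the hyperbolic basis -/
abbrev Ix : Type := Fin 4 ⊕ Fin 4

/-- number of a basis vector -/
def num : Ix → ℕ := Sum.elim (fun i => i.val) fun i => 4 + i.val

/-- the points of the octad -/
def oL (j : Fin 8) : GolayPt :=
  H90.pt ⟨octIdx.getD j.val 0 % 24, Nat.mod_lt _ (by norm_num)⟩

/-- the octad -/
def octO : Finset GolayPt := H90.setOf' 5279

theorem oL_inj : Function.Injective oL := by unfold Function.Injective; decide +kernel

theorem mem_octO_iff : ∀ i, i ∈ octO ↔ ∃ j, oL j = i := by decide +kernel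

theorem oL_mem (j : Fin 8) : oL j ∈ octO := (mem_octO_iff _).mpr ⟨j, rfl⟩

theorem octO_mem : octO ∈ octads := by
  have h : H90.encode 1183 = 5279 ∧ H90.popc (H90.encode 1183) = 8 := by decide +kernel
  rw [octO, ← h.1]
  exact H90.octad_of_code (by norm_num) h.2

/-- supported by the octad -/
def InO (x : leechLattice) : Prop := ∀ i, i ∉ octO → (x : GolayPt → ℤ) i = 0

/-- the sublattice supported by the octad -/
def subO : AddSubgroup leechLattice where
  carrier := {x | InO x}
  zero_mem' := fun _ _ => rfl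
  add_mem' := fun {x y} hx hy i hi => by
    show (x : GolayPt → ℤ) i + (y : GolayPt → ℤ) i = 0
    rw [hx i hi, hy i hi, add_zero]
  neg_mem' := fun {x} hx i hi => by
    show -(x : GolayPt → ℤ) i = 0
    rw [hx i hi, neg_zero]

/-- the eight coordinates -/
def v8 (x : leechLattice) (j : Fin 8) : ℤ := (x : GolayPt → ℤ) (oL j)

theorem sum_octO {M : Type*} [AddCommMonoid M] (f : GolayPt → M) (hf : ∀ i, i ∉ octO → f i = 0) :
    ∑ i, f i = ∑ j, f (oL j) := by
  rw [← sum_image (f := f) (s := univ) fun a _ b _ h => oL_inj h]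
  refine (sum_subset (subset_univ _) fun i _ hi => hf i fun h => hi ?_).symm
  obtain ⟨j, rfl⟩ := (mem_octO_iff i).mp h
  exact mem_image_of_mem _ (mem_univ j)

theorem ldot_eight8 {x : leechLattice} (hx : InO x) (y : leechLattice) :
    ldot x y = ∑ j, v8 x j * v8 y j :=
  sum_octO (fun i => (x : GolayPt → ℤ) i * (y : GolayPt → ℤ) i) fun i hi => by
    show (x : GolayPt → ℤ) i * (y : GolayPt → ℤ) i = 0
    rw [hx i hi, zero_mul]

theorem ext8 {x y : leechLattice} (hx : InO x) (hy : InO y) (h : ∀ j, v8 x j = v8 y j) : x = y := by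
  refine Subtype.ext (funext fun i => ?_)
  by_cases hi : i ∈ octO
  · obtain ⟨j, rfl⟩ := (mem_octO_iff i).mp hi
    exact h j
  · rw [hx i hi, hy i hi]

/-- the shape of a vector supported by the octad -/
theorem shape {x : leechLattice} (hx : InO x) : ∃ (p : ℤ) (d : Fin 8 → ℤ),
    (∀ j, v8 x j = 2 * p + 4 * d j) ∧ 2 ∣ ∑ j, d j := by
  obtain ⟨m, hp, hs, hw⟩ := mem_leech.mp x.2
  have hz : ∃ i, i ∉ octO := by
    by_contra h
    push_neg at h
    have hc : (univ : Finset GolayPt).card ≤ octO.card := card_le_card fun i _ => h i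
    rw [octO_mem.2, card_univ, H90.card_golayPt] at hc
    omega
  obtain ⟨i0, hi0⟩ := hz
  have hm : 2 ∣ m := by have := hp i0; rw [hx i0 hi0] at this; omega
  obtain ⟨k, rfl⟩ := hm
  have hk : (k : ZMod 2) = 0 ∨ (k : ZMod 2) = 1 := zmod2_cases _
  have hout : ∀ i, i ∉ octO → word (2 * k) (x : GolayPt → ℤ) i = (k : ZMod 2) := fun i hi => by
    rw [word_eq (q := -k) (by rw [hx i hi]; ring), Int.cast_neg]
    exact ZModModule.neg_eq_self _
  set w := word (2 * k) (x : GolayPt → ℤ) with hwd
  have hsum : w + (fun _ => (k : ZMod 2)) ∈ golayCode := add_mem hw (const_mem_code _)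
  have hall : ∀ j j', w (oL j) = w (oL j') := by
    rcases eq_or_ne (w + fun _ => (k : ZMod 2)) 0 with h0 | h0
    · intro j j'
      have a := congrFun h0 (oL j)
      have b := congrFun h0 (oL j')
      simp only [Pi.add_apply, Pi.zero_apply] at a b
      exact add_right_cancel (a.trans b.symm)
    · have h8 := H90.eight_le_weight hsum h0
      rw [hammingNorm_eq_support₂] at h8
      have hsub : support₂ (w + fun _ => (k : ZMod 2)) ⊆ octO := fun i hi => by
        by_contra h
        simp only [support₂, mem_filter, mem_univ, true_and, Pi.add_apply, hout i h] at hi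
        exact hi (ZModModule.add_self _)
      have he := eq_of_subset_of_card_le hsub (by rw [octO_mem.2]; exact h8)
      intro j j'
      have a : oL j ∈ support₂ (w + fun _ => (k : ZMod 2)) := he ▸ oL_mem j
      have b : oL j' ∈ support₂ (w + fun _ => (k : ZMod 2)) := he ▸ oL_mem j'
      simp only [support₂, mem_filter, mem_univ, true_and, Pi.add_apply] at a b
      have key : ∀ u v c : ZMod 2, u + c ≠ 0 → v + c ≠ 0 → u = v := by decide
      exact key _ _ _ a b
  have hq : ∀ j, ∃ q : ℤ, v8 x j = 2 * k + 2 * q ∧ w (oL j) = (q : ZMod 2) := fun j => by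
    obtain ⟨q, hq⟩ := hp (oL j)
    exact ⟨q, by rw [v8]; linarith, word_eq (by linarith)⟩
  choose q hq hqw using hq
  have hpar : ∀ j, 2 ∣ q j - q 0 := fun j => by
    have h := hall j 0
    rw [hqw, hqw, ZMod.intCast_eq_intCast_iff_dvd_sub] at h
    omega
  choose d hd using hpar
  refine ⟨k + q 0, d, fun j => by rw [hq j]; linarith [hd j], ?_⟩
  rw [sum_octO _ hx] at hs
  have e : ∑ j, (x : GolayPt → ℤ) (oL j) = 16 * (k + q 0) + 4 * ∑ j, d j := by
    calc ∑ j, (x : GolayPt → ℤ) (oL j) = ∑ j : Fin 8, (2 * (k + q 0) + 4 * d j) :=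
          sum_congr rfl fun j _ => by rw [← v8, hq j]; linarith [hd j]
      _ = _ := by
          rw [sum_add_distrib, ← mul_sum, ← mul_sum, sum_const, card_univ, Fintype.card_fin,
            nsmul_eq_mul]
          push_cast; ring
  rw [e] at hs
  omega

/-- a row of integers on the eight points -/
def rowF (R : List (List ℤ)) (a : ℕ) (j : Fin 8) : ℤ := (R.getD a []).getD j.val 0

/-- the vector with given eight coordinates -/
def spread (f : Fin 8 → ℤ) (i : GolayPt) : ℤ := ∑ j, if oL j = i then f j else 0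

theorem basis_check : ∀ a : Ix, Check.checkB (spread (rowF basisRows (num a))) = true := by
  decide +kernel

/-- the hyperbolic basis -/
def bvec (a : Ix) : leechLattice := ⟨spread (rowF basisRows (num a)), Check.checkB_spec (basis_check a)⟩

theorem bvec_inO (a : Ix) : InO (bvec a) := fun i hi => by
  show spread (rowF basisRows (num a)) i = 0
  exact sum_eq_zero fun j _ => if_neg fun h => hi (by rw [← h]; exact oL_mem j)

theorem v8_bvec (a : Ix) (j : Fin 8) : v8 (bvec a) j = rowF basisRows (num a) j := by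
  show spread _ (oL j) = _
  rw [spread, sum_eq_single j (fun b _ h => if_neg fun e => h (oL_inj e)) (fun h => absurd (mem_univ j) h),
    if_pos rfl]

/-- sixteen times a coordinate -/
def numer (a : Ix) (f : Fin 8 → ℤ) : ℤ := ∑ j, rowF coordRows (num a) j * f j

/-- the coordinates in the basis -/
def coord (a : Ix) (x : leechLattice) : ℤ := numer a (v8 x) / 16

theorem coord_rows : ∀ a : Ix, (∑ j, rowF coordRows (num a) j) % 8 = 0 ∧
    ∀ j : Fin 8, (rowF coordRows (num a) j - rowF coordRows (num a) 0) % 4 = 0 ∧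
      rowF coordRows (num a) j % 2 = 0 := by decide +kernel

theorem numer_dvd {x : leechLattice} (hx : InO x) (a : Ix) : 16 ∣ numer a (v8 x) := by
  obtain ⟨p, d, hv, hd⟩ := shape hx
  obtain ⟨hs, hr⟩ := coord_rows a
  have e : numer a (v8 x) = 2 * p * ∑ j, rowF coordRows (num a) j +
      4 * (rowF coordRows (num a) 0 * ∑ j, d j +
        ∑ j, (rowF coordRows (num a) j - rowF coordRows (num a) 0) * d j) := by
    rw [numer, mul_sum, mul_sum, ← sum_add_distrib, mul_sum, ← sum_add_distrib]
    exact sum_congr rfl fun j _ => by rw [hv j]; ring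
  rw [e]
  refine dvd_add ?_ ?_
  · obtain ⟨t, ht⟩ : (8 : ℤ) ∣ ∑ j, rowF coordRows (num a) j := Int.dvd_of_emod_eq_zero hs
    exact ⟨p * t, by rw [ht]; ring⟩
  · refine (show (16 : ℤ) = 4 * 4 by norm_num) ▸ mul_dvd_mul_left 4 (dvd_add ?_ ?_)
    · obtain ⟨u, hu⟩ : (2 : ℤ) ∣ rowF coordRows (num a) 0 := Int.dvd_of_emod_eq_zero (hr 0).2
      obtain ⟨t, ht⟩ := hd
      exact ⟨u * t, by rw [hu, ht]; ring⟩
    · exact dvd_sum fun j _ => (Int.dvd_of_emod_eq_zero (hr j).1).mul_right _

theorem coord_eq {x : leechLattice} (hx : InO x) (a : Ix) : 16 * coord a x = numer a (v8 x) := by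
  have := numer_dvd hx a
  rw [coord]; omega

theorem numer_add (a : Ix) (f g : Fin 8 → ℤ) : numer a (f + g) = numer a f + numer a g := by
  rw [numer, numer, numer, ← sum_add_distrib]
  exact sum_congr rfl fun j _ => by rw [Pi.add_apply]; ring

/-- the coordinate homomorphism -/
def coordHom (a : Ix) : subO →+ ℤ :=
  AddMonoidHom.mk' (fun x => coord a x.1) fun x y => by
    have h1 := coord_eq x.2 a
    have h2 := coord_eq y.2 a
    have h3 := coord_eq (x + y).2 a
    have h4 := numer_add a (v8 x.1) (v8 y.1)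
    have h5 : v8 (x + y).1 = v8 x.1 + v8 y.1 := rfl
    rw [h5, h4] at h3
    omega

theorem expand_id : ∀ j k : Fin 8,
    ∑ a : Ix, rowF coordRows (num a) k * rowF basisRows (num a) j = if j = k then 16 else 0 := by
  decide +kernel

theorem expand {x : leechLattice} (hx : InO x) : x = ∑ a, coord a x • bvec a := by
  have hy : ∑ a, coord a x • bvec a ∈ subO := sum_mem fun a _ => subO.zsmul_mem (bvec_inO a) _
  refine ext8 hx hy fun j => ?_
  have h1 : v8 (∑ a, coord a x • bvec a) j = ∑ a, coord a x * rowF basisRows (num a) j := by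
    rw [v8, AddSubgroup.val_finsetSum, Finset.sum_apply]
    exact sum_congr rfl fun a _ => by
      rw [← v8_bvec]; rfl
  rw [h1]
  have h16 : 16 * ∑ a, coord a x * rowF basisRows (num a) j = 16 * v8 x j := by
    calc 16 * ∑ a, coord a x * rowF basisRows (num a) j
        = ∑ k, v8 x k * ∑ a : Ix, rowF coordRows (num a) k * rowF basisRows (num a) j := by
          rw [mul_sum]
          simp only [mul_sum]
          rw [sum_comm]
          refine sum_congr rfl fun a _ => ?_
          rw [← mul_assoc, coord_eq hx a, numer, sum_mul]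
          exact sum_congr rfl fun k _ => by ring
      _ = _ := by
          rw [sum_congr rfl fun k _ => by rw [expand_id j k, mul_ite, mul_zero]]
          rw [sum_ite_eq, if_pos (mem_univ j), mul_comm]
  omega

/-- reduction modulo twice the sublattice -/
def red (x : leechLattice) (a : Ix) : ZMod 2 := (coord a x : ZMod 2)

theorem coord_bvec : ∀ a b : Ix, numer a (rowF basisRows (num b)) = if a = b then 16 else 0 := by
  decide +kernel

theorem red_bvec (b a : Ix) : red (bvec b) a = if a = b then 1 else 0 := by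
  have h := coord_eq (bvec_inO b) a
  rw [show v8 (bvec b) = rowF basisRows (num b) from funext (v8_bvec b), coord_bvec] at h
  rw [red]
  split_ifs at h with e
  · rw [if_pos e, show coord a (bvec b) = 1 by omega, Int.cast_one]
  · rw [if_neg e, show coord a (bvec b) = 0 by omega, Int.cast_zero]

theorem twice_of_red {x : leechLattice} (hx : InO x) (h : red x = 0) :
    ∃ y, InO y ∧ x = 2 • y := by
  refine ⟨∑ a, (coord a x / 2) • bvec a, subO.sum_mem fun a _ => subO.zsmul_mem (bvec_inO a) _, ?_⟩
  conv_lhs => rw [expand hx]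
  rw [smul_sum]
  refine sum_congr rfl fun a _ => ?_
  have := congrFun h a
  rw [red, Pi.zero_apply, ZMod.intCast_zmod_eq_zero_iff_dvd] at this
  rw [← natCast_zsmul, smul_smul]
  congr 1
  push_cast
  omega

/-- the norms are divisible by 32 -/
theorem norm_dvd {x : leechLattice} (hx : InO x) : 32 ∣ ldot x x := by
  obtain ⟨p, d, hv, hd⟩ := shape hx
  have e : ldot x x = 32 * p * p + 16 * p * ∑ j, d j + 16 * ∑ j, d j * d j := by
    rw [ldot_eight8 hx, mul_sum, mul_sum]
    calc ∑ j, v8 x j * v8 x j = ∑ j : Fin 8, (4 * p * p + (16 * p * d j + 16 * (d j * d j))) :=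
          sum_congr rfl fun j _ => by rw [hv j]; ring
      _ = _ := by rw [sum_add_distrib, sum_add_distrib]; simp; ring
  have hsq : 2 ∣ ∑ j, d j * d j - ∑ j, d j := by
    rw [← sum_sub_distrib]
    refine dvd_sum fun j _ => ?_
    rw [show d j * d j - d j = (d j - 1) * d j by ring]
    exact (Int.even_mul_succ_self (d j - 1)).two_dvd.trans (by rw [sub_add_cancel])
  obtain ⟨t, ht⟩ := hd
  obtain ⟨u, hu⟩ := hsq
  exact ⟨p * p + p * t + u + t, by rw [e]; rw [ht] at hu ⊢; linarith⟩

/-- the form on the reduction -/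
abbrev qf : (Ix → ZMod 2) → ZMod 2 := quadFormPlus 4 (ZMod 2)

/-- the lift of a binary vector -/
def lift8 (v : Ix → ZMod 2) (j : Fin 8) : ℤ := ∑ a, ((v a).val : ℤ) * rowF basisRows (num a) j

theorem lift_form : ∀ v : Ix → ZMod 2,
    qf v = (((∑ j, lift8 v j * lift8 v j) / 32 : ℤ) : ZMod 2) := by decide +kernel

theorem red_add {x y : leechLattice} (hx : InO x) (hy : InO y) : red (x + y) = red x + red y := by
  funext a
  show ((coordHom a (⟨x, hx⟩ + ⟨y, hy⟩) : ℤ) : ZMod 2) = _
  rw [map_add, Int.cast_add]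
  rfl

theorem qf_red {x : leechLattice} (hx : InO x) : qf (red x) = ((ldot x x / 32 : ℤ) : ZMod 2) := by
  set x0 := ∑ a, ((red x a).val : ℤ) • bvec a with hx0d
  have h0 : InO x0 := subO.sum_mem fun a _ => subO.zsmul_mem (bvec_inO a) _
  have hv : ∀ j, v8 x0 j = lift8 (red x) j := fun j => by
    rw [v8, hx0d, AddSubgroup.val_finsetSum, Finset.sum_apply]
    exact sum_congr rfl fun a _ => by rw [← v8_bvec]; rfl
  obtain ⟨y, hy, he⟩ : ∃ y, InO y ∧ x = x0 + 2 • y := by
    refine ⟨∑ a, (coord a x / 2) • bvec a, subO.sum_mem fun a _ => subO.zsmul_mem (bvec_inO a) _, ?_⟩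
    conv_lhs => rw [expand hx]
    rw [hx0d, smul_sum, ← sum_add_distrib]
    refine sum_congr rfl fun a _ => ?_
    rw [← natCast_zsmul, smul_smul, ← add_smul]
    congr 1
    rw [red]
    have := ZMod.val_intCast (n := 2) (coord a x)
    push_cast at this ⊢
    omega
  have hform := lift_form (red x)
  rw [hform, show ∑ j, lift8 (red x) j * lift8 (red x) j = ldot x0 x0 by
    rw [ldot_eight8 h0]; simp only [hv]]
  rw [ZMod.intCast_eq_intCast_iff_dvd_sub]
  have e2 : ldot x x = ldot x0 x0 + 4 * ldot x0 y + 4 * ldot y y := by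
    rw [he, two_nsmul]
    simp only [leechLike.add_left, leechLike.add_right, leechLike.symm y x0]
    ring
  have a1 := norm_dvd (subO.add_mem h0 hy)
  have a2 := norm_dvd h0
  have a3 := norm_dvd hy
  rw [leechLike.norm_add] at a1
  omega

theorem qf_red_of_norm {x : leechLattice} (hx : InO x) (h : ldot x x = 64) : qf (red x) = 0 := by
  rw [qf_red hx, h]; decide

end Co1Oct
end H96
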