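import Cfsg.Prelude.Def_Spor_Conway
import Cfsg.Agent.H96.Co1Image
import Cfsg.Agent.H92.MaximalOctad
import Cfsg.Agent.H68.CharP
import Cfsg.Agent.H69.Setting
import Cfsg.Agent.H68.ExtraComm

/-!
The first Conway group has an involution centraliser `2^{1+8}·Ω⁺₈(2)`.
-/

set_option autoImplicit false

namespace H96
namespace Co1Oct

open Cfsg Finset H95
open scoped Pointwise

/-! ### The kernel is extraspecial -/

/-- an element given by a sign mask and a permutation -/
def IsSP (g : Co0) (M : ℕ) (σ : Equiv.Perm GolayPt) : Prop :=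
  ∀ (v : leechLattice) (i : GolayPt), ((g • v : leechLattice) : GolayPt → ℤ) i =
    if M.testBit (H90.idx i).val then -(v : GolayPt → ℤ) (σ.symm i) else (v : GolayPt → ℤ) (σ.symm i)

theorem isSP_ext {g g' : Co0} {M : ℕ} {σ : Equiv.Perm GolayPt} (h : IsSP g M σ) (h' : IsSP g' M σ) :
    g = g' :=
  co0_ext fun v => Subtype.ext (funext fun i => (h v i).trans (h' v i).symm)

theorem isSP_mul {g h : Co0} {M N p : ℕ} {σ τ : Equiv.Perm GolayPt} (hg : IsSP g M σ)
    (hh : IsSP h N τ) (hp : H90.Repr σ p) : IsSP (g * h) (M ^^^ H90.permMask p N) (σ * τ) := by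
  intro v i
  have hb : (H90.permMask p N).testBit (H90.idx i).val = N.testBit (H90.idx (σ.symm i)).val := by
    rw [Bool.eq_iff_iff, ← H90.mem_setOf', ← H90.mem_setOf', H90.setOf'_permMask hp, mem_image]
    constructor
    · rintro ⟨k, hk, rfl⟩; rwa [σ.symm_apply_apply]
    · intro hk; exact ⟨_, hk, σ.apply_symm_apply i⟩
  rw [mul_smul, hg, hh, Nat.testBit_xor, hb, show (σ * τ).symm i = τ.symm (σ.symm i) from rfl]
  cases M.testBit (H90.idx i).val <;> cases N.testBit (H90.idx (σ.symm i)).val <;> simp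

theorem isSP_one : IsSP 1 0 1 := fun v i => by
  rw [one_smul, Nat.zero_testBit]; simp [Equiv.Perm.one_def]

theorem isSP_unique {g : Co0} {M N : ℕ} {σ τ : Equiv.Perm GolayPt} (hM : M < 2 ^ 24) (hN : N < 2 ^ 24)
    (h : IsSP g M σ) (h' : IsSP g N τ) : M = N ∧ σ = τ := by
  have key : ∀ j, τ.symm (σ j) = j ∧
      M.testBit (H90.idx (σ j)).val = N.testBit (H90.idx (σ j)).val := by
    intro j
    have e := (h (eight j) (σ j)).symm.trans (h' (eight j) (σ j))
    rw [σ.symm_apply_apply] at e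
    simp only [eight, Pi.single_eq_same, Pi.single_apply] at e
    by_cases hj : τ.symm (σ j) = j
    · refine ⟨hj, ?_⟩
      rw [hj] at e
      cases ha : M.testBit (H90.idx (σ j)).val <;> cases hb : N.testBit (H90.idx (σ j)).val <;>
        simp [ha, hb] at e <;> rfl
    · exfalso
      rw [if_neg hj] at e
      split_ifs at e <;> simp at e
  refine ⟨H90.setOf'_injOn hM hN (Finset.ext fun i => ?_), Equiv.ext fun j => ?_⟩
  · rw [H90.mem_setOf', H90.mem_setOf', ← σ.apply_symm_apply i, (key _).2]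
  · have := congrArg τ (key j).1
    rwa [τ.apply_symm_apply] at this

theorem isSP_mask {g : Co0} {M N : ℕ} (hM : M < 2 ^ 24) (hN : N < 2 ^ 24) (h : IsSP g M 1)
    (h' : IsSP g N 1) : M = N := (isSP_unique hM hN h h').1

/-- the sign mask of the complement -/
def compM : ℕ := 16777215 ^^^ 5279

theorem octFix_eq : octO = H90.octad0 := by
  show H90.setOf' 5279 = H90.setOf' (H90.encode H90.oct0N)
  rw [show H90.encode H90.oct0N = 5279 by decide +kernel]

theorem fixT_list {σ : Equiv.Perm GolayPt} (hσ : σ ∈ fixT) : ∃ p ∈ H90.octFixList, H90.Repr σ p := by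
  obtain ⟨hm, hf⟩ := mem_fixT.mp hσ
  rw [octFix_eq] at hf
  obtain ⟨p, hp, hr⟩ := H90.mem_stab5List_of_fixes hm fun i => hf _ (by revert i; decide +kernel)
  refine ⟨p, List.mem_filter.mpr ⟨hp, ?_⟩, hr⟩
  have h3 : ∀ j : Fin 24, (j = 7 ∨ j = 10 ∨ j = 12) → H90.img p j.val = j.val := by
    intro j hj
    rw [← hr j, hf (H90.pt j) (by rcases hj with rfl | rfl | rfl <;> decide +kernel), H90.idx_pt]
  simp only [Bool.and_eq_true]
  exact ⟨⟨by simpa using h3 7 (by simp), by simpa using h3 10 (by simp)⟩,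
    (by simpa using h3 12 (by simp))⟩

theorem list_fixT {p : ℕ} (hp : p ∈ H90.octFixList) : ∃ σ ∈ fixT, H90.Repr σ p := by
  obtain ⟨σ, hσ, hr⟩ := H90.inGen_stab5List p (List.mem_filter.mp hp).1
  refine ⟨σ, mem_fixT.mpr ⟨H90.closure_gens_le hσ, fun x hx => H90.idx_injective (Fin.ext ?_)⟩, hr⟩
  have hchk : ∀ p ∈ H90.octFixList, ∀ j : Fin 24, (5279 : ℕ).testBit j.val = true →
      H90.img p j.val = j.val := by decide +kernel
  rw [hr.apply]
  exact hchk p hp _ (H90.mem_setOf'.mp hx)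

theorem Kg_sp {g : Co0} (hg : g ∈ Kg) :
    ∃ M ∈ disList, ∃ σ ∈ fixT, ∃ p ∈ H90.octFixList, H90.Repr σ p ∧ IsSP g M σ := by
  obtain ⟨σ, c, hσ, hc, rfl, h⟩ := mem_Kg_iff.mp hg
  obtain ⟨M, hM, rfl⟩ := (disjoint_supp c).mp ⟨hc, fun i hi => (h i hi).2⟩
  have hσ' : σ ∈ fixT := mem_fixT.mpr ⟨hσ, fun i hi => (h i hi).1⟩
  obtain ⟨p, hp, hr⟩ := fixT_list hσ'
  refine ⟨M, hM, σ, hσ', p, hp, hr, fun v i => ?_⟩
  rw [mono_smul]
  simp only [signedPerm, H90.mem_setOf']

theorem sp_Kg {M : ℕ} (hM : M ∈ disList) {σ : Equiv.Perm GolayPt} (hσ : σ ∈ fixT) :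
    ∃ g ∈ Kg, IsSP g M σ := by
  obtain ⟨hc, hd⟩ := (disjoint_supp _).mpr ⟨M, hM, rfl⟩
  refine ⟨mono σ _ (mem_fixT.mp hσ).1 hc, mem_Kg_iff.mpr ⟨_, _, _, _, rfl,
    fun i hi => ⟨(mem_fixT.mp hσ).2 i hi, hd i hi⟩⟩, fun v i => ?_⟩
  rw [mono_smul]
  simp only [signedPerm, H90.mem_setOf']

theorem xor_check : ∀ M ∈ disList, ∀ p ∈ H90.octFixList,
    M ^^^ H90.permMask p M = 0 ∨ M ^^^ H90.permMask p M = compM := by decide +kernel

theorem centre_check :
    (∀ p ∈ H90.octFixList, (∀ N ∈ disList, H90.permMask p N = N) → ∀ j : Fin 24, H90.img p j.val = j.val) ∧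
    (∀ M ∈ disList, (∀ p ∈ H90.octFixList, H90.permMask p M = M) → M = 0 ∨ M = compM) ∧
    (0 ∈ disList) ∧ (compM ∈ disList) ∧
    (∃ M ∈ disList, ∃ p ∈ H90.octFixList, H90.permMask p M ≠ M) ∧
    (∀ M ∈ disList, ∀ p ∈ H90.octFixList, H90.permMask p M < 2 ^ 24) := by decide +kernel

theorem xor_bound {a b : ℕ} (ha : a < 2 ^ 24) (hb : b < 2 ^ 24) : a ^^^ b < 2 ^ 24 := Nat.xor_lt_two_pow ha hb

theorem permMask_fix {σ : Equiv.Perm GolayPt} {p : ℕ} (hr : H90.Repr σ p) (h1 : σ = 1) {N : ℕ}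
    (hN : N < 2 ^ 24) (hb : H90.permMask p N < 2 ^ 24) : H90.permMask p N = N := by
  refine H90.setOf'_injOn hb hN ?_
  rw [H90.setOf'_permMask hr, h1]
  simp

theorem extraspecial_Kg : IsExtraspecial 2 Kg := by
  haveI : Finite Co0 := co0_finite
  obtain ⟨hperm, hfix, h0, hcm, ⟨M₁, hM₁, p₁, hp₁, hne⟩, hlt⟩ := centre_check
  obtain ⟨hl, hn, hbd⟩ := disList_ok
  obtain ⟨e, heK, he⟩ := sp_Kg hcm fixT.one_mem
  obtain ⟨o, hoK, ho⟩ := sp_Kg h0 fixT.one_mem
  have hone : o = 1 := isSP_ext ho isSP_one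
  let c : Kg := ⟨e, heK⟩
  have hinv : ∀ σ ∈ fixT, σ * σ = 1 := (H90.octad_fix octO octO_mem).2
  have hcommT : ∀ σ ∈ fixT, ∀ τ ∈ fixT, σ * τ = τ * σ := by
    intro σ hσ τ hτ
    have e1 : ∀ x ∈ fixT, x⁻¹ = x := fun x hx => inv_eq_of_mul_eq_one_right (hinv x hx)
    have := e1 _ (mul_mem hσ hτ)
    rw [mul_inv_rev, e1 σ hσ, e1 τ hτ] at this
    exact this.symm
  have cases' : ∀ (g : Co0) (M : ℕ), (M = 0 ∨ M = compM) → IsSP g M 1 → g = 1 ∨ g = e := by
    rintro g M (rfl | rfl) h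
    · exact Or.inl (isSP_ext h isSP_one)
    · exact Or.inr (isSP_ext h he)
  -- commutation
  have comm' : ∀ x y : Kg, x * y = y * x ∨ x * y = c * (y * x) := by
    rintro ⟨x, hx⟩ ⟨y, hy⟩
    obtain ⟨M, hM, σ, hσ, p, hp, hr, hsx⟩ := Kg_sp hx
    obtain ⟨N, hN, τ, hτ, q, hq, hs, hsy⟩ := Kg_sp hy
    have hxy := isSP_mul hsx hsy hr
    have hyx := isSP_mul hsy hsx hs
    rw [← hcommT σ hσ τ hτ] at hyx
    have key : ∀ a b cM : ℕ, (a = 0 ∨ a = cM) → (b = 0 ∨ b = cM) → a ^^^ b = 0 ∨ a ^^^ b = cM := by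
      rintro a b cM (rfl | rfl) (rfl | rfl) <;> simp
    have hd : (M ^^^ H90.permMask p N) ^^^ (N ^^^ H90.permMask q M) = 0 ∨
        (M ^^^ H90.permMask p N) ^^^ (N ^^^ H90.permMask q M) = compM := by
      rw [show (M ^^^ H90.permMask p N) ^^^ (N ^^^ H90.permMask q M) =
        (M ^^^ H90.permMask q M) ^^^ (N ^^^ H90.permMask p N) by ac_rfl]
      exact key _ _ _ (xor_check M hM q hq) (xor_check N hN p hp)
    rcases hd with h | h
    · left
      rw [Nat.xor_eq_zero_iff.mp h] at hxy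
      exact Subtype.ext (isSP_ext hxy hyx)
    · right
      refine Subtype.ext (isSP_ext hxy ?_)
      have h3 := isSP_mul he hyx H90.repr_one
      have hb := xor_bound (hbd N hN) (hlt M hM q hq)
      have hpi : H90.permMask H90.idN (N ^^^ H90.permMask q M) < 2 ^ 24 := H90.permMask_lt H90.repr_one _
      rw [permMask_fix H90.repr_one rfl hb hpi, one_mul] at h3
      rwa [← h, Nat.xor_assoc, Nat.xor_self, Nat.xor_zero] at h3
  have hsq : ∀ x : Kg, x * x = 1 ∨ x * x = c := by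
    rintro ⟨x, hx⟩
    obtain ⟨M, hM, σ, hσ, p, hp, hr, hsx⟩ := Kg_sp hx
    have h2 := isSP_mul hsx hsx hr
    rw [hinv σ hσ] at h2
    rcases cases' _ _ (xor_check M hM p hp) h2 with e' | e'
    · exact Or.inl (Subtype.ext e')
    · exact Or.inr (Subtype.ext e')
  refine H69.isExtraspecial_two_of c (IsPGroup.of_card (n := 9) (by rw [card_Kg]; norm_num)) hsq comm' ?_ ?_
  · obtain ⟨σ, hσ, hr⟩ := list_fixT hp₁
    obtain ⟨x, hx, hsx⟩ := sp_Kg h0 hσ
    obtain ⟨y, hy, hsy⟩ := sp_Kg hM₁ fixT.one_mem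
    refine ⟨⟨x, hx⟩, ⟨y, hy⟩, fun h => hne ?_⟩
    have h' : x * y = y * x := congrArg Subtype.val h
    have hxy := isSP_mul hsx hsy hr
    have hyx := isSP_mul hsy hsx H90.repr_one
    rw [mul_one, Nat.zero_xor, h'] at hxy
    rw [one_mul, permMask_fix H90.repr_one rfl (by norm_num) (H90.permMask_lt H90.repr_one 0),
      Nat.xor_zero] at hyx
    exact (isSP_unique (hlt _ hM₁ _ hp₁) (hbd _ hM₁) hxy hyx).1
  · rintro ⟨x, hx⟩ hcen
    obtain ⟨M, hM, σ, hσ, p, hp, hr, hsx⟩ := Kg_sp hx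
    have hσ1 : σ = 1 := by
      refine hr.unique ?_
      have hpf : ∀ N ∈ disList, H90.permMask p N = N := by
        intro N hN
        obtain ⟨y, hy, hsy⟩ := sp_Kg hN fixT.one_mem
        have h' : y * x = x * y := congrArg Subtype.val (hcen ⟨y, hy⟩)
        have a1 := isSP_mul hsx hsy hr
        have a2 := isSP_mul hsy hsx H90.repr_one
        rw [permMask_fix H90.repr_one rfl (hbd M hM) (H90.permMask_lt H90.repr_one M), one_mul, h'] at a2
        rw [mul_one] at a1
        have := (isSP_unique (xor_bound (hbd M hM) (hlt N hN p hp)) (xor_bound (hbd N hN) (hbd M hM)) a1 a2).1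
        have h3 := congrArg (M ^^^ ·) this
        simp only [← Nat.xor_assoc, Nat.xor_self, Nat.zero_xor] at h3
        rw [h3, Nat.xor_comm M N, Nat.xor_assoc, Nat.xor_self, Nat.xor_zero]
      intro i
      rw [Equiv.Perm.one_apply, H90.idx_pt, hperm p hp hpf i]
    subst hσ1
    have hM' : M = 0 ∨ M = compM := by
      refine hfix M hM fun q hq => ?_
      obtain ⟨τ, hτ, hs⟩ := list_fixT hq
      obtain ⟨y, hy, hsy⟩ := sp_Kg h0 hτ
      have h' : y * x = x * y := congrArg Subtype.val (hcen ⟨y, hy⟩)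
      have a2 := isSP_mul hsy hsx hs
      have a1 := isSP_mul hsx hsy H90.repr_one
      rw [Nat.zero_xor, h'] at a2
      rw [permMask_fix H90.repr_one rfl (by norm_num) (H90.permMask_lt H90.repr_one 0), Nat.xor_zero] at a1
      rw [one_mul] at a1
      rw [mul_one] at a2
      exact ((isSP_unique (hbd M hM) (hlt M hM q hq) a1 a2).1).symm
    rcases cases' x M hM' hsx with e' | e'
    · exact Or.inl (Subtype.ext e')
    · exact Or.inr (Subtype.ext e')

end Co1Oct
end H96

namespace H96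
namespace Co1Oct

open Cfsg Finset H95
open scoped Pointwise

/-! ### The first Conway group -/

/-- the involution of the quotient -/
noncomputable def zC : Spor.Co1 := QuotientGroup.mk eps

theorem eps_mem_Cg : eps ∈ Cg := mono_mem_Cg fun _ => Iff.rfl

theorem eps_ne_neg {g : Co0} : g * eps ≠ negOne * (eps * g) := by
  classical
  intro h
  have hfl : ∀ i, i ∉ octO → InO (g • eight i) := by
    intro i hi
    have e : eps • eight i = eight i := Subtype.ext (funext fun k => by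
      rw [eps_coord]
      split_ifs with hk
      · show -(Pi.single i 8 : GolayPt → ℤ) k = _
        rw [Pi.single_eq_of_ne fun e => hi (by rw [← e]; exact hk)]
        simp [eight, Pi.single_eq_of_ne (fun e : k = i => hi (by rw [← e]; exact hk))]
      · rfl)
    have := congrArg (· • eight i) h
    simp only [mul_smul, negOne_smul, e] at this
    rw [inO_iff]
    conv_rhs => rw [this]
    rw [neg_neg]
  have h1 : ∀ i, i ∉ octO → ∑ j, v8 (g • eight i) j * v8 (g • eight i) j = 64 := fun i hi => by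
    rw [← ldot_eight8 (hfl i hi), co0_dot, eight_norm]
  have h2 : ∀ j, ∑ i ∈ octOᶜ, v8 (g • eight i) j * v8 (g • eight i) j ≤ 64 := by
    intro j
    have hc : ∀ i, v8 (g • eight i) j = ((g⁻¹ • eight (oL j) : leechLattice) : GolayPt → ℤ) i := by
      intro i
      have e : ldot (g • eight i) (eight (oL j)) = ldot (g⁻¹ • eight (oL j)) (eight i) := by
        conv_lhs => rw [← smul_inv_smul g (eight (oL j)), co0_dot, leechLike.symm]
      rw [ldot_eight, ldot_eight] at e
      show ((g • eight i : leechLattice) : GolayPt → ℤ) (oL j) = _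
      omega
    calc ∑ i ∈ octOᶜ, v8 (g • eight i) j * v8 (g • eight i) j
        ≤ ∑ i, v8 (g • eight i) j * v8 (g • eight i) j :=
          sum_le_sum_of_subset_of_nonneg (subset_univ _) fun i _ _ => mul_self_nonneg _
      _ = ldot (g⁻¹ • eight (oL j)) (g⁻¹ • eight (oL j)) := by
          simp only [hc]; rfl
      _ = 64 := by rw [co0_dot, eight_norm]
  have h3 : ∑ j : Fin 8, ∑ i ∈ octOᶜ, v8 (g • eight i) j * v8 (g • eight i) j = 16 * 64 := by
    rw [sum_comm, sum_congr rfl fun i hi => h1 i (mem_compl.mp hi), sum_const, card_compl,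
      octO_mem.2, H90.card_golayPt]
    norm_num
  have h4 := sum_le_sum fun j (_ : j ∈ (univ : Finset (Fin 8))) => h2 j
  rw [h3] at h4
  simp at h4

theorem centre_eq (g : Co0) : g ∈ Subgroup.center Co0 ↔ g = 1 ∨ g = negOne :=
  ⟨center_cases, by rintro (rfl | rfl); exacts [one_mem _, negOne_mem_center]⟩

theorem mk_eq_iff (g h : Co0) : (QuotientGroup.mk g : Spor.Co1) = QuotientGroup.mk h ↔
    h = g ∨ h = g * negOne := by
  rw [QuotientGroup.eq, centre_eq, inv_mul_eq_one, inv_mul_eq_iff_eq_mul]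
  exact or_congr_left eq_comm

/-- the map onto the centraliser -/
noncomputable def phi : Cg →* Subgroup.centralizer ({zC} : Set Spor.Co1) :=
  ((QuotientGroup.mk' (Subgroup.center Co0)).comp Cg.subtype).codRestrict _ fun g =>
    Subgroup.mem_centralizer_singleton_iff.mpr (by
      have h := Subgroup.mem_centralizer_singleton_iff.mp g.2
      exact (map_mul (QuotientGroup.mk' (Subgroup.center Co0)) g.1 eps).symm.trans
        ((congrArg _ h).trans (map_mul _ _ _)))

theorem phi_coe (g : Cg) : (phi g : Spor.Co1) = QuotientGroup.mk g.1 := rfl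

theorem phi_surj : Function.Surjective phi := by
  rintro ⟨x, hx⟩
  obtain ⟨g, rfl⟩ := QuotientGroup.mk_surjective x
  rw [Subgroup.mem_centralizer_singleton_iff, zC, ← QuotientGroup.mk_mul, ← QuotientGroup.mk_mul,
    mk_eq_iff] at hx
  rcases hx with h | h
  · exact ⟨⟨g, Subgroup.mem_centralizer_singleton_iff.mpr h.symm⟩, rfl⟩
  · exfalso
    have hc := Subgroup.mem_center_iff.mp negOne_mem_center (g * eps)
    rw [hc] at h
    exact eps_ne_neg (g := g) (by rw [h, ← mul_assoc, negOne_sq, one_mul])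

theorem phi_ker {g : Cg} : g ∈ phi.ker ↔ g.1 = 1 ∨ g.1 = negOne := by
  rw [MonoidHom.mem_ker, Subtype.ext_iff, phi_coe, OneMemClass.coe_one, QuotientGroup.eq_one_iff, centre_eq]

/-- the action onto the commutator subgroup -/
noncomputable def rhoO : Cg →* Omega (ZMod 2) qf :=
  rho.codRestrict _ fun g => range_rho ▸ ⟨g, rfl⟩

theorem rhoO_surj : Function.Surjective rhoO := by
  rintro ⟨x, hx⟩
  rw [← range_rho] at hx
  obtain ⟨g, rfl⟩ := hx
  exact ⟨g, rfl⟩

theorem rhoO_ker {g : Cg} : g ∈ rhoO.ker ↔ g.1 ∈ Kg ∨ negOne * g.1 ∈ Kg := by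
  rw [← rho_ker, MonoidHom.mem_ker, MonoidHom.mem_ker, Subtype.ext_iff]
  exact Iff.rfl

theorem ker_le : phi.ker ≤ rhoO.ker := by
  intro g hg
  refine rhoO_ker.mpr ?_
  rcases phi_ker.mp hg with h | h <;> rw [h]
  · exact Or.inl (one_mem _)
  · exact Or.inr (by rw [negOne_sq]; exact one_mem _)

/-- the map of the centraliser onto the orthogonal group -/
noncomputable def chi : Subgroup.centralizer ({zC} : Set Spor.Co1) →* Omega (ZMod 2) qf :=
  MonoidHom.liftOfSurjective phi phi_surj ⟨rhoO, ker_le⟩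

theorem chi_phi (g : Cg) : chi (phi g) = rhoO g :=
  MonoidHom.liftOfRightInverse_comp_apply phi _ _ ⟨rhoO, ker_le⟩ g

theorem chi_surj : Function.Surjective chi := fun y => by
  obtain ⟨g, rfl⟩ := rhoO_surj y
  exact ⟨phi g, chi_phi g⟩

/-- the kernel inside the centraliser -/
noncomputable def toQ : Kg →* chi.ker :=
  (phi.comp (Subgroup.inclusion Kg_le)).codRestrict _ fun g => by
    rw [MonoidHom.mem_ker, MonoidHom.comp_apply, chi_phi, ← MonoidHom.mem_ker]
    exact rhoO_ker.mpr (Or.inl g.2)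

theorem toQ_bij : Function.Bijective toQ := by
  constructor
  · rw [← MonoidHom.ker_eq_bot_iff]
    refine (Subgroup.eq_bot_iff_forall _).mpr fun g hg => ?_
    have h : (Subgroup.inclusion Kg_le g) ∈ phi.ker := by
      rw [MonoidHom.mem_ker]; exact congrArg Subtype.val (MonoidHom.mem_ker.mp hg)
    rcases phi_ker.mp h with e | e
    · exact Subtype.ext e
    · exact absurd (show negOne ∈ Kg from e ▸ g.2) negOne_not_mem_Kg
  · rintro ⟨x, hx⟩
    obtain ⟨g, rfl⟩ := phi_surj x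
    rw [MonoidHom.mem_ker, chi_phi, ← MonoidHom.mem_ker, rhoO_ker] at hx
    rcases hx with h | h
    · exact ⟨⟨g.1, h⟩, rfl⟩
    · refine ⟨⟨_, h⟩, Subtype.ext (Subtype.ext ?_)⟩
      show (QuotientGroup.mk (negOne * g.1) : Spor.Co1) = QuotientGroup.mk g.1
      rw [mk_eq_iff]
      exact Or.inr (by rw [← Subgroup.mem_center_iff.mp negOne_mem_center, mul_assoc, negOne_sq, mul_one])

/-- the kernel as a group -/
noncomputable def equivQ : Kg ≃* chi.ker := MulEquiv.ofBijective toQ toQ_bij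

theorem omega_simple : IsSimpleGroup (Omega (ZMod 2) qf) ∧ Subgroup.center (Omega (ZMod 2) qf) = ⊥ := by
  have hc : Subgroup.center (Omega (ZMod 2) (quadFormPlus 4 (ZMod 2))) = ⊥ := by
    rw [← H43.coe_qPlus]
    refine (Subgroup.eq_bot_iff_forall _).mpr fun g hg => ?_
    rcases (H43.omega_center_iff (H43.qPlus_nondeg 4) (by simp) g).mp hg with h | h
    · exact Subtype.ext (Subtype.ext (Units.ext h))
    · refine Subtype.ext (Subtype.ext (Units.ext ?_))
      rw [h]
      exact ZModModule.neg_eq_self _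
  refine ⟨?_, hc⟩
  haveI := H43.isSimpleGroup_POmega_plus (F := ZMod 2) 4 (by norm_num)
  exact ((QuotientGroup.quotientMulEquivOfEq hc).trans QuotientGroup.quotientBot).symm.isSimpleGroup

theorem isSP_sign {d : golayCode} {M : ℕ} (h : support₂ d.1 = H90.setOf' M) : IsSP (signEl d) M 1 := by
  intro v i
  rw [signEl, mono_smul]
  simp [signedPerm, h, H90.mem_setOf', Equiv.Perm.one_def]

theorem octad_sign {M : ℕ} (hM : M ∈ disList) :
    ∃ g ∈ Kg, IsSP g M 1 := sp_Kg hM fixT.one_mem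

theorem far_check : farOct ∈ disList ∧ farOctTwo ∈ disList ∧ H90.isCode farOct = true ∧
    H90.popc farOct = 8 ∧ H90.popc farOctTwo = 8 ∧ H90.isCode farOctTwo = true ∧
    H90.popc (5279 &&& farOct) = 0 ∧ H90.popc (5279 &&& farOctTwo) = 0 ∧
    farOct < 2 ^ 24 ∧ farOctTwo < 2 ^ 24 ∧
    farOctTwo ≠ farOct ∧ farOctTwo ≠ farOct ^^^ 16777215 ∧ farOctTwo ≠ farOct ^^^ 5279 ∧
    farOctTwo ≠ farOct ^^^ compM ∧ farOct ≠ 5279 ∧ farOct ≠ compM ∧ compM < 2 ^ 24 := by decide +kernel

theorem octad_of_mask {M : ℕ} (h : H90.isCode M = true) (h8 : H90.popc M = 8) :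
    H90.setOf' M ∈ octads := by
  have e := H90.isCode_iff.mp h
  rw [← e] at h8 ⊢
  exact H90.octad_of_code (Nat.mod_lt _ (by norm_num)) h8

theorem negOne_sp : IsSP negOne 16777215 1 := fun v i => by
  rw [negOne_smul]
  have : ∀ j : Fin 24, (16777215 : ℕ).testBit j.val = true := by decide +kernel
  rw [if_pos (this _)]
  simp [Equiv.Perm.one_def]

theorem eps_sp : IsSP eps 5279 1 := fun v i => by
  rw [eps_coord]
  simp [octO, H90.mem_setOf', Equiv.Perm.one_def]

theorem idN_fix {M : ℕ} (hM : M < 2 ^ 24) : H90.permMask H90.idN M = M :=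
  permMask_fix H90.repr_one rfl hM (H90.permMask_lt H90.repr_one M)

theorem isSP_mul_one {g h : Co0} {M N : ℕ} (hg : IsSP g M 1) (hh : IsSP h N 1) (hN : N < 2 ^ 24) :
    IsSP (g * h) (M ^^^ N) 1 := by
  have := isSP_mul hg hh H90.repr_one
  rwa [idN_fix hN, one_mul] at this

theorem conj_sign {σ : M24} {M N : ℕ} {g : Co0} (hg : IsSP g M 1)
    (e : (H90.setOf' M).image σ.1 = H90.setOf' N) :
    IsSP (permHom σ * g * (permHom σ)⁻¹) N 1 := by
  intro v i
  have hb : N.testBit (H90.idx i).val = M.testBit (H90.idx (σ.1.symm i)).val := by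
    rw [Bool.eq_iff_iff, ← H90.mem_setOf', ← H90.mem_setOf', ← e, mem_image]
    constructor
    · rintro ⟨k, hk, rfl⟩; rwa [σ.1.symm_apply_apply]
    · intro hk; exact ⟨_, hk, σ.1.apply_symm_apply i⟩
  rw [mul_smul, mul_smul, permHom_apply, hg, ← map_inv, permHom_apply, hb]
  simp [Equiv.Perm.one_def, Equiv.Perm.inv_def]

theorem main : ∃ z : Spor.Co1, orderOf z = 2 ∧
    ∃ (Q : Subgroup (Subgroup.centralizer ({z} : Set Spor.Co1))) (_ : Q.Normal),
      generalizedFittingSubgroup (Subgroup.centralizer ({z} : Set Spor.Co1)) = Q ∧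
      IsExtraspecial 2 Q ∧ Nat.card Q = 2 ^ 9 ∧
      Nonempty ((Subgroup.centralizer ({z} : Set Spor.Co1)) ⧸ Q ≃* Omega (ZMod 2) (quadFormPlus 4 (ZMod 2))) ∧
      ∃ g : Spor.Co1, (∃ hq : g * z * g⁻¹ ∈ Subgroup.centralizer ({z} : Set Spor.Co1),
        (⟨g * z * g⁻¹, hq⟩ : Subgroup.centralizer ({z} : Set Spor.Co1)) ∈ Q) ∧ g * z * g⁻¹ ≠ z := by
  haveI : Finite Co0 := co0_finite
  haveI := Fact.mk Nat.prime_two
  haveI : Finite (Omega (ZMod 2) qf) := inferInstance
  obtain ⟨fx, fy, fxc, fx8, fy8, fyc, fxd, fyd, fxb, fyb, n1, n2, n3, n4, n5, n6, hcb⟩ := far_check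
  have hzne : zC ≠ 1 := by
    intro h
    rw [zC, QuotientGroup.eq_one_iff, centre_eq] at h
    rcases h with h | h
    · have := isSP_mask (by norm_num) (by norm_num) eps_sp (h ▸ isSP_one)
      norm_num at this
    · have := isSP_mask (by norm_num) (by norm_num) eps_sp (h ▸ negOne_sp)
      norm_num at this
  have hz : orderOf zC = 2 := by
    refine orderOf_eq_prime ?_ hzne
    rw [zC, ← QuotientGroup.mk_pow]
    have : eps ^ 2 = 1 := by
      rw [pow_two]
      exact isSP_ext (isSP_mul_one eps_sp eps_sp (by norm_num)) (by rw [Nat.xor_self]; exact isSP_one)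
    rw [this]; rfl
  obtain ⟨gx, hgxK, hgx⟩ := octad_sign fx
  obtain ⟨gy, hgyK, hgy⟩ := octad_sign fy
  have hox := octad_of_mask fxc fx8
  have hoy := octad_of_mask fyc fy8
  have hcard0 : ∀ {M : ℕ}, H90.popc (5279 &&& M) = 0 → (octO ∩ H90.setOf' M).card = 0 := fun h => by
    rw [octO, ← H90.setOf'_and, H90.card_setOf', h]
  have hQE : IsExtraspecial 2 chi.ker := H68.isExtraspecial_of_equiv equivQ extraspecial_Kg
  have hQcard : Nat.card chi.ker = 2 ^ 9 := by
    rw [← Nat.card_congr equivQ.toEquiv, card_Kg]; norm_num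
  set Cz := Subgroup.centralizer ({zC} : Set Spor.Co1)
  obtain ⟨hsimp, hcen⟩ := omega_simple
  have hnotp : ¬ IsPGroup 2 (Omega (ZMod 2) qf) := by
    intro h
    haveI : Nontrivial (Omega (ZMod 2) qf) := hsimp.toNontrivial
    haveI := h.center_nontrivial
    exact (Subgroup.nontrivial_iff_ne_bot _).mp inferInstance hcen
  have hp2 : IsPGroup 2 chi.ker := IsPGroup.of_card hQcard
  have hcore : pCore 2 Cz = chi.ker := by
    refine le_antisymm ?_ (Comp.le_pCore inferInstance hp2)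
    have hn : ((pCore 2 Cz).map chi).Normal :=
      Subgroup.Normal.map inferInstance chi chi_surj
    rcases hn.eq_bot_or_eq_top with h | h
    · exact (Subgroup.map_eq_bot_iff _).mp h
    · exfalso
      refine hnotp ?_
      have := (Comp.pCore_isPGroup (G := Cz) 2).map chi
      rw [h] at this
      exact this.of_equiv Subgroup.topEquiv
  have hcent : Subgroup.centralizer (chi.ker : Set Cz) ≤ chi.ker := by
    have hn : ((Subgroup.centralizer (chi.ker : Set Cz)).map chi).Normal :=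
      Subgroup.Normal.map inferInstance chi chi_surj
    rcases hn.eq_bot_or_eq_top with h | h
    · exact (Subgroup.map_eq_bot_iff _).mp h
    · exfalso
      obtain ⟨σ', hσ', ho, hxy⟩ := H92.octad_stab_trans octO_mem hox hoy
        ((hcard0 fxd).trans (hcard0 fyd).symm)
      let σ : M24 := ⟨σ', hσ'⟩
      have hσC : permHom σ ∈ Cg := by
        show mono σ' ∅ hσ' empty_supp ∈ Cg
        exact mono_mem_Cg (stab_iff ho)
      obtain ⟨c, hc, he⟩ := h.ge (Subgroup.mem_top (chi (phi ⟨_, hσC⟩)))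
      obtain ⟨q, hq⟩ : ∃ q : chi.ker, phi ⟨_, hσC⟩ = c * q.1 :=
        ⟨⟨c⁻¹ * phi ⟨_, hσC⟩, by rw [MonoidHom.mem_ker, map_mul, map_inv, he, inv_mul_cancel]⟩, by group⟩
      have hd : phi ⟨gx, Kg_le hgxK⟩ ∈ chi.ker := (toQ ⟨gx, hgxK⟩).2
      set d : Cz := phi ⟨gx, Kg_le hgxK⟩ with hdd
      have h1 : phi ⟨_, hσC⟩ * d * (phi ⟨_, hσC⟩)⁻¹ = q.1 * d * q.1⁻¹ := by
        have hcomm := Subgroup.mem_centralizer_iff.mp hc (q.1 * d * q.1⁻¹)
          (mul_mem (mul_mem q.2 hd) (inv_mem q.2))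
        rw [hq]
        calc c * q.1 * d * (c * q.1)⁻¹ = c * (q.1 * d * q.1⁻¹) * c⁻¹ := by group
          _ = q.1 * d * q.1⁻¹ := by rw [← hcomm, mul_inv_cancel_right]
      let σK : Kg := ⟨gy, hgyK⟩
      have hgy' : permHom σ * gx * (permHom σ)⁻¹ = gy := isSP_ext (conj_sign hgx hxy) hgy
      have h2 : phi ⟨_, hσC⟩ * d * (phi ⟨_, hσC⟩)⁻¹ = (equivQ σK).1 := by
        rw [hdd, ← map_inv, ← map_mul, ← map_mul]
        exact congrArg phi (Subtype.ext hgy')
      rw [h1] at h2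
      obtain ⟨k, rfl⟩ := equivQ.surjective q
      have h3 : equivQ (k * ⟨gx, hgxK⟩ * k⁻¹) = equivQ σK := by
        refine Subtype.ext ?_
        rw [← h2, map_mul, map_mul, map_inv]
        rfl
      have h4 : k * ⟨gx, hgxK⟩ = σK * k := mul_inv_eq_iff_eq_mul.mp (equivQ.injective h3)
      have h5 : k.1 * gx = gy * k.1 := congrArg Subtype.val h4
      obtain ⟨N, hN, τ, hτ, p, hp, hr, hsk⟩ := Kg_sp k.2
      have a1 := isSP_mul hsk hgx hr
      have a2 := isSP_mul hgy hsk H90.repr_one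
      have hNb := disList_ok.2.2 N hN
      have hpb := H90.permMask_lt hr farOct
      rw [idN_fix hNb, one_mul, ← h5] at a2
      rw [mul_one] at a1
      have h6 := (isSP_unique (xor_bound hNb hpb) (xor_bound fyb hNb) a1 a2).1
      have h7 : H90.permMask p farOct = farOctTwo := by
        have h8 := congrArg (N ^^^ ·) h6
        simp only [← Nat.xor_assoc, Nat.xor_self, Nat.zero_xor] at h8
        rw [h8, Nat.xor_comm N, Nat.xor_assoc, Nat.xor_self, Nat.xor_zero]
      rcases xor_check farOct fx p hp with h9 | h9 <;> rw [h7] at h9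
      · exact n1 (Nat.xor_eq_zero_iff.mp h9).symm
      · refine n4 ?_
        rw [← h9, ← Nat.xor_assoc, Nat.xor_self, Nat.zero_xor]
  have hgfs : generalizedFittingSubgroup Cz = chi.ker := by
    rw [H68.gfs_eq_pCore_of_centralizer (p := 2) (by rw [hcore]; exact hcent), hcore]
  refine ⟨zC, hz, chi.ker, inferInstance, hgfs, hQE, hQcard,
    ⟨QuotientGroup.quotientKerEquivOfSurjective chi chi_surj⟩, ?_⟩
  obtain ⟨σ', hσ', he⟩ := H90.exists_M24_octad octO_mem hox
  let σ : M24 := ⟨σ', hσ'⟩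
  have hconj : permHom σ * eps * (permHom σ)⁻¹ = gx := isSP_ext (conj_sign eps_sp he) hgx
  have hmk : (QuotientGroup.mk (permHom σ) : Spor.Co1) * zC * (QuotientGroup.mk (permHom σ))⁻¹ =
      QuotientGroup.mk gx := by
    rw [← hconj]; rfl
  refine ⟨QuotientGroup.mk (permHom σ), ⟨?_, ?_⟩, ?_⟩
  · rw [hmk]; exact (phi ⟨gx, Kg_le hgxK⟩).2
  · have := (toQ ⟨gx, hgxK⟩).2
    convert this using 2
    exact hmk
  · rw [hmk, zC, Ne, mk_eq_iff]
    rintro (e | e)
    · exact n5 (isSP_mask fxb (by norm_num) hgx (e ▸ eps_sp))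
    · have h7 := isSP_mul_one hgx negOne_sp (by norm_num)
      rw [← e] at h7
      have h8 := isSP_mask (by norm_num) (xor_bound fxb (by norm_num)) eps_sp h7
      exact n6 (by rw [compM, h8, ← Nat.xor_assoc, Nat.xor_comm 16777215 farOct, Nat.xor_assoc, Nat.xor_self, Nat.xor_zero])

end Co1Oct
end H96
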