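import Cfsg.Agent.H95.Co0Centre
import Cfsg.Agent.H95.Transitive
import Cfsg.Prelude.Def_Spor_Conway

/-!
`Co2` acts faithfully on the orthogonal of its vector modulo 13.
-/

set_option autoImplicit false

namespace H96
namespace Co2Mod13

open Cfsg Finset H95

instance fact13 : Fact (Nat.Prime 13) := ⟨by norm_num⟩

/-- the coordinate space modulo 13 -/
abbrev V13 : Type := GolayPt → ZMod 13

/-- reduction of a lattice vector -/
def red (v : leechLattice) : V13 := fun i => ((v : GolayPt → ℤ) i : ZMod 13)

/-- the linear map of an automorphism, from the images of the `8eⱼ` (note `8 * 5 = 1`) -/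
noncomputable def lin (g : Co0) : Module.End (ZMod 13) V13 :=
  Fintype.linearCombination (ZMod 13) fun j => (5 : ZMod 13) • red (g • eight j)

theorem lin_apply (g : Co0) (x : V13) (i : GolayPt) :
    lin g x i = ∑ j, x j * (5 * red (g • eight j) i) := by
  simp [lin, Fintype.linearCombination_apply]

theorem red_eight (j : GolayPt) : red (eight j) = Pi.single j 8 := by
  funext i
  by_cases h : i = j
  · subst h; simp [red, eight]
  · simp [red, eight, h]

theorem single_eq (j : GolayPt) : (Pi.single j 1 : V13) = (5 : ZMod 13) • red (eight j) := by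
  rw [red_eight, ← Pi.single_smul]
  congr 1

theorem expand (v : leechLattice) : (8 : ℤ) • v = ∑ j, (v : GolayPt → ℤ) j • eight j := by
  apply Subtype.ext
  funext i
  rw [AddSubgroup.val_finsetSum, Finset.sum_apply]
  simp only [AddSubgroup.coe_zsmul, eight, Pi.smul_apply, smul_eq_mul, Pi.single_apply, mul_ite,
    mul_zero, sum_ite_eq, mem_univ, if_true]
  ring

theorem lin_red (g : Co0) (v : leechLattice) : lin g (red v) = red (g • v) := by
  funext i
  rw [lin_apply]
  have e := congrArg (fun w => co0Hom g w) (expand v)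
  simp only [map_zsmul, map_sum] at e
  have e' := congrArg (fun w : leechLattice => ((w : GolayPt → ℤ) i : ZMod 13)) e
  simp only [AddSubgroup.coe_zsmul, AddSubgroup.val_finsetSum, Pi.smul_apply, smul_eq_mul,
    Finset.sum_apply, Int.cast_mul, Int.cast_sum] at e'
  have h40 : (5 : ZMod 13) * 8 = 1 := by decide
  calc ∑ j, red v j * (5 * red (g • eight j) i)
      = 5 * ∑ j, ((v : GolayPt → ℤ) j : ZMod 13) *
          (((g • eight j : leechLattice) : GolayPt → ℤ) i : ZMod 13) := by
        rw [mul_sum]; exact sum_congr rfl fun j _ => by simp only [red]; ring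
    _ = 5 * (((8 : ℤ) : ZMod 13) * (((g • v : leechLattice) : GolayPt → ℤ) i : ZMod 13)) := by
        rw [show (∑ j, ((v : GolayPt → ℤ) j : ZMod 13) *
          (((g • eight j : leechLattice) : GolayPt → ℤ) i : ZMod 13)) = _ from e'.symm]
        rfl
    _ = red (g • v) i := by
        rw [← mul_assoc, show ((8 : ℤ) : ZMod 13) = 8 from rfl, h40, one_mul]; rfl

theorem ext_red {f f' : V13 →ₗ[ZMod 13] V13} (h : ∀ v, f (red v) = f' (red v)) : f = f' := by
  refine LinearMap.pi_ext' fun j => LinearMap.ext_ring ?_
  simp only [LinearMap.coe_comp, LinearMap.coe_single, Function.comp_apply]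
  rw [single_eq, map_smul, map_smul, h]

/-- the representation -/
noncomputable def linHom : Co0 →* Module.End (ZMod 13) V13 where
  toFun := lin
  map_one' := ext_red fun v => by rw [lin_red, one_smul]; rfl
  map_mul' g h := ext_red fun v => by
    rw [lin_red, Module.End.mul_apply, lin_red, lin_red, mul_smul]

theorem eq_one_of_lin {g : Co0} (h : lin g = 1) : g = 1 := by
  refine co0_ext_min fun v hv => ?_
  rw [one_smul]
  refine Subtype.ext (funext fun i => ?_)
  by_contra hne
  have hr : red (g • v) = red v := by rw [← lin_red, h]; rfl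
  have hdvd : (13 : ℤ) ∣ (v : GolayPt → ℤ) i - ((g • v : leechLattice) : GolayPt → ℤ) i :=
    (ZMod.intCast_eq_intCast_iff_dvd_sub _ _ 13).mp (congrFun hr i)
  set w := v - g • v with hw
  have hn : ldot w w + ldot (v + g • v) (v + g • v) = 128 := by
    rw [hw, leechLike.norm_add, leechLike.norm_sub, co0_dot, hv]; ring
  have hle := leechLike.norm_nonneg (v + g • v)
  have hi : (w : GolayPt → ℤ) i ^ 2 ≤ sqNorm (w : GolayPt → ℤ) :=
    single_le_sum (f := fun k => (w : GolayPt → ℤ) k ^ 2) (fun k _ => sq_nonneg _) (mem_univ i)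
  rw [sqNorm_eq_ldot] at hi
  have hwi : (w : GolayPt → ℤ) i = (v : GolayPt → ℤ) i - ((g • v : leechLattice) : GolayPt → ℤ) i :=
    rfl
  obtain ⟨k, hk⟩ := hdvd
  rw [hwi, hk] at hi
  have hk0 : k ≠ 0 := fun h0 => hne (by subst h0; omega)
  have : 1 ≤ k ^ 2 := by nlinarith [mul_self_pos.mpr hk0]
  nlinarith

/-- the functional of the fixed vector -/
noncomputable def dotU : V13 →ₗ[ZMod 13] ZMod 13 := Fintype.linearCombination (ZMod 13) (red Spor.leechU)

theorem dotU_red (v : leechLattice) : dotU (red v) = (ldot v Spor.leechU : ZMod 13) := by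
  simp only [dotU, Fintype.linearCombination_apply, smul_eq_mul, red, ldot, dotInt, Int.cast_sum,
    Int.cast_mul]

/-- the inclusion into `Co0` -/
def toCo0 : Spor.Co2 →* Co0 where
  toFun g := ⟨g.1, g.2.1⟩
  map_one' := rfl
  map_mul' _ _ := rfl

theorem toCo0_fix (g : Spor.Co2) : toCo0 g • Spor.leechU = Spor.leechU := g.2.2

theorem dotU_lin (g : Spor.Co2) (x : V13) : dotU (lin (toCo0 g) x) = dotU x := by
  suffices h : dotU.comp (lin (toCo0 g)) = dotU from LinearMap.congr_fun h x
  refine LinearMap.pi_ext' fun j => LinearMap.ext_ring ?_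
  simp only [LinearMap.coe_comp, LinearMap.coe_single, Function.comp_apply]
  rw [single_eq, map_smul, map_smul, map_smul, lin_red, dotU_red, dotU_red]
  congr 2
  conv_lhs => rw [← toCo0_fix g]
  rw [co0_dot]

/-- the orthogonal of the fixed vector -/
noncomputable abbrev perpU : Submodule (ZMod 13) V13 := LinearMap.ker dotU

theorem finrank_perpU : Module.finrank (ZMod 13) perpU = 23 := by
  have h := dotU.finrank_range_add_finrank_ker
  have hs : LinearMap.range dotU = ⊤ := by
    refine LinearMap.range_eq_top.mpr fun c => ⟨c • Pi.single none 10, ?_⟩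
    rw [map_smul]
    simp only [dotU, Fintype.linearCombination_apply_single, smul_eq_mul]
    rw [show (10 : ZMod 13) * red Spor.leechU none = 1 by decide +kernel, mul_one]
  rw [hs, finrank_top, Module.finrank_self, Module.finrank_fintype_fun_eq_card] at h
  have : Fintype.card GolayPt = 24 := rfl
  unfold perpU
  omega

/-- restriction to the orthogonal -/
noncomputable def perpHom : Spor.Co2 →* Module.End (ZMod 13) perpU where
  toFun g := (lin (toCo0 g)).restrict fun x (hx : x ∈ perpU) =>
    show lin (toCo0 g) x ∈ perpU from (LinearMap.mem_ker).mpr ((dotU_lin g x).trans (LinearMap.mem_ker.mp hx))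
  map_one' := by
    ext x : 1
    apply Subtype.ext
    show linHom (toCo0 1) x.1 = x.1
    rw [map_one, map_one]; rfl
  map_mul' g h := by
    ext x : 1
    apply Subtype.ext
    show linHom (toCo0 (g * h)) x.1 = linHom (toCo0 g) (linHom (toCo0 h) x.1)
    rw [map_mul, map_mul]; rfl

theorem perpHom_apply (g : Spor.Co2) (x : perpU) :
    ((perpHom g x : perpU) : V13) = lin (toCo0 g) x.1 := rfl

theorem exists_embedding :
    ∃ f : Spor.Co2 →* GL (Fin 23) (ZMod 13), Function.Injective f := by
  let b := Module.finBasisOfFinrankEq (ZMod 13) perpU finrank_perpU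
  let ψ : Spor.Co2 →* Matrix (Fin 23) (Fin 23) (ZMod 13) :=
    ((LinearMap.toMatrixAlgEquiv b).toMulEquiv.toMonoidHom).comp perpHom
  refine ⟨ψ.toHomUnits, (injective_iff_map_eq_one _).mpr fun g hg => ?_⟩
  have hg1 : perpHom g = 1 := by
    apply (LinearMap.toMatrixAlgEquiv b).injective
    rw [map_one]
    exact congrArg Units.val hg
  have hlin : lin (toCo0 g) = 1 := by
    refine LinearMap.ext fun x => ?_
    set U := red Spor.leechU with hU
    have hUU : dotU U ≠ 0 := by
      rw [hU, dotU_red]; decide +kernel
    set y := x - (dotU x / dotU U) • U with hy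
    have hym : y ∈ perpU := by
      rw [LinearMap.mem_ker, hy, map_sub, map_smul, smul_eq_mul, div_mul_cancel₀ _ hUU, sub_self]
    have e : lin (toCo0 g) y = y := by
      have e1 := perpHom_apply g ⟨y, hym⟩
      rw [hg1, Module.End.one_apply] at e1
      exact e1.symm
    have eU : lin (toCo0 g) U = U := by rw [hU, lin_red, toCo0_fix]
    rw [hy, map_sub, map_smul, eU, sub_left_inj] at e
    exact e
  exact Subtype.ext (show g.1 = 1 from congrArg Subtype.val (eq_one_of_lin hlin))

end Co2Mod13
end H96
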