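import Mathlib
import Cfsg.Agent.H96.Fi23Pairs
import Cfsg.Agent.H96.Fi23OutData

/-!
Up to conjugation there is one ten-tuple of transpositions of `Fi23` with the pattern of the
diagram `Y342`.
-/

set_option autoImplicit false
set_option maxRecDepth 100000
set_option Elab.async false

namespace H96
namespace Fi23Out

open H93 H93.Coset
open H93.Fi23Order (gen)

/-- the path to a node -/
def pathOf (p : ℕ) : List ℕ := ((paths.find? fun q => Nat.beq q.1 p).getD (0, [])).2

/-- the nodes whose paths are used -/
def inUse (p : ℕ) : Bool := paths.any fun q => Nat.beq q.1 p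

/-- the word of the transposition of a node -/
def tpW (p : ℕ) : List ℕ := tW (pathOf p)

theorem paths_ok : (paths.all fun q => (pathOf q.1).all (fun g => decide (g < 10)) &&
    Nat.beq (pathEnd D.T (pathOf q.1) base) q.1) = true := by
  decide +kernel

theorem path_spec {p : ℕ} (hp : inUse p = true) :
    (∀ g ∈ tpW p, g < 10) ∧ (act (ev gen (pathOf p)) pa).val = p ∧
      ev gen (tpW p) = T (ev gen (pathOf p)) := by
  obtain ⟨q, hq, he⟩ := List.any_eq_true.mp hp
  have h := List.all_eq_true.mp paths_ok q hq
  rw [Nat.eq_of_beq_eq_true he, Bool.and_eq_true] at h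
  have hlet : ∀ g ∈ pathOf p, g < 10 := fun g hg => by simpa using List.all_eq_true.mp h.1 g hg
  exact ⟨tW_lt hlet, (act_path hlet).trans (Nat.eq_of_beq_eq_true h.2), ev_tW hlet⟩

/-- the second node -/
def nb : ℕ := leaf.getD 1 0

/-- the check of the mask of the first node -/
noncomputable def maskAOK : Bool :=
  allRange 0 31671 fun c => bif Nat.testBit H93.Fi23Orb.mask1 c then
    walk D.T basePath c fun e => Nat.testBit maskA e else true

theorem maskA_ok : maskAOK = true := by decide +kernel

/-- the check at the first two nodes -/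
noncomputable def entry2OK : Bool :=
  allRange 0 31671 fun c => bif Nat.testBit maskA c then
    walk D.T (tpW nb) c fun e =>
      bif Nat.beq e c then Nat.beq c nb || Nat.testBit maskB c
      else Nat.testBit ((entry2.2.2.map fun k => k.2.1).foldl Nat.lor 0) c
    else true

theorem entry2_ok : entry2OK = true := by decide +kernel

theorem listB_ok : allRange 0 31671 (fun c => bif Nat.testBit maskB c then
    listB.any (fun x => Nat.beq x c) else true) = true := by
  decide +kernel

/-- the joined pairs of the diagram -/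
def joined (i j : ℕ) : Bool :=
  [(0, 1), (1, 2), (2, 3), (3, 4), (4, 5), (5, 6), (6, 7), (3, 8), (8, 9)].any fun e =>
    (Nat.beq e.1 i && Nat.beq e.2 j) || (Nat.beq e.1 j && Nat.beq e.2 i)

theorem joined_low : ∀ d < 10, 2 ≤ d → joined 0 d = false ∧ (3 ≤ d → joined 1 d = false) := by
  decide +kernel

/-- the constraint of one chosen node on a new node -/
noncomputable def fits (d j p c : ℕ) : Bool :=
  !(Nat.beq c p) && walk D.T (tpW p) c fun e => bif joined j d then !(Nat.beq e c) else Nat.beq e c

/-- the tuples of a given length in the tree -/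
def nodeList (d : ℕ) : List (List ℕ) :=
  bif Nat.beq d 10 then [leaf] else ((entry2 :: entries).map fun e => e.1).filter fun ns => Nat.beq ns.length d

/-- the check of the children of one entry -/
noncomputable def kidsOK (e : List ℕ × List ℕ × List (ℕ × ℕ × List (ℕ × ℕ × ℕ))) : Bool :=
  e.1.all inUse &&
    e.2.1.all (fun g => inUse g && e.1.all fun p => walk D.T (tpW g) p fun x => Nat.beq x p) &&
    e.2.2.all fun k => Nat.blt k.1 31671 && (nodeList (e.1.length + 1)).contains (e.1 ++ [k.1]) &&
      decide (orbFill (withWords D (e.2.1.map tpW)) k.2.2 (2 ^ k.1) = some k.2.1)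

/-- the check that the children of an entry cover the pattern -/
noncomputable def coverOK (e : List ℕ × List ℕ × List (ℕ × ℕ × List (ℕ × ℕ × ℕ))) : Bool :=
  Nat.blt 2 e.1.length && listB.all fun c =>
    bif (List.range (e.1.length - 2)).all fun j => fits e.1.length (j + 2) (e.1.getD (j + 2) 0) c then
      bif fits e.1.length 1 (e.1.getD 1 0) c then
        Nat.testBit ((e.2.2.map fun k => k.2.1).foldl Nat.lor 0) c else true
    else true

theorem kids2_ok : kidsOK entry2 = true := by decide +kernel

theorem kids_ok : ∀ e ∈ entries, kidsOK e = true := by decide +kernel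

theorem covers_ok : ∀ e ∈ entries, coverOK e = true := by decide +kernel

theorem start_ok : (nodeList 2 = [[base, nb]] ∧ entry2.1 = [base, nb] ∧ leaf.getD 0 0 = base) ∧
    ((inUse nb = true ∧ inUse base = true) ∧ pathOf base = [] ∧
      (Nat.beq (pathEnd D.T (tpW nb) base) base = false ∧ pathEnd D.T basePath 0 = base) ∧
      Nat.testBit maskA nb = false) ∧
    ∀ e ∈ entries, 2 < e.1.length ∧ e.1.getD 0 0 = base ∧ e.1.getD 1 0 = nb := by
  decide +kernel

/-- a ten-tuple with the pattern of the diagram -/
def Pattern (v : ℕ → G) : Prop :=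
  ∀ i < 10, ∀ j < i, (joined j i = true → ¬ Commute (T (v j)) (T (v i))) ∧
    (joined j i = false → Commute (T (v j)) (T (v i)) ∧ T (v j) ≠ T (v i))

theorem Pattern.conj {v : ℕ → G} (h : Pattern v) (x : G) : Pattern fun i => x * v i := by
  intro i hi j hj
  obtain ⟨h1, h2⟩ := h i hi j hj
  simp only [T_mul]
  refine ⟨fun e hc => h1 e ((Commute.conj_iff x).mp hc), fun e => ?_⟩
  exact ⟨(Commute.conj_iff x).mpr (h2 e).1, fun he => (h2 e).2 ((MulAut.conj x).injective he)⟩

theorem fits_of_pattern {v : ℕ → G} (hv : Pattern v) {d j p : ℕ} (hd : d < 10) (hj : j < d)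
    (hu : inUse p = true) (hp : (act (v j) pa).val = p) :
    fits d j p (act (v d) pa).val = true := by
  obtain ⟨hjn, hjc⟩ := hv d hd j hj
  obtain ⟨hlet, hpn, hT⟩ := path_spec hu
  have hTj : T (v j) = ev gen (tpW p) := by
    rw [hT, T_eq_iff]; exact Fin.ext (hp.trans hpn.symm)
  have hne : (act (v d) pa).val ≠ p := by
    intro e
    have hTT : T (v j) = T (v d) := T_eq_iff.mpr (Fin.ext (hp.trans e.symm))
    cases hjd : joined j d with
    | false => exact (hjc hjd).2 hTT
    | true => exact hjn hjd (by rw [hTT])
  have hfix : Commute (T (v j)) (T (v d)) ↔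
      pathEnd D.T (tpW p) (act (v d) pa).val = (act (v d) pa).val := by
    rw [commute_iff, hTj, Fin.ext_iff, act_ev hlet]
  simp only [fits, walk_eq, Bool.and_eq_true, Bool.not_eq_true', Bool.eq_false_iff, ne_eq, Nat.beq_eq]
  refine ⟨hne, ?_⟩
  cases hjd : joined j d with
  | false => rw [cond_false, Nat.beq_eq]; exact hfix.mp (hjc hjd).1
  | true =>
    rw [cond_true, Bool.not_eq_true', Bool.eq_false_iff, ne_eq, Nat.beq_eq]
    exact fun e => hjn hjd (hfix.mpr e)

theorem foldl_lor {c : ℕ} : ∀ (l : List ℕ) (m : ℕ), Nat.testBit (l.foldl Nat.lor m) c = true →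
    Nat.testBit m c = true ∨ ∃ a ∈ l, Nat.testBit a c = true := by
  intro l
  induction l with
  | nil => intro m hm; exact Or.inl hm
  | cons a l ih =>
    intro m hm
    rcases ih _ hm with h | ⟨b, hb, h⟩
    · change Nat.testBit (m ||| a) c = true at h
      rw [Nat.testBit_or, Bool.or_eq_true] at h
      exact h.imp id fun h => ⟨a, by simp, h⟩
    · exact Or.inr ⟨b, by simp [hb], h⟩

theorem maskA_spec {v : ℕ → G} (hv : Pattern v) {d : ℕ} (hd : d < 10) (h2 : 2 ≤ d)
    (h0 : (act (v 0) pa).val = base) : Nat.testBit maskA (act (v d) pa).val = true := by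
  obtain ⟨-, hjc⟩ := hv d hd 0 (by omega)
  have hj0 : joined 0 d = false := (joined_low d hd h2).1
  have hT0 : T (v 0) = gen 0 := by rw [← T_one, T_eq_iff, map_one]; exact Fin.ext h0
  obtain ⟨hc, hne⟩ := hjc hj0
  rw [hT0] at hc hne
  obtain ⟨c, hc0, hce⟩ := commute_node hc
  rcases hc0 with h | h
  · exfalso
    apply hne
    rw [← T_one, T_eq_iff, map_one, ← hce, show c = n0 from Fin.ext h, gen0_eq.2]
    rfl
  · have h1 := allRange_spec maskA_ok c.val (Nat.zero_le _) (lt_of_lt_of_eq c.2 (Nat.zero_add _).symm)
    rw [h, cond_true, walk_eq] at h1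
    rw [← hce, vb, act_ev (fun g hg => by
      have := base_words
      simp only [Bool.and_eq_true] at this
      simpa using List.all_eq_true.mp this.1.1 g hg)]
    exact h1

/-- a tuple with the pattern is conjugate to one in the tree -/
theorem exists_conj {v : ℕ → G} (hv : Pattern v) : ∀ d, d < 9 → ∃ (x : G) (ns : List ℕ),
    ns ∈ nodeList (d + 2) ∧ ∀ i < d + 2, (act (x * v i) pa).val = ns.getD i 0 := by
  obtain ⟨⟨hn2, he2, -⟩, ⟨⟨hunb, -⟩, -, ⟨hnc, -⟩, -⟩, hent⟩ := start_ok
  intro d
  induction d with
  | zero =>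
    intro _
    obtain ⟨hlet, hpn, hT⟩ := path_spec hunb
    have h01 : ¬ Commute (T (v 0)) (T (v 1)) := (hv 1 (by norm_num) 0 (by norm_num)).1 (by decide)
    have hb : ¬ Commute (T 1) (T (ev gen (pathOf nb))) := by
      intro hc
      have h := commute_iff.mp hc.symm
      rw [← hT, map_one, Equiv.Perm.one_apply, Fin.ext_iff, act_ev hlet] at h
      have h' : Nat.beq (pathEnd D.T (tpW nb) base) base = true := Nat.beq_eq.mpr h
      rw [hnc] at h'
      exact absurd h' (by simp)
    obtain ⟨x, hx0, hx1⟩ := pair_conj h01 hb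
    refine ⟨x, [base, nb], by rw [hn2]; simp, fun i hi => ?_⟩
    rcases Nat.lt_or_ge i 1 with h | h
    · obtain rfl : i = 0 := by omega
      rw [T_eq_iff, map_one, Equiv.Perm.one_apply] at hx0
      rw [hx0]; rfl
    · obtain rfl : i = 1 := by omega
      rw [T_eq_iff] at hx1
      rw [hx1, hpn]; rfl
  | succ d ih =>
    intro hd
    obtain ⟨x, ns, hns, hpos⟩ := ih (by omega)
    rw [nodeList, show Nat.beq (d + 2) 10 = false from by
      rw [Bool.eq_false_iff]; intro e; have := Nat.eq_of_beq_eq_true e; omega, cond_false,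
      List.mem_filter, List.mem_map] at hns
    obtain ⟨⟨e, he, rfl⟩, hlen⟩ := hns
    have hlen' : e.1.length = d + 2 := Nat.eq_of_beq_eq_true hlen
    have hok : kidsOK e = true := by
      rcases List.mem_cons.mp he with rfl | he'
      · exact kids2_ok
      · exact kids_ok e he'
    simp only [kidsOK, Bool.and_eq_true, List.all_eq_true, decide_eq_true_eq, walk_eq,
      Data.blt_iff, Nat.beq_eq, List.contains_iff_mem] at hok
    obtain ⟨⟨huse, hgens⟩, hkids⟩ := hok
    have h0 : (act (x * v 0) pa).val = base ∧ e.1.getD 1 0 = nb := by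
      rw [hpos 0 (by omega)]
      rcases List.mem_cons.mp he with rfl | he'
      · rw [he2]; exact ⟨rfl, rfl⟩
      · exact ⟨(hent e he').2.1, (hent e he').2.2⟩
    set c := act (x * v (d + 2)) pa with hc
    have hA : Nat.testBit maskA c.val = true :=
      maskA_spec (hv.conj x) (d := d + 2) (by omega) (by omega) h0.1
    have hb1 : (act (x * v 1) pa).val = nb := (hpos 1 (by omega)).trans h0.2
    have hf1 : fits (d + 2) 1 nb c.val = true :=
      fits_of_pattern (hv.conj x) (d := d + 2) (j := 1) (by omega) (by omega) hunb hb1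
    have hc3 : c.val < 0 + 31671 := lt_of_lt_of_eq c.2 (Nat.zero_add _).symm
    have hE := allRange_spec entry2_ok c.val (Nat.zero_le _) hc3
    rw [hA, cond_true, walk_eq] at hE
    have hU : Nat.testBit ((e.2.2.map fun k => k.2.1).foldl Nat.lor 0) c.val = true := by
      rcases Nat.eq_zero_or_pos d with rfl | hdpos
      · -- the third node
        have hee : e = entry2 := by
          rcases List.mem_cons.mp he with h | h
          · exact h
          · exact absurd (hent e h).1 (by omega)
        subst hee
        simp only [fits, walk_eq, Bool.and_eq_true] at hf1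
        rw [show joined 1 (0 + 2) = true from rfl, cond_true] at hf1
        have hne := hf1.2
        rw [Bool.not_eq_true'] at hne
        rwa [hne, cond_false] at hE
      · have he' : e ∈ entries := by
          rcases List.mem_cons.mp he with rfl | h
          · rw [he2] at hlen'; simp at hlen'; omega
          · exact h
        have hf1' := hf1
        simp only [fits, walk_eq, Bool.and_eq_true] at hf1'
        rw [(joined_low (d + 2) (by omega) (by omega)).2 (by omega), cond_false] at hf1'
        rw [hf1'.2, cond_true, Bool.or_eq_true] at hE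
        have hB : Nat.testBit maskB c.val = true := by
          rcases hE with h | h
          · rw [h] at hf1'; simp at hf1'
          · exact h
        have hL := allRange_spec listB_ok c.val (Nat.zero_le _) hc3
        rw [hB, cond_true, List.any_eq_true] at hL
        obtain ⟨c', hc', hce⟩ := hL
        have hcov := covers_ok e he'
        simp only [coverOK, Bool.and_eq_true] at hcov
        have hcl := List.all_eq_true.mp hcov.2 c' hc'
        rw [Nat.eq_of_beq_eq_true hce, hlen'] at hcl
        rw [show ((List.range (d + 2 - 2)).all fun j => fits (d + 2) (j + 2) (e.1.getD (j + 2) 0) c.val) = true from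
          List.all_eq_true.mpr fun j hj => by
            rw [List.mem_range] at hj
            refine fits_of_pattern (hv.conj x) (d := d + 2) (by omega) (by omega) (huse _ ?_)
              (hpos _ (by omega))
            rw [List.getD_eq_getElem _ _ (by omega : j + 2 < e.1.length)]
            exact List.getElem_mem _,
          cond_true, h0.2, hf1, cond_true] at hcl
        exact hcl
    rcases foldl_lor _ _ hU with h | ⟨m, hm, h⟩
    · simp at h
    obtain ⟨k, hk, rfl⟩ := List.mem_map.mp hm
    obtain ⟨⟨hk3, hmem⟩, hfill⟩ := hkids k hk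
    obtain ⟨hc', y, hy, hyc⟩ := (orbFill_spec k.2.2 hfill).1
      (fun n => ∃ hn : n < D.n, ∃ y : G, (∀ q : Fin D.n, q.val ∈ e.1 → act y q = q) ∧
        act y (⟨k.1, hk3⟩ : Fin D.n) = ⟨n, hn⟩)
      (fun n hn => by
        rw [Nat.testBit_two_pow, decide_eq_true_eq] at hn
        subst hn
        exact ⟨hk3, 1, fun q _ => by rw [map_one]; rfl, by rw [map_one]; rfl⟩)
      (fun p w hp hw => by
        obtain ⟨hp3, y, hy, hyp⟩ := hp
        obtain ⟨g, hg, rfl⟩ : ∃ g ∈ e.2.1, tpW g = w := by simpa [withWords] using hw
        obtain ⟨hu, hgfix⟩ := hgens g hg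
        obtain ⟨hlet, -, -⟩ := path_spec hu
        refine ⟨pathEnd_lt H93.Fi23Cover.model.tables (tpW g) (fun g hg => hlet g hg) hp3,
          ev gen (tpW g) * y, fun q hq => ?_, ?_⟩
        · rw [map_mul, Equiv.Perm.mul_apply, hy q hq]
          exact Fin.ext ((act_ev hlet q).trans (hgfix q.val hq))
        · rw [map_mul, Equiv.Perm.mul_apply, hyp]
          exact Fin.ext (act_ev hlet _))
      c.val h
    refine ⟨y⁻¹ * x, e.1 ++ [k.1], by rw [hlen'] at hmem; exact hmem, fun i hi => ?_⟩
    rw [mul_assoc, map_mul, Equiv.Perm.mul_apply, map_inv]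
    rcases Nat.lt_or_ge i (d + 2) with hi' | hi'
    · have h1 := hpos i hi'
      have h2 : (act (x * v i) pa).val ∈ e.1 := by
        rw [h1, List.getD_eq_getElem _ _ (by omega : i < e.1.length)]; exact List.getElem_mem _
      rw [show (act y)⁻¹ (act (x * v i) pa) = act (x * v i) pa from
          Equiv.Perm.inv_eq_iff_eq.mpr (hy _ h2).symm, h1,
        List.getD_append _ _ _ _ (by omega)]
    · obtain rfl : i = d + 2 := by omega
      rw [show (act y)⁻¹ (act (x * v (d + 2)) pa) = ⟨k.1, hk3⟩ from
          Equiv.Perm.inv_eq_iff_eq.mpr (by rw [← hc]; exact Fin.ext (Fin.ext_iff.mp hyc).symm),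
        List.getD_append_right _ _ _ _ (by omega), hlen', Nat.sub_self]
      rfl

/-- a tuple with the pattern is conjugate to the final one -/
theorem exists_leaf {v : ℕ → G} (hv : Pattern v) :
    ∃ x : G, ∀ i < 10, (act (x * v i) pa).val = leaf.getD i 0 := by
  obtain ⟨x, ns, hns, hpos⟩ := exists_conj hv 8 (by norm_num)
  obtain rfl : ns = leaf := by simpa [nodeList] using hns
  exact ⟨x, hpos⟩

end Fi23Out
end H96
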