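import Mathlib
import Cfsg.Prelude.Def_KGroupFacts
import Cfsg.Agent.H96.Fi23Cent
import Cfsg.Agent.H96.Fi23OutTree

/-!
The outer automorphism group of `Fi23` is trivial.
-/

set_option autoImplicit false
set_option maxRecDepth 100000

namespace H96
namespace Fi23Out

open H93 H93.Coset
open H93.Fi23Cover (baseOne baseOne_spec)
open H93.Fi23Order (gen)

theorem leaf_words : ∀ g < 10,
    (inUse (leaf.getD g 0) && baseOne ([g] ++ tpW (leaf.getD g 0))) = true := by
  decide +kernel

/-- the generators as transpositions of nodes -/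
noncomputable def u (g : ℕ) : G := ev gen (pathOf (leaf.getD g 0))

theorem gen_eq {g : ℕ} (hg : g < 10) : gen g = T (u g) ∧ (act (u g) pa).val = leaf.getD g 0 := by
  have h := leaf_words g hg
  rw [Bool.and_eq_true] at h
  obtain ⟨-, hp, hT⟩ := path_spec h.1
  refine ⟨?_, hp⟩
  have h2 := baseOne_spec h.2
  rw [ev_append, ev, ev, one_mul, hT] at h2
  rw [u, eq_inv_of_mul_eq_one_left h2, inv_eq_of_mul_eq_one_right (sq hg)]

theorem pattern_words : ∀ i < 10, ∀ j < i,
    fits i j (leaf.getD j 0) (leaf.getD i 0) = true := by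
  decide +kernel

theorem gen_pattern : Pattern u := by
  intro i hi j hj
  have h := pattern_words i hi j hj
  simp only [fits, walk_eq, Bool.and_eq_true, Bool.not_eq_true', Bool.eq_false_iff, ne_eq,
    Nat.beq_eq] at h
  have hu : inUse (leaf.getD j 0) = true := by
    have := leaf_words j (by omega)
    rw [Bool.and_eq_true] at this
    exact this.1
  obtain ⟨hlet, -, hT⟩ := path_spec hu
  have hc : Commute (T (u j)) (T (u i)) ↔
      pathEnd D.T (tpW (leaf.getD j 0)) (leaf.getD i 0) = leaf.getD i 0 := by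
    rw [commute_iff, u, ← hT, Fin.ext_iff, act_ev hlet, (gen_eq hi).2]
  refine ⟨fun e hc' => ?_, fun e => ⟨hc.mpr ?_, fun he => ?_⟩⟩
  · have h2 := h.2
    rw [e, cond_true, Bool.not_eq_true', Bool.eq_false_iff, ne_eq, Nat.beq_eq] at h2
    exact h2 (hc.mp hc')
  · have h2 := h.2
    rw [e, cond_false, Nat.beq_eq] at h2
    exact h2
  · rw [T_eq_iff, Fin.ext_iff, (gen_eq (by omega)).2, (gen_eq hi).2] at he
    exact h.1 he.symm

theorem gen0_ne : gen 0 ≠ 1 := by
  intro e
  have h1 := act_gen (g := 0) (by norm_num) ⟨8006, by decide +kernel⟩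
  rw [e, map_one, Equiv.Perm.one_apply] at h1
  exact absurd h1 (by decide +kernel)

theorem aut_gen_mem (α : MulAut G) {g : ℕ} (hg : g < 10) : ∃ w : G, α (gen g) = T w := by
  obtain ⟨w0, hw0⟩ := tau_x
  have hcomm : Commute (gen 0) (w0⁻¹ * x * w0) := by
    have h := (Commute.conj_iff w0⁻¹).mpr hw0
    rwa [show w0⁻¹ * T w0 * w0⁻¹⁻¹ = gen 0 by rw [T]; group, inv_inv] at h
  have h0 : α (gen 0) ∈ conjugatesOf (gen 0) := by
    refine mem_class (u := α (w0⁻¹ * x * w0)) ?_ (hcomm.map α.toMonoidHom) ?_ ?_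
    · rw [MulEquiv.orderOf_eq, show w0⁻¹ * x * w0 = MulAut.conj w0⁻¹ x by simp, MulEquiv.orderOf_eq,
        orderOf_x]
    · rw [← map_mul, sq (by norm_num), map_one]
    · exact (map_ne_one_iff α α.injective).mpr gen0_ne
  obtain ⟨c, hc⟩ := isConj_iff.mp h0
  refine ⟨α (u g) * c, ?_⟩
  rw [T_mul, show T c = α (gen 0) from hc, (gen_eq hg).1, T, map_mul, map_mul, map_inv]

theorem aut_ext {α γ : MulAut G} (h : ∀ g < 10, α (gen g) = γ (gen g)) : α = γ := by
  have hle : (⊤ : Subgroup G) ≤ MonoidHom.eqLocus α.toMonoidHom γ.toMonoidHom := by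
    rw [← H93.Fi23Cover.model.generates, Subgroup.closure_le]
    rintro _ ⟨g, hg, rfl⟩
    exact h g hg
  exact MulEquiv.ext fun x => hle (Subgroup.mem_top x)

/-- every automorphism is inner -/
theorem aut_inner (α : MulAut G) : ∃ y : G, MulAut.conj y * α = 1 := by
  choose! v hv using fun g (hg : g < 10) => aut_gen_mem α hg
  have hpat : Pattern v := by
    intro i hi j hj
    obtain ⟨h1, h2⟩ := gen_pattern i hi j hj
    rw [← hv i hi, ← hv j (by omega), (gen_eq hi).1, (gen_eq (show j < 10 by omega)).1]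
    have hcm : ∀ a b : G, Commute (α a) (α b) ↔ Commute a b := fun a b => by
      rw [Commute, SemiconjBy, ← map_mul, ← map_mul, α.injective.eq_iff]; rfl
    rw [hcm]
    exact ⟨h1, fun e => ⟨(h2 e).1, fun he => (h2 e).2 (α.injective he)⟩⟩
  obtain ⟨y, hpos⟩ := exists_leaf hpat
  refine ⟨y, aut_ext fun g hg => ?_⟩
  rw [MulAut.mul_apply, hv g hg, MulAut.conj_apply, ← T_mul, MulAut.one_apply, (gen_eq hg).1,
    T_eq_iff]
  exact Fin.ext ((hpos g hg).trans (gen_eq hg).2.symm)

theorem card_out : Nat.card (Cfsg.Out G) = 1 := by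
  rw [Nat.card_eq_one_iff_unique]
  refine ⟨⟨fun a b => ?_⟩, inferInstance⟩
  obtain ⟨α, rfl⟩ := QuotientGroup.mk_surjective a
  obtain ⟨β, rfl⟩ := QuotientGroup.mk_surjective b
  have h : ∀ γ : MulAut G, (γ : Cfsg.Out G) = 1 := fun γ => by
    obtain ⟨y, hy⟩ := aut_inner γ
    rw [QuotientGroup.eq_one_iff]
    exact ⟨y⁻¹, by rw [map_inv, inv_eq_of_mul_eq_one_right hy]⟩
  rw [h α, h β]

end Fi23Out
end H96
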