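import Cfsg.Agent.H96.LeechPairs
import Cfsg.Agent.H95.Co0Centre

/-!
A fixed-point-free involution on the Higman–Sims configuration: a dodecad of sign changes.
-/

set_option autoImplicit false

namespace H96
namespace HSInvol

open Cfsg Finset H95

/-- the first vector of the model -/
def mV : leechLattice := ⟨Lam.sampleD, Lam.sampleD_mem⟩

theorem sgn_supp : support₂ (1 + Lam.sampleWord) ∈ supports (golayCode : Set (GolayPt → ZMod 2)) :=
  ⟨_, add_mem one_mem_code Lam.sampleWord_code, rfl⟩

/-- the sign change -/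
noncomputable def sgn : Co0 :=
  mono 1 (support₂ (1 + Lam.sampleWord)) (one_mem _) sgn_supp

theorem sgn_apply (x : leechLattice) (i : GolayPt) :
    ((sgn • x : leechLattice) : GolayPt → ℤ) i =
      if Lam.sampleWord i = 0 then -(x : GolayPt → ℤ) i else (x : GolayPt → ℤ) i := by
  rw [sgn, mono_smul]
  show (if i ∈ support₂ (1 + Lam.sampleWord) then _ else _) = _
  have e : i ∈ support₂ (1 + Lam.sampleWord) ↔ Lam.sampleWord i = 0 := by
    simp only [support₂, mem_filter, mem_univ, true_and, Pi.add_apply, Pi.one_apply]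
    rcases zmod2_cases (Lam.sampleWord i) with h | h <;> rw [h] <;> decide
  simp only [e]
  rfl

theorem sgn_sq : sgn * sgn = 1 := co0_ext fun x => Subtype.ext (funext fun i => by
  rw [mul_smul, one_smul, sgn_apply, sgn_apply]
  split <;> simp)

theorem sgn_ne_one : sgn ≠ 1 := by
  intro h
  have hex : ∃ i, Lam.sampleWord i = 0 := by decide +kernel
  obtain ⟨i, hi⟩ := hex
  have e := congrArg (fun g : Co0 => ((g • eight i : leechLattice) : GolayPt → ℤ) i) h
  simp only [sgn_apply, if_pos hi, one_smul, eight, Pi.single_eq_same] at e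
  omega

theorem order_sgn : orderOf sgn = 2 := by
  haveI : Fact (Nat.Prime 2) := ⟨Nat.prime_two⟩
  exact orderOf_eq_prime (by rw [pow_two, sgn_sq]) sgn_ne_one

theorem sgn_mV : sgn • mV = mV := Subtype.ext (funext fun i => by
  rw [sgn_apply]
  split
  · rename_i h
    show -Lam.sampleD i = Lam.sampleD i
    simp [Lam.sampleD, h]
  · rfl)

theorem sgn_vBase : sgn • vBase = vBase := Subtype.ext (funext fun i => by
  rw [sgn_apply]
  split
  · rename_i h
    have h0 : i ≠ none := fun e => by
      subst e; exact absurd h (by decide +kernel)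
    have h1 : i ≠ some 0 := fun e => by
      subst e; exact absurd h (by decide +kernel)
    simp [coe_vBase, h0, h1]
  · rfl)

theorem no_fixed {y : leechLattice} (hd : ldot mV y = 24) : sgn • y ≠ y := by
  intro hfix
  have hz : ∀ i, Lam.sampleWord i = 0 → (y : GolayPt → ℤ) i = 0 := fun i hi => by
    have e := congrArg (fun x : leechLattice => (x : GolayPt → ℤ) i) hfix
    simp only [sgn_apply, if_pos hi] at e
    omega
  obtain ⟨m, hp, hs, -⟩ := mem_leech.mp y.2
  have h2 : ∑ i, 2 * (y : GolayPt → ℤ) i = 24 := by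
    rw [← hd]
    show _ = ∑ i, Lam.sampleD i * (y : GolayPt → ℤ) i
    refine sum_congr rfl fun i _ => ?_
    rcases eq_or_ne (Lam.sampleWord i) 0 with h | h
    · rw [hz i h]; simp
    · simp only [Lam.sampleD, eq_one_of_ne h]; rfl
  rw [← mul_sum] at h2
  have hex : ∃ i, Lam.sampleWord i = 0 := by decide +kernel
  obtain ⟨i, hi⟩ := hex
  have := hp i
  rw [hz i hi] at this
  omega

theorem exists_free_invol (v w : leechLattice) (hv : sqNorm (v : GolayPt → ℤ) = 48)
    (hw : sqNorm (w : GolayPt → ℤ) = 48)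
    (hd : dotInt (v : GolayPt → ℤ) (w : GolayPt → ℤ) = -32) :
    ∃ g : Co0, g • v = v ∧ g • w = w ∧ orderOf g = 2 ∧ ∀ x : leechLattice,
      dotInt (v : GolayPt → ℤ) (x : GolayPt → ℤ) = 24 → g • x ≠ x := by
  rw [sqNorm_eq_ldot] at hv hw
  replace hd : ldot v w = -32 := hd
  have hx : ldot (-(v + w)) (-(v + w)) = 32 := by
    rw [leechLike.norm_neg, leechLike.norm_add, hv, hw, hd]; norm_num
  have hxd : ldot v (-(v + w)) = -16 := by
    rw [leechLike.neg_right, leechLike.add_right, hv, hd]; norm_num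
  have hV : ldot mV mV = 48 := by rw [← sqNorm_eq_ldot]; decide +kernel
  have hVB : ldot mV (-vBase) = -16 := by
    rw [leechLike.neg_right]
    show -dotInt Lam.sampleD (vBase : GolayPt → ℤ) = -16
    rw [coe_vBase]; decide +kernel
  obtain ⟨k, h1, h2⟩ := Lam.pair_transitive_48_32_neg hv hx hxd hV
    (by rw [leechLike.norm_neg]; exact vBase_norm) hVB
  have h2' : k • w = vBase - mV := by
    rw [co0_neg, neg_inj, co0_add, h1] at h2
    rw [← h2]; abel
  refine ⟨k⁻¹ * sgn * k, ?_, ?_, ?_, fun x hdx hfix => ?_⟩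
  · rw [mul_smul, mul_smul, h1, sgn_mV, ← h1, inv_smul_smul]
  · rw [mul_smul, mul_smul, h2', co0_sub, sgn_vBase, sgn_mV, ← h2', inv_smul_smul]
  · have : k⁻¹ * sgn * k = MulAut.conj k⁻¹ sgn := by simp [MulAut.conj_apply]
    rw [this]
    exact (MulEquiv.orderOf_eq (MulAut.conj k⁻¹) sgn).trans order_sgn
  · refine no_fixed (y := k • x) ?_ ?_
    · rw [← h1, co0_dot]; exact hdx
    · rw [mul_smul, mul_smul, inv_smul_eq_iff] at hfix
      exact hfix

end HSInvol
end H96
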