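import Cfsg.Agent.H96.J2Ico

/-! Tables: units of the icosian ring (breadth first), the 315 lines. -/

set_option autoImplicit false

namespace H96
namespace J2

/-- vectors with three icosian coordinates -/
structure V3 where
  x : Q8
  y : Q8
  z : Q8
deriving DecidableEq, Repr

def units : List Q8 :=
 [(Q8.mk8 2 0 0 0 0 0 0 0),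
  (Q8.mk8 0 0 2 0 0 0 0 0),
  (Q8.mk8 1 0 1 (-1) 0 0 0 1),
  (Q8.mk8 (-2) 0 0 0 0 0 0 0),
  (Q8.mk8 (-1) 1 1 0 0 (-1) 0 0),
  (Q8.mk8 (-1) 1 1 0 0 1 0 0),
  (Q8.mk8 (-1) 0 1 (-1) 0 0 0 1),
  (Q8.mk8 0 0 (-2) 0 0 0 0 0),
  (Q8.mk8 (-1) 0 (-1) 1 0 0 0 (-1)),
  (Q8.mk8 (-1) 0 (-1) 1 0 0 0 1),
  (Q8.mk8 (-1) 1 (-1) 0 0 (-1) 0 0),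
  (Q8.mk8 (-1) 1 0 1 0 0 1 0),
  (Q8.mk8 (-1) 1 (-1) 0 0 1 0 0),
  (Q8.mk8 1 (-1) (-1) 0 0 1 0 0),
  (Q8.mk8 1 (-1) (-1) 0 0 (-1) 0 0),
  (Q8.mk8 1 0 (-1) 1 0 0 0 (-1)),
  (Q8.mk8 0 (-1) (-1) 1 (-1) 0 0 0),
  (Q8.mk8 1 0 (-1) 1 0 0 0 1),
  (Q8.mk8 0 (-1) (-1) 1 1 0 0 0),
  (Q8.mk8 0 0 (-1) 1 0 (-1) 1 0),
  (Q8.mk8 0 0 (-1) 1 0 1 1 0),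
  (Q8.mk8 1 0 1 (-1) 0 0 0 (-1)),
  (Q8.mk8 1 (-1) 1 0 0 1 0 0),
  (Q8.mk8 1 (-1) 0 (-1) 0 0 (-1) 0),
  (Q8.mk8 1 (-1) 1 0 0 (-1) 0 0),
  (Q8.mk8 1 (-1) 0 (-1) 0 0 1 0),
  (Q8.mk8 1 (-1) 0 0 (-1) 0 0 (-1)),
  (Q8.mk8 1 (-1) 0 0 (-1) 0 0 1),
  (Q8.mk8 1 (-1) 0 1 0 0 (-1) 0),
  (Q8.mk8 1 (-1) 0 0 1 0 0 1),
  (Q8.mk8 1 (-1) 0 0 1 0 0 (-1)),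
  (Q8.mk8 1 (-1) 0 1 0 0 1 0),
  (Q8.mk8 0 1 1 (-1) 1 0 0 0),
  (Q8.mk8 (-1) 0 1 (-1) 0 0 0 (-1)),
  (Q8.mk8 0 1 1 (-1) (-1) 0 0 0),
  (Q8.mk8 0 0 1 (-1) 0 1 (-1) 0),
  (Q8.mk8 0 0 1 (-1) 0 (-1) (-1) 0),
  (Q8.mk8 0 (-1) 1 (-1) 1 0 0 0),
  (Q8.mk8 0 0 1 (-1) 0 (-1) 1 0),
  (Q8.mk8 0 0 1 (-1) 0 1 1 0),
  (Q8.mk8 0 (-1) 1 (-1) (-1) 0 0 0),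
  (Q8.mk8 1 0 1 0 (-1) 0 (-1) 0),
  (Q8.mk8 0 (-1) 1 0 0 0 (-1) 1),
  (Q8.mk8 1 0 1 0 1 0 (-1) 0),
  (Q8.mk8 (-1) 1 0 1 0 0 (-1) 0),
  (Q8.mk8 (-1) 1 0 0 1 0 0 1),
  (Q8.mk8 (-1) 1 0 0 1 0 0 (-1)),
  (Q8.mk8 (-1) 1 0 (-1) 0 0 1 0),
  (Q8.mk8 (-1) 1 0 0 (-1) 0 0 (-1)),
  (Q8.mk8 (-1) 1 0 0 (-1) 0 0 1),
  (Q8.mk8 (-1) 1 0 (-1) 0 0 (-1) 0),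
  (Q8.mk8 (-1) 0 1 0 1 0 (-1) 0),
  (Q8.mk8 (-1) 0 0 (-1) 1 (-1) 0 0),
  (Q8.mk8 (-1) 0 1 0 1 0 1 0),
  (Q8.mk8 (-1) 0 1 0 (-1) 0 1 0),
  (Q8.mk8 (-1) 0 0 (-1) (-1) 1 0 0),
  (Q8.mk8 (-1) 0 1 0 (-1) 0 (-1) 0),
  (Q8.mk8 0 1 1 0 0 0 (-1) 1),
  (Q8.mk8 0 1 (-1) 1 (-1) 0 0 0),
  (Q8.mk8 0 0 (-1) 1 0 1 (-1) 0),
  (Q8.mk8 0 0 (-1) 1 0 (-1) (-1) 0),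
  (Q8.mk8 0 1 (-1) 1 1 0 0 0),
  (Q8.mk8 (-1) 0 (-1) 0 1 0 1 0),
  (Q8.mk8 0 1 (-1) 0 0 0 1 (-1)),
  (Q8.mk8 (-1) 0 (-1) 0 (-1) 0 1 0),
  (Q8.mk8 (-1) 0 (-1) 0 (-1) 0 (-1) 0),
  (Q8.mk8 0 1 (-1) 0 0 0 (-1) 1),
  (Q8.mk8 (-1) 0 (-1) 0 1 0 (-1) 0),
  (Q8.mk8 (-1) 0 0 1 1 (-1) 0 0),
  (Q8.mk8 (-1) 0 0 0 0 (-1) 1 (-1)),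
  (Q8.mk8 (-1) 0 0 0 0 1 1 (-1)),
  (Q8.mk8 (-1) 0 0 1 (-1) 1 0 0),
  (Q8.mk8 1 0 (-1) 0 (-1) 0 1 0),
  (Q8.mk8 1 0 0 1 (-1) 1 0 0),
  (Q8.mk8 1 0 (-1) 0 (-1) 0 (-1) 0),
  (Q8.mk8 1 0 (-1) 0 1 0 (-1) 0),
  (Q8.mk8 1 0 0 1 1 (-1) 0 0),
  (Q8.mk8 1 0 (-1) 0 1 0 1 0),
  (Q8.mk8 0 (-1) (-1) 0 0 0 1 (-1)),
  (Q8.mk8 0 0 (-1) 0 (-1) 1 0 (-1)),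
  (Q8.mk8 0 0 (-1) 0 (-1) 1 0 1),
  (Q8.mk8 0 (-1) (-1) 0 0 0 (-1) 1),
  (Q8.mk8 0 0 (-1) 0 1 (-1) 0 1),
  (Q8.mk8 0 0 (-1) 0 1 (-1) 0 (-1)),
  (Q8.mk8 0 0 0 1 1 0 1 (-1)),
  (Q8.mk8 0 0 0 1 (-1) 0 1 (-1)),
  (Q8.mk8 1 0 1 0 1 0 1 0),
  (Q8.mk8 0 (-1) 1 0 0 0 1 (-1)),
  (Q8.mk8 1 0 1 0 (-1) 0 1 0),
  (Q8.mk8 1 0 0 (-1) (-1) 1 0 0),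
  (Q8.mk8 1 0 0 0 0 1 (-1) 1),
  (Q8.mk8 1 0 0 0 0 (-1) (-1) 1),
  (Q8.mk8 1 0 0 (-1) 1 (-1) 0 0),
  (Q8.mk8 1 0 0 0 0 (-1) 1 (-1)),
  (Q8.mk8 1 0 0 0 0 1 1 (-1)),
  (Q8.mk8 0 (-1) 0 0 (-1) 1 1 0),
  (Q8.mk8 0 (-1) 0 0 (-1) 1 (-1) 0),
  (Q8.mk8 0 (-1) 0 0 1 (-1) (-1) 0),
  (Q8.mk8 0 (-1) 0 0 1 (-1) 1 0),
  (Q8.mk8 0 0 1 0 1 (-1) 0 1),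
  (Q8.mk8 0 0 1 0 1 (-1) 0 (-1)),
  (Q8.mk8 0 1 1 0 0 0 1 (-1)),
  (Q8.mk8 0 0 1 0 (-1) 1 0 (-1)),
  (Q8.mk8 0 0 1 0 (-1) 1 0 1),
  (Q8.mk8 0 0 0 (-1) (-1) 0 (-1) 1),
  (Q8.mk8 0 0 0 (-1) 1 0 (-1) 1),
  (Q8.mk8 0 0 0 (-1) 1 0 1 (-1)),
  (Q8.mk8 0 0 0 (-1) (-1) 0 1 (-1)),
  (Q8.mk8 0 0 0 0 0 0 (-2) 0),
  (Q8.mk8 (-1) 0 0 0 0 1 (-1) 1),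
  (Q8.mk8 (-1) 0 0 0 0 (-1) (-1) 1),
  (Q8.mk8 0 1 0 0 1 (-1) (-1) 0),
  (Q8.mk8 0 1 0 0 1 (-1) 1 0),
  (Q8.mk8 0 1 0 0 (-1) 1 1 0),
  (Q8.mk8 0 1 0 0 (-1) 1 (-1) 0),
  (Q8.mk8 0 0 0 0 2 0 0 0),
  (Q8.mk8 0 0 0 0 (-2) 0 0 0),
  (Q8.mk8 0 0 0 1 (-1) 0 (-1) 1),
  (Q8.mk8 0 0 0 1 1 0 (-1) 1),
  (Q8.mk8 0 0 0 0 0 0 2 0)]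

/-- (parent, generator) -/
def unitPar : List (ℕ × Bool) :=
 [(0, false),
  (0, false),
  (0, true),
  (1, false),
  (1, true),
  (2, false),
  (2, true),
  (3, false),
  (3, true),
  (4, false),
  (4, true),
  (5, true),
  (6, false),
  (7, true),
  (8, false),
  (8, true),
  (9, true),
  (10, false),
  (11, false),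
  (11, true),
  (12, true),
  (13, false),
  (13, true),
  (14, true),
  (15, false),
  (16, false),
  (16, true),
  (17, true),
  (18, true),
  (19, false),
  (20, false),
  (20, true),
  (21, true),
  (22, false),
  (23, false),
  (23, true),
  (24, true),
  (25, true),
  (26, false),
  (27, false),
  (27, true),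
  (28, true),
  (29, true),
  (30, true),
  (32, false),
  (32, true),
  (33, true),
  (34, true),
  (35, false),
  (36, false),
  (36, true),
  (37, true),
  (38, true),
  (39, true),
  (41, false),
  (42, false),
  (42, true),
  (43, true),
  (44, true),
  (45, false),
  (46, false),
  (46, true),
  (47, true),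
  (48, true),
  (49, true),
  (51, false),
  (52, false),
  (52, true),
  (53, true),
  (54, true),
  (55, true),
  (57, false),
  (58, true),
  (59, true),
  (60, true),
  (62, false),
  (63, false),
  (63, true),
  (64, true),
  (65, true),
  (66, true),
  (68, false),
  (69, false),
  (69, true),
  (70, true),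
  (71, true),
  (72, false),
  (73, false),
  (73, true),
  (74, true),
  (75, true),
  (76, true),
  (78, false),
  (79, false),
  (79, true),
  (80, true),
  (81, true),
  (84, false),
  (85, false),
  (86, true),
  (87, true),
  (89, false),
  (90, false),
  (90, true),
  (91, true),
  (92, true),
  (95, false),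
  (96, false),
  (97, true),
  (99, false),
  (99, true),
  (100, true),
  (101, true),
  (104, false),
  (105, false),
  (106, true),
  (108, false),
  (111, false),
  (112, false),
  (113, true)]

def basisExpr : List (Q8 × List ℕ) :=
 [((Q8.mk8 1 0 0 0 0 1 1 1), [2, 20]),
  ((Q8.mk8 0 1 0 0 1 1 1 0), [5, 77]),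
  ((Q8.mk8 0 0 1 0 1 1 0 1), [5, 29]),
  ((Q8.mk8 0 0 0 1 1 0 1 1), [9, 86]),
  ((Q8.mk8 0 0 0 0 2 0 0 0), [115]),
  ((Q8.mk8 0 0 0 0 0 2 0 0), [5, 13]),
  ((Q8.mk8 0 0 0 0 0 0 2 0), [119]),
  ((Q8.mk8 0 0 0 0 0 0 0 2), [2, 9])]

def lineGens : List V3 :=
 [⟨(Q8.mk8 1 0 1 (-2) 1 0 (-1) 0), (Q8.mk8 2 0 0 0 0 0 0 0), (Q8.mk8 (-2) 0 0 0 0 0 0 0)⟩,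
  ⟨(Q8.mk8 0 (-1) 0 (-1) 0 1 0 (-1)), (Q8.mk8 2 0 0 0 0 0 0 0), (Q8.mk8 1 (-1) (-1) 1 (-1) 1 1 (-1))⟩,
  ⟨(Q8.mk8 2 0 0 0 0 0 0 0), (Q8.mk8 1 0 1 0 (-1) 0 1 (-2)), (Q8.mk8 (-2) 0 0 0 0 0 0 0)⟩,
  ⟨(Q8.mk8 2 0 0 0 0 0 0 0), (Q8.mk8 0 0 2 0 0 0 0 0), (Q8.mk8 1 (-2) (-1) 0 1 0 1 0)⟩]

def lines : List V3 :=
 [⟨(Q8.mk8 4 0 0 0 0 0 0 0), (Q8.mk8 0 0 0 0 0 0 0 0), (Q8.mk8 0 0 0 0 0 0 0 0)⟩,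
  ⟨(Q8.mk8 0 0 0 0 0 0 0 0), (Q8.mk8 1 (-2) 1 0 1 0 1 0), (Q8.mk8 (-1) 2 (-1) 0 (-1) 0 (-1) 0)⟩,
  ⟨(Q8.mk8 (-1) 1 (-1) 1 1 (-1) 1 (-1)), (Q8.mk8 0 (-1) 0 (-1) 0 (-1) 0 1), (Q8.mk8 2 0 0 0 0 0 0 0)⟩,
  ⟨(Q8.mk8 2 0 0 0 0 0 0 0), (Q8.mk8 (-1) 0 (-1) 0 1 0 (-1) 2), (Q8.mk8 2 0 0 0 0 0 0 0)⟩,
  ⟨(Q8.mk8 2 0 0 0 0 0 0 0), (Q8.mk8 0 0 (-2) 0 0 0 0 0), (Q8.mk8 (-1) 2 1 0 (-1) 0 (-1) 0)⟩,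
  ⟨(Q8.mk8 0 (-1) 0 (-1) 0 1 0 (-1)), (Q8.mk8 1 (-1) (-1) 1 (-1) 1 1 (-1)), (Q8.mk8 2 0 0 0 0 0 0 0)⟩,
  ⟨(Q8.mk8 (-1) 0 (-1) 0 1 0 (-1) 2), (Q8.mk8 2 0 0 0 0 0 0 0), (Q8.mk8 2 0 0 0 0 0 0 0)⟩,
  ⟨(Q8.mk8 1 (-2) (-1) 0 (-1) 0 (-1) 0), (Q8.mk8 2 0 0 0 0 0 0 0), (Q8.mk8 2 0 0 0 0 0 0 0)⟩,
  ⟨(Q8.mk8 0 (-1) 0 1 0 1 0 1), (Q8.mk8 (-1) 1 (-1) 1 (-1) 1 (-1) 1), (Q8.mk8 2 0 0 0 0 0 0 0)⟩,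
  ⟨(Q8.mk8 1 (-2) 1 0 1 0 1 0), (Q8.mk8 0 0 0 0 0 0 0 0), (Q8.mk8 (-1) 2 (-1) 0 (-1) 0 (-1) 0)⟩,
  ⟨(Q8.mk8 1 0 (-1) 2 1 0 1 0), (Q8.mk8 2 0 0 0 0 0 0 0), (Q8.mk8 0 0 0 0 (-2) 0 0 0)⟩,
  ⟨(Q8.mk8 0 1 0 (-1) 0 1 0 1), (Q8.mk8 2 0 0 0 0 0 0 0), (Q8.mk8 1 (-1) (-1) 1 1 (-1) (-1) 1)⟩,
  ⟨(Q8.mk8 1 0 1 0 1 0 (-1) 2), (Q8.mk8 2 0 0 0 0 0 0 0), (Q8.mk8 0 0 2 0 0 0 0 0)⟩,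
  ⟨(Q8.mk8 1 0 1 (-2) (-1) 0 1 0), (Q8.mk8 2 0 0 0 0 0 0 0), (Q8.mk8 0 0 2 0 0 0 0 0)⟩,
  ⟨(Q8.mk8 0 1 0 1 0 (-1) 0 1), (Q8.mk8 1 (-1) (-1) 1 (-1) 1 1 (-1)), (Q8.mk8 2 0 0 0 0 0 0 0)⟩,
  ⟨(Q8.mk8 2 0 0 0 0 0 0 0), (Q8.mk8 (-2) 0 0 0 0 0 0 0), (Q8.mk8 (-1) 2 1 0 1 0 1 0)⟩,
  ⟨(Q8.mk8 2 0 0 0 0 0 0 0), (Q8.mk8 0 (-1) 0 1 0 1 0 1), (Q8.mk8 (-1) 1 (-1) 1 (-1) 1 (-1) 1)⟩,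
  ⟨(Q8.mk8 0 0 0 0 0 0 0 0), (Q8.mk8 1 (-2) 1 0 1 0 1 0), (Q8.mk8 (-1) 0 (-1) 0 1 (-2) 1 0)⟩,
  ⟨(Q8.mk8 (-1) 1 (-1) 1 1 (-1) 1 (-1)), (Q8.mk8 2 0 0 0 0 0 0 0), (Q8.mk8 0 1 0 1 0 1 0 (-1))⟩,
  ⟨(Q8.mk8 2 0 0 0 0 0 0 0), (Q8.mk8 0 0 0 0 (-2) 0 0 0), (Q8.mk8 (-1) 2 (-1) 0 1 0 (-1) 0)⟩,
  ⟨(Q8.mk8 0 0 0 0 0 0 0 0), (Q8.mk8 1 (-2) 1 0 1 0 1 0), (Q8.mk8 1 0 (-1) 2 (-1) 0 1 0)⟩,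
  ⟨(Q8.mk8 2 0 0 0 0 0 0 0), (Q8.mk8 0 1 0 (-1) 0 1 0 1), (Q8.mk8 1 (-1) (-1) 1 1 (-1) (-1) 1)⟩,
  ⟨(Q8.mk8 0 0 0 0 0 0 0 0), (Q8.mk8 1 (-2) 1 0 1 0 1 0), (Q8.mk8 1 0 (-1) 0 1 0 (-1) 2)⟩,
  ⟨(Q8.mk8 2 0 0 0 0 0 0 0), (Q8.mk8 1 0 (-1) 0 1 (-2) 1 0), (Q8.mk8 2 0 0 0 0 0 0 0)⟩,
  ⟨(Q8.mk8 2 0 0 0 0 0 0 0), (Q8.mk8 (-1) 0 (-1) 2 (-1) 0 1 0), (Q8.mk8 2 0 0 0 0 0 0 0)⟩,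
  ⟨(Q8.mk8 1 (-1) (-1) 1 (-1) 1 1 (-1)), (Q8.mk8 2 0 0 0 0 0 0 0), (Q8.mk8 0 (-1) 0 (-1) 0 1 0 (-1))⟩,
  ⟨(Q8.mk8 0 0 0 0 0 0 0 0), (Q8.mk8 4 0 0 0 0 0 0 0), (Q8.mk8 0 0 0 0 0 0 0 0)⟩,
  ⟨(Q8.mk8 (-1) 1 (-1) 1 (-1) 1 (-1) 1), (Q8.mk8 0 (-1) 0 1 0 1 0 1), (Q8.mk8 2 0 0 0 0 0 0 0)⟩,
  ⟨(Q8.mk8 2 0 0 0 0 0 0 0), (Q8.mk8 1 0 (-1) 2 1 0 1 0), (Q8.mk8 0 0 0 0 2 0 0 0)⟩,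
  ⟨(Q8.mk8 2 0 0 0 0 0 0 0), (Q8.mk8 0 1 0 (-1) 0 1 0 1), (Q8.mk8 (-1) 1 1 (-1) (-1) 1 1 (-1))⟩,
  ⟨(Q8.mk8 2 0 0 0 0 0 0 0), (Q8.mk8 0 0 0 0 0 0 2 0), (Q8.mk8 1 0 (-1) 0 1 0 1 (-2))⟩,
  ⟨(Q8.mk8 2 0 0 0 0 0 0 0), (Q8.mk8 1 0 1 0 (-1) 2 1 0), (Q8.mk8 0 0 0 0 0 0 (-2) 0)⟩,
  ⟨(Q8.mk8 2 0 0 0 0 0 0 0), (Q8.mk8 0 0 2 0 0 0 0 0), (Q8.mk8 1 0 (-1) 0 (-1) 2 (-1) 0)⟩,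
  ⟨(Q8.mk8 0 1 0 1 0 (-1) 0 1), (Q8.mk8 (-1) 1 1 (-1) 1 (-1) (-1) 1), (Q8.mk8 2 0 0 0 0 0 0 0)⟩,
  ⟨(Q8.mk8 1 (-1) 1 (-1) 1 (-1) 1 (-1)), (Q8.mk8 0 (-1) 0 1 0 1 0 1), (Q8.mk8 2 0 0 0 0 0 0 0)⟩,
  ⟨(Q8.mk8 2 0 0 0 0 0 0 0), (Q8.mk8 1 (-1) (-1) 1 1 (-1) (-1) 1), (Q8.mk8 0 1 0 (-1) 0 1 0 1)⟩,
  ⟨(Q8.mk8 2 0 0 0 0 0 0 0), (Q8.mk8 (-1) 2 1 0 1 0 1 0), (Q8.mk8 (-2) 0 0 0 0 0 0 0)⟩,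
  ⟨(Q8.mk8 2 0 0 0 0 0 0 0), (Q8.mk8 (-1) 0 1 0 (-1) 0 (-1) 2), (Q8.mk8 0 0 0 0 0 0 2 0)⟩,
  ⟨(Q8.mk8 2 0 0 0 0 0 0 0), (Q8.mk8 0 0 0 0 0 0 (-2) 0), (Q8.mk8 1 0 (-1) 2 (-1) 0 (-1) 0)⟩,
  ⟨(Q8.mk8 1 0 (-1) 0 1 0 1 (-2)), (Q8.mk8 2 0 0 0 0 0 0 0), (Q8.mk8 0 0 0 0 0 0 2 0)⟩,
  ⟨(Q8.mk8 0 1 0 (-1) 0 1 0 1), (Q8.mk8 (-1) 1 1 (-1) (-1) 1 1 (-1)), (Q8.mk8 2 0 0 0 0 0 0 0)⟩,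
  ⟨(Q8.mk8 (-1) 0 (-1) 0 1 (-2) (-1) 0), (Q8.mk8 2 0 0 0 0 0 0 0), (Q8.mk8 0 0 0 0 0 0 2 0)⟩,
  ⟨(Q8.mk8 2 0 0 0 0 0 0 0), (Q8.mk8 0 0 (-2) 0 0 0 0 0), (Q8.mk8 1 (-2) (-1) 0 1 0 1 0)⟩,
  ⟨(Q8.mk8 1 0 1 0 (-1) 2 1 0), (Q8.mk8 2 0 0 0 0 0 0 0), (Q8.mk8 0 0 0 0 0 0 2 0)⟩,
  ⟨(Q8.mk8 (-1) 1 (-1) 1 1 (-1) 1 (-1)), (Q8.mk8 2 0 0 0 0 0 0 0), (Q8.mk8 0 (-1) 0 (-1) 0 (-1) 0 1)⟩,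
  ⟨(Q8.mk8 0 (-1) 0 (-1) 0 (-1) 0 1), (Q8.mk8 (-1) 1 (-1) 1 1 (-1) 1 (-1)), (Q8.mk8 2 0 0 0 0 0 0 0)⟩,
  ⟨(Q8.mk8 2 0 0 0 0 0 0 0), (Q8.mk8 0 0 0 0 (-2) 0 0 0), (Q8.mk8 (-1) 0 1 (-2) (-1) 0 (-1) 0)⟩,
  ⟨(Q8.mk8 (-1) 0 (-1) 0 (-1) 2 1 0), (Q8.mk8 2 0 0 0 0 0 0 0), (Q8.mk8 0 0 0 0 (-2) 0 0 0)⟩,
  ⟨(Q8.mk8 2 0 0 0 0 0 0 0), (Q8.mk8 1 0 1 0 1 (-2) (-1) 0), (Q8.mk8 0 0 0 0 (-2) 0 0 0)⟩,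
  ⟨(Q8.mk8 2 0 0 0 0 0 0 0), (Q8.mk8 1 (-1) 1 (-1) 1 (-1) 1 (-1)), (Q8.mk8 0 1 0 (-1) 0 (-1) 0 (-1))⟩,
  ⟨(Q8.mk8 2 0 0 0 0 0 0 0), (Q8.mk8 0 0 2 0 0 0 0 0), (Q8.mk8 (-1) 0 1 0 1 (-2) 1 0)⟩,
  ⟨(Q8.mk8 1 (-1) 1 (-1) (-1) 1 (-1) 1), (Q8.mk8 0 1 0 1 0 1 0 (-1)), (Q8.mk8 2 0 0 0 0 0 0 0)⟩,
  ⟨(Q8.mk8 1 (-2) 1 0 (-1) 0 1 0), (Q8.mk8 2 0 0 0 0 0 0 0), (Q8.mk8 0 0 0 0 (-2) 0 0 0)⟩,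
  ⟨(Q8.mk8 2 0 0 0 0 0 0 0), (Q8.mk8 1 0 (-1) 0 1 0 1 (-2)), (Q8.mk8 0 0 0 0 0 0 2 0)⟩,
  ⟨(Q8.mk8 2 0 0 0 0 0 0 0), (Q8.mk8 (-1) 0 1 (-2) 1 0 1 0), (Q8.mk8 0 0 0 0 0 0 2 0)⟩,
  ⟨(Q8.mk8 (-1) 0 1 0 (-1) 2 (-1) 0), (Q8.mk8 2 0 0 0 0 0 0 0), (Q8.mk8 2 0 0 0 0 0 0 0)⟩,
  ⟨(Q8.mk8 2 0 0 0 0 0 0 0), (Q8.mk8 0 0 0 0 0 0 (-2) 0), (Q8.mk8 (-1) 0 (-1) 0 1 (-2) (-1) 0)⟩,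
  ⟨(Q8.mk8 0 (-1) 0 (-1) 0 (-1) 0 1), (Q8.mk8 2 0 0 0 0 0 0 0), (Q8.mk8 (-1) 1 (-1) 1 1 (-1) 1 (-1))⟩,
  ⟨(Q8.mk8 1 (-2) 1 0 1 0 1 0), (Q8.mk8 0 0 0 0 0 0 0 0), (Q8.mk8 1 0 (-1) 2 (-1) 0 1 0)⟩,
  ⟨(Q8.mk8 0 (-1) 0 1 0 (-1) 0 (-1)), (Q8.mk8 (-1) 1 1 (-1) (-1) 1 1 (-1)), (Q8.mk8 2 0 0 0 0 0 0 0)⟩,
  ⟨(Q8.mk8 1 (-2) 1 0 1 0 1 0), (Q8.mk8 0 0 0 0 0 0 0 0), (Q8.mk8 1 0 1 0 (-1) 2 (-1) 0)⟩,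
  ⟨(Q8.mk8 2 0 0 0 0 0 0 0), (Q8.mk8 1 (-1) (-1) 1 1 (-1) (-1) 1), (Q8.mk8 0 (-1) 0 1 0 (-1) 0 (-1))⟩,
  ⟨(Q8.mk8 0 (-1) 0 (-1) 0 1 0 (-1)), (Q8.mk8 (-1) 1 1 (-1) 1 (-1) (-1) 1), (Q8.mk8 2 0 0 0 0 0 0 0)⟩,
  ⟨(Q8.mk8 (-1) 0 1 (-2) 1 0 1 0), (Q8.mk8 2 0 0 0 0 0 0 0), (Q8.mk8 0 0 0 0 0 0 2 0)⟩,
  ⟨(Q8.mk8 0 (-1) 0 (-1) 0 1 0 (-1)), (Q8.mk8 2 0 0 0 0 0 0 0), (Q8.mk8 (-1) 1 1 (-1) 1 (-1) (-1) 1)⟩,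
  ⟨(Q8.mk8 (-1) 0 (-1) 2 (-1) 0 1 0), (Q8.mk8 2 0 0 0 0 0 0 0), (Q8.mk8 2 0 0 0 0 0 0 0)⟩,
  ⟨(Q8.mk8 0 1 0 1 0 (-1) 0 1), (Q8.mk8 2 0 0 0 0 0 0 0), (Q8.mk8 (-1) 1 1 (-1) 1 (-1) (-1) 1)⟩,
  ⟨(Q8.mk8 2 0 0 0 0 0 0 0), (Q8.mk8 0 0 0 0 0 0 2 0), (Q8.mk8 (-1) 0 1 0 (-1) 0 (-1) 2)⟩,
  ⟨(Q8.mk8 0 (-1) 0 1 0 1 0 1), (Q8.mk8 2 0 0 0 0 0 0 0), (Q8.mk8 (-1) 1 (-1) 1 (-1) 1 (-1) 1)⟩,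
  ⟨(Q8.mk8 2 0 0 0 0 0 0 0), (Q8.mk8 (-1) 1 (-1) 1 1 (-1) 1 (-1)), (Q8.mk8 0 (-1) 0 (-1) 0 (-1) 0 1)⟩,
  ⟨(Q8.mk8 2 0 0 0 0 0 0 0), (Q8.mk8 (-1) 0 (-1) 0 (-1) 0 1 (-2)), (Q8.mk8 0 0 (-2) 0 0 0 0 0)⟩,
  ⟨(Q8.mk8 1 (-2) 1 0 1 0 1 0), (Q8.mk8 1 0 (-1) 0 1 0 (-1) 2), (Q8.mk8 0 0 0 0 0 0 0 0)⟩,
  ⟨(Q8.mk8 0 (-1) 0 1 0 1 0 1), (Q8.mk8 2 0 0 0 0 0 0 0), (Q8.mk8 1 (-1) 1 (-1) 1 (-1) 1 (-1))⟩,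
  ⟨(Q8.mk8 1 (-2) 1 0 1 0 1 0), (Q8.mk8 0 0 0 0 0 0 0 0), (Q8.mk8 (-1) 0 1 0 (-1) 0 1 (-2))⟩,
  ⟨(Q8.mk8 1 (-1) (-1) 1 (-1) 1 1 (-1)), (Q8.mk8 0 (-1) 0 (-1) 0 1 0 (-1)), (Q8.mk8 2 0 0 0 0 0 0 0)⟩,
  ⟨(Q8.mk8 2 0 0 0 0 0 0 0), (Q8.mk8 0 (-1) 0 1 0 (-1) 0 (-1)), (Q8.mk8 1 (-1) (-1) 1 1 (-1) (-1) 1)⟩,
  ⟨(Q8.mk8 (-1) 0 (-1) 2 1 0 (-1) 0), (Q8.mk8 2 0 0 0 0 0 0 0), (Q8.mk8 0 0 2 0 0 0 0 0)⟩,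
  ⟨(Q8.mk8 0 (-1) 0 1 0 (-1) 0 (-1)), (Q8.mk8 2 0 0 0 0 0 0 0), (Q8.mk8 (-1) 1 1 (-1) (-1) 1 1 (-1))⟩,
  ⟨(Q8.mk8 (-1) 2 1 0 (-1) 0 (-1) 0), (Q8.mk8 2 0 0 0 0 0 0 0), (Q8.mk8 0 0 (-2) 0 0 0 0 0)⟩,
  ⟨(Q8.mk8 2 0 0 0 0 0 0 0), (Q8.mk8 (-1) 0 (-1) 0 1 0 (-1) 2), (Q8.mk8 (-2) 0 0 0 0 0 0 0)⟩,
  ⟨(Q8.mk8 (-1) 2 (-1) 0 1 0 (-1) 0), (Q8.mk8 2 0 0 0 0 0 0 0), (Q8.mk8 0 0 0 0 (-2) 0 0 0)⟩,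
  ⟨(Q8.mk8 (-1) 2 1 0 1 0 1 0), (Q8.mk8 2 0 0 0 0 0 0 0), (Q8.mk8 2 0 0 0 0 0 0 0)⟩,
  ⟨(Q8.mk8 (-1) 0 (-1) 2 (-1) 0 1 0), (Q8.mk8 2 0 0 0 0 0 0 0), (Q8.mk8 (-2) 0 0 0 0 0 0 0)⟩,
  ⟨(Q8.mk8 2 0 0 0 0 0 0 0), (Q8.mk8 1 (-2) (-1) 0 (-1) 0 (-1) 0), (Q8.mk8 (-2) 0 0 0 0 0 0 0)⟩,
  ⟨(Q8.mk8 2 0 0 0 0 0 0 0), (Q8.mk8 (-2) 0 0 0 0 0 0 0), (Q8.mk8 (-1) 0 (-1) 0 1 0 (-1) 2)⟩,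
  ⟨(Q8.mk8 (-1) 1 (-1) 1 (-1) 1 (-1) 1), (Q8.mk8 2 0 0 0 0 0 0 0), (Q8.mk8 0 1 0 (-1) 0 (-1) 0 (-1))⟩,
  ⟨(Q8.mk8 2 0 0 0 0 0 0 0), (Q8.mk8 2 0 0 0 0 0 0 0), (Q8.mk8 1 (-2) (-1) 0 (-1) 0 (-1) 0)⟩,
  ⟨(Q8.mk8 2 0 0 0 0 0 0 0), (Q8.mk8 0 0 0 0 2 0 0 0), (Q8.mk8 (-1) 0 1 0 1 0 1 (-2))⟩,
  ⟨(Q8.mk8 1 (-1) 1 (-1) (-1) 1 (-1) 1), (Q8.mk8 2 0 0 0 0 0 0 0), (Q8.mk8 0 (-1) 0 (-1) 0 (-1) 0 1)⟩,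
  ⟨(Q8.mk8 1 (-1) (-1) 1 (-1) 1 1 (-1)), (Q8.mk8 0 1 0 1 0 (-1) 0 1), (Q8.mk8 2 0 0 0 0 0 0 0)⟩,
  ⟨(Q8.mk8 (-1) 1 (-1) 1 (-1) 1 (-1) 1), (Q8.mk8 2 0 0 0 0 0 0 0), (Q8.mk8 0 (-1) 0 1 0 1 0 1)⟩,
  ⟨(Q8.mk8 0 0 0 0 0 0 0 0), (Q8.mk8 1 (-2) 1 0 1 0 1 0), (Q8.mk8 (-1) 0 1 (-2) 1 0 (-1) 0)⟩,
  ⟨(Q8.mk8 1 (-2) 1 0 1 0 1 0), (Q8.mk8 0 0 0 0 0 0 0 0), (Q8.mk8 1 (-2) 1 0 1 0 1 0)⟩,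
  ⟨(Q8.mk8 2 0 0 0 0 0 0 0), (Q8.mk8 0 0 0 0 0 0 (-2) 0), (Q8.mk8 1 0 1 0 (-1) 2 1 0)⟩,
  ⟨(Q8.mk8 2 0 0 0 0 0 0 0), (Q8.mk8 1 (-2) (-1) 0 1 0 1 0), (Q8.mk8 0 0 2 0 0 0 0 0)⟩,
  ⟨(Q8.mk8 1 (-1) 1 (-1) 1 (-1) 1 (-1)), (Q8.mk8 0 1 0 (-1) 0 (-1) 0 (-1)), (Q8.mk8 2 0 0 0 0 0 0 0)⟩,
  ⟨(Q8.mk8 2 0 0 0 0 0 0 0), (Q8.mk8 1 0 (-1) 0 1 0 1 (-2)), (Q8.mk8 0 0 0 0 0 0 (-2) 0)⟩,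
  ⟨(Q8.mk8 0 1 0 (-1) 0 (-1) 0 (-1)), (Q8.mk8 (-1) 1 (-1) 1 (-1) 1 (-1) 1), (Q8.mk8 2 0 0 0 0 0 0 0)⟩,
  ⟨(Q8.mk8 2 0 0 0 0 0 0 0), (Q8.mk8 (-1) 0 (-1) 2 1 0 (-1) 0), (Q8.mk8 0 0 2 0 0 0 0 0)⟩,
  ⟨(Q8.mk8 (-1) 1 1 (-1) (-1) 1 1 (-1)), (Q8.mk8 0 (-1) 0 1 0 (-1) 0 (-1)), (Q8.mk8 2 0 0 0 0 0 0 0)⟩,
  ⟨(Q8.mk8 (-1) 1 1 (-1) 1 (-1) (-1) 1), (Q8.mk8 0 (-1) 0 (-1) 0 1 0 (-1)), (Q8.mk8 2 0 0 0 0 0 0 0)⟩,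
  ⟨(Q8.mk8 2 0 0 0 0 0 0 0), (Q8.mk8 1 (-2) (-1) 0 (-1) 0 (-1) 0), (Q8.mk8 2 0 0 0 0 0 0 0)⟩,
  ⟨(Q8.mk8 1 (-1) 1 (-1) 1 (-1) 1 (-1)), (Q8.mk8 2 0 0 0 0 0 0 0), (Q8.mk8 0 1 0 (-1) 0 (-1) 0 (-1))⟩,
  ⟨(Q8.mk8 (-1) 1 1 (-1) 1 (-1) (-1) 1), (Q8.mk8 0 1 0 1 0 (-1) 0 1), (Q8.mk8 2 0 0 0 0 0 0 0)⟩,
  ⟨(Q8.mk8 2 0 0 0 0 0 0 0), (Q8.mk8 1 0 1 0 1 0 (-1) 2), (Q8.mk8 0 0 (-2) 0 0 0 0 0)⟩,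
  ⟨(Q8.mk8 2 0 0 0 0 0 0 0), (Q8.mk8 0 0 0 0 0 0 2 0), (Q8.mk8 (-1) 2 (-1) 0 (-1) 0 1 0)⟩,
  ⟨(Q8.mk8 1 (-1) 1 (-1) (-1) 1 (-1) 1), (Q8.mk8 0 (-1) 0 (-1) 0 (-1) 0 1), (Q8.mk8 2 0 0 0 0 0 0 0)⟩,
  ⟨(Q8.mk8 2 0 0 0 0 0 0 0), (Q8.mk8 0 0 0 0 2 0 0 0), (Q8.mk8 (-1) 2 (-1) 0 1 0 (-1) 0)⟩,
  ⟨(Q8.mk8 (-1) 1 1 (-1) 1 (-1) (-1) 1), (Q8.mk8 2 0 0 0 0 0 0 0), (Q8.mk8 0 (-1) 0 (-1) 0 1 0 (-1))⟩,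
  ⟨(Q8.mk8 2 0 0 0 0 0 0 0), (Q8.mk8 2 0 0 0 0 0 0 0), (Q8.mk8 1 0 1 (-2) 1 0 (-1) 0)⟩,
  ⟨(Q8.mk8 2 0 0 0 0 0 0 0), (Q8.mk8 (-1) 2 1 0 (-1) 0 (-1) 0), (Q8.mk8 0 0 2 0 0 0 0 0)⟩,
  ⟨(Q8.mk8 2 0 0 0 0 0 0 0), (Q8.mk8 0 0 2 0 0 0 0 0), (Q8.mk8 (-1) 0 (-1) 2 1 0 (-1) 0)⟩,
  ⟨(Q8.mk8 0 1 0 (-1) 0 1 0 1), (Q8.mk8 2 0 0 0 0 0 0 0), (Q8.mk8 (-1) 1 1 (-1) (-1) 1 1 (-1))⟩,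
  ⟨(Q8.mk8 2 0 0 0 0 0 0 0), (Q8.mk8 (-1) 1 (-1) 1 1 (-1) 1 (-1)), (Q8.mk8 0 1 0 1 0 1 0 (-1))⟩,
  ⟨(Q8.mk8 2 0 0 0 0 0 0 0), (Q8.mk8 1 (-1) 1 (-1) (-1) 1 (-1) 1), (Q8.mk8 0 1 0 1 0 1 0 (-1))⟩,
  ⟨(Q8.mk8 2 0 0 0 0 0 0 0), (Q8.mk8 0 0 0 0 2 0 0 0), (Q8.mk8 (-1) 0 (-1) 0 (-1) 2 1 0)⟩,
  ⟨(Q8.mk8 2 0 0 0 0 0 0 0), (Q8.mk8 (-1) 1 1 (-1) (-1) 1 1 (-1)), (Q8.mk8 0 1 0 (-1) 0 1 0 1)⟩,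
  ⟨(Q8.mk8 2 0 0 0 0 0 0 0), (Q8.mk8 0 0 0 0 2 0 0 0), (Q8.mk8 1 (-2) 1 0 (-1) 0 1 0)⟩,
  ⟨(Q8.mk8 2 0 0 0 0 0 0 0), (Q8.mk8 0 1 0 1 0 (-1) 0 1), (Q8.mk8 (-1) 1 1 (-1) 1 (-1) (-1) 1)⟩,
  ⟨(Q8.mk8 (-1) 2 1 0 (-1) 0 (-1) 0), (Q8.mk8 2 0 0 0 0 0 0 0), (Q8.mk8 0 0 2 0 0 0 0 0)⟩,
  ⟨(Q8.mk8 2 0 0 0 0 0 0 0), (Q8.mk8 1 0 (-1) 0 (-1) 2 (-1) 0), (Q8.mk8 0 0 2 0 0 0 0 0)⟩,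
  ⟨(Q8.mk8 0 (-1) 0 1 0 (-1) 0 (-1)), (Q8.mk8 2 0 0 0 0 0 0 0), (Q8.mk8 1 (-1) (-1) 1 1 (-1) (-1) 1)⟩,
  ⟨(Q8.mk8 2 0 0 0 0 0 0 0), (Q8.mk8 (-1) 0 (-1) 0 (-1) 2 1 0), (Q8.mk8 0 0 0 0 2 0 0 0)⟩,
  ⟨(Q8.mk8 2 0 0 0 0 0 0 0), (Q8.mk8 (-1) 2 1 0 (-1) 0 (-1) 0), (Q8.mk8 0 0 (-2) 0 0 0 0 0)⟩,
  ⟨(Q8.mk8 0 1 0 (-1) 0 (-1) 0 (-1)), (Q8.mk8 2 0 0 0 0 0 0 0), (Q8.mk8 (-1) 1 (-1) 1 (-1) 1 (-1) 1)⟩,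
  ⟨(Q8.mk8 2 0 0 0 0 0 0 0), (Q8.mk8 (-1) 2 (-1) 0 (-1) 0 1 0), (Q8.mk8 0 0 0 0 0 0 (-2) 0)⟩,
  ⟨(Q8.mk8 2 0 0 0 0 0 0 0), (Q8.mk8 2 0 0 0 0 0 0 0), (Q8.mk8 1 0 1 0 (-1) 0 1 (-2))⟩,
  ⟨(Q8.mk8 2 0 0 0 0 0 0 0), (Q8.mk8 1 0 1 0 1 (-2) (-1) 0), (Q8.mk8 0 0 0 0 2 0 0 0)⟩,
  ⟨(Q8.mk8 (-1) 2 (-1) 0 1 0 (-1) 0), (Q8.mk8 2 0 0 0 0 0 0 0), (Q8.mk8 0 0 0 0 2 0 0 0)⟩,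
  ⟨(Q8.mk8 1 (-1) (-1) 1 1 (-1) (-1) 1), (Q8.mk8 0 (-1) 0 1 0 (-1) 0 (-1)), (Q8.mk8 2 0 0 0 0 0 0 0)⟩,
  ⟨(Q8.mk8 2 0 0 0 0 0 0 0), (Q8.mk8 1 0 1 (-2) (-1) 0 1 0), (Q8.mk8 0 0 2 0 0 0 0 0)⟩,
  ⟨(Q8.mk8 2 0 0 0 0 0 0 0), (Q8.mk8 0 1 0 1 0 (-1) 0 1), (Q8.mk8 1 (-1) (-1) 1 (-1) 1 1 (-1))⟩,
  ⟨(Q8.mk8 2 0 0 0 0 0 0 0), (Q8.mk8 (-1) 0 1 0 1 (-2) 1 0), (Q8.mk8 0 0 2 0 0 0 0 0)⟩,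
  ⟨(Q8.mk8 2 0 0 0 0 0 0 0), (Q8.mk8 0 0 0 0 (-2) 0 0 0), (Q8.mk8 1 0 (-1) 2 1 0 1 0)⟩,
  ⟨(Q8.mk8 (-1) 1 1 (-1) (-1) 1 1 (-1)), (Q8.mk8 2 0 0 0 0 0 0 0), (Q8.mk8 0 (-1) 0 1 0 (-1) 0 (-1))⟩,
  ⟨(Q8.mk8 1 0 (-1) 0 1 0 1 (-2)), (Q8.mk8 2 0 0 0 0 0 0 0), (Q8.mk8 0 0 0 0 0 0 (-2) 0)⟩,
  ⟨(Q8.mk8 2 0 0 0 0 0 0 0), (Q8.mk8 0 0 2 0 0 0 0 0), (Q8.mk8 1 0 1 0 1 0 (-1) 2)⟩,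
  ⟨(Q8.mk8 0 0 0 0 0 0 0 0), (Q8.mk8 0 0 0 0 0 0 0 0), (Q8.mk8 4 0 0 0 0 0 0 0)⟩,
  ⟨(Q8.mk8 2 0 0 0 0 0 0 0), (Q8.mk8 2 0 0 0 0 0 0 0), (Q8.mk8 (-1) 0 1 0 (-1) 2 (-1) 0)⟩,
  ⟨(Q8.mk8 2 0 0 0 0 0 0 0), (Q8.mk8 0 0 0 0 0 0 2 0), (Q8.mk8 1 0 1 0 (-1) 2 1 0)⟩,
  ⟨(Q8.mk8 2 0 0 0 0 0 0 0), (Q8.mk8 (-1) 0 (-1) 0 (-1) 2 1 0), (Q8.mk8 0 0 0 0 (-2) 0 0 0)⟩,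
  ⟨(Q8.mk8 2 0 0 0 0 0 0 0), (Q8.mk8 1 0 (-1) 0 (-1) 0 (-1) 2), (Q8.mk8 0 0 0 0 2 0 0 0)⟩,
  ⟨(Q8.mk8 2 0 0 0 0 0 0 0), (Q8.mk8 0 1 0 (-1) 0 (-1) 0 (-1)), (Q8.mk8 (-1) 1 (-1) 1 (-1) 1 (-1) 1)⟩,
  ⟨(Q8.mk8 2 0 0 0 0 0 0 0), (Q8.mk8 1 0 1 (-2) 1 0 (-1) 0), (Q8.mk8 2 0 0 0 0 0 0 0)⟩,
  ⟨(Q8.mk8 2 0 0 0 0 0 0 0), (Q8.mk8 1 0 1 0 (-1) 2 1 0), (Q8.mk8 0 0 0 0 0 0 2 0)⟩,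
  ⟨(Q8.mk8 1 0 (-1) 2 1 0 1 0), (Q8.mk8 2 0 0 0 0 0 0 0), (Q8.mk8 0 0 0 0 2 0 0 0)⟩,
  ⟨(Q8.mk8 2 0 0 0 0 0 0 0), (Q8.mk8 0 0 0 0 0 0 2 0), (Q8.mk8 1 0 (-1) 2 (-1) 0 (-1) 0)⟩,
  ⟨(Q8.mk8 2 0 0 0 0 0 0 0), (Q8.mk8 (-1) 2 1 0 1 0 1 0), (Q8.mk8 2 0 0 0 0 0 0 0)⟩,
  ⟨(Q8.mk8 2 0 0 0 0 0 0 0), (Q8.mk8 (-1) 2 (-1) 0 1 0 (-1) 0), (Q8.mk8 0 0 0 0 2 0 0 0)⟩,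
  ⟨(Q8.mk8 2 0 0 0 0 0 0 0), (Q8.mk8 (-1) 0 1 (-2) 1 0 1 0), (Q8.mk8 0 0 0 0 0 0 (-2) 0)⟩,
  ⟨(Q8.mk8 2 0 0 0 0 0 0 0), (Q8.mk8 0 0 (-2) 0 0 0 0 0), (Q8.mk8 1 0 (-1) 0 (-1) 2 (-1) 0)⟩,
  ⟨(Q8.mk8 2 0 0 0 0 0 0 0), (Q8.mk8 (-1) 0 1 0 (-1) 0 (-1) 2), (Q8.mk8 0 0 0 0 0 0 (-2) 0)⟩,
  ⟨(Q8.mk8 1 0 1 0 1 (-2) (-1) 0), (Q8.mk8 2 0 0 0 0 0 0 0), (Q8.mk8 0 0 0 0 (-2) 0 0 0)⟩,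
  ⟨(Q8.mk8 2 0 0 0 0 0 0 0), (Q8.mk8 0 0 0 0 0 0 (-2) 0), (Q8.mk8 1 (-2) 1 0 1 0 (-1) 0)⟩,
  ⟨(Q8.mk8 2 0 0 0 0 0 0 0), (Q8.mk8 0 0 (-2) 0 0 0 0 0), (Q8.mk8 (-1) 0 (-1) 0 (-1) 0 1 (-2))⟩,
  ⟨(Q8.mk8 2 0 0 0 0 0 0 0), (Q8.mk8 (-1) 1 1 (-1) 1 (-1) (-1) 1), (Q8.mk8 0 (-1) 0 (-1) 0 1 0 (-1))⟩,
  ⟨(Q8.mk8 2 0 0 0 0 0 0 0), (Q8.mk8 (-1) 2 (-1) 0 1 0 (-1) 0), (Q8.mk8 0 0 0 0 (-2) 0 0 0)⟩,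
  ⟨(Q8.mk8 1 (-2) 1 0 1 0 1 0), (Q8.mk8 (-1) 0 1 (-2) 1 0 (-1) 0), (Q8.mk8 0 0 0 0 0 0 0 0)⟩,
  ⟨(Q8.mk8 0 1 0 1 0 (-1) 0 1), (Q8.mk8 2 0 0 0 0 0 0 0), (Q8.mk8 1 (-1) (-1) 1 (-1) 1 1 (-1))⟩,
  ⟨(Q8.mk8 1 (-2) 1 0 1 0 1 0), (Q8.mk8 (-1) 0 1 0 (-1) 0 1 (-2)), (Q8.mk8 0 0 0 0 0 0 0 0)⟩,
  ⟨(Q8.mk8 2 0 0 0 0 0 0 0), (Q8.mk8 1 (-2) 1 0 (-1) 0 1 0), (Q8.mk8 0 0 0 0 2 0 0 0)⟩,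
  ⟨(Q8.mk8 (-1) 1 1 (-1) (-1) 1 1 (-1)), (Q8.mk8 0 1 0 (-1) 0 1 0 1), (Q8.mk8 2 0 0 0 0 0 0 0)⟩,
  ⟨(Q8.mk8 2 0 0 0 0 0 0 0), (Q8.mk8 (-1) 0 1 0 1 0 1 (-2)), (Q8.mk8 0 0 0 0 2 0 0 0)⟩,
  ⟨(Q8.mk8 1 (-1) (-1) 1 1 (-1) (-1) 1), (Q8.mk8 2 0 0 0 0 0 0 0), (Q8.mk8 0 (-1) 0 1 0 (-1) 0 (-1))⟩,
  ⟨(Q8.mk8 2 0 0 0 0 0 0 0), (Q8.mk8 1 (-2) 1 0 1 0 (-1) 0), (Q8.mk8 0 0 0 0 0 0 2 0)⟩,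
  ⟨(Q8.mk8 1 (-1) (-1) 1 1 (-1) (-1) 1), (Q8.mk8 0 1 0 (-1) 0 1 0 1), (Q8.mk8 2 0 0 0 0 0 0 0)⟩,
  ⟨(Q8.mk8 (-1) 0 1 (-2) (-1) 0 (-1) 0), (Q8.mk8 2 0 0 0 0 0 0 0), (Q8.mk8 0 0 0 0 (-2) 0 0 0)⟩,
  ⟨(Q8.mk8 2 0 0 0 0 0 0 0), (Q8.mk8 1 0 (-1) 0 (-1) 0 (-1) 2), (Q8.mk8 0 0 0 0 (-2) 0 0 0)⟩,
  ⟨(Q8.mk8 1 0 (-1) 0 (-1) 2 (-1) 0), (Q8.mk8 2 0 0 0 0 0 0 0), (Q8.mk8 0 0 (-2) 0 0 0 0 0)⟩,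
  ⟨(Q8.mk8 1 (-2) 1 0 1 0 1 0), (Q8.mk8 1 (-2) 1 0 1 0 1 0), (Q8.mk8 0 0 0 0 0 0 0 0)⟩,
  ⟨(Q8.mk8 2 0 0 0 0 0 0 0), (Q8.mk8 1 0 (-1) 2 (-1) 0 (-1) 0), (Q8.mk8 0 0 0 0 0 0 2 0)⟩,
  ⟨(Q8.mk8 0 (-1) 0 (-1) 0 1 0 (-1)), (Q8.mk8 2 0 0 0 0 0 0 0), (Q8.mk8 1 (-1) (-1) 1 (-1) 1 1 (-1))⟩,
  ⟨(Q8.mk8 2 0 0 0 0 0 0 0), (Q8.mk8 0 0 (-2) 0 0 0 0 0), (Q8.mk8 (-1) 0 1 0 1 (-2) 1 0)⟩,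
  ⟨(Q8.mk8 2 0 0 0 0 0 0 0), (Q8.mk8 1 0 1 0 (-1) 0 1 (-2)), (Q8.mk8 2 0 0 0 0 0 0 0)⟩,
  ⟨(Q8.mk8 2 0 0 0 0 0 0 0), (Q8.mk8 (-1) 0 1 (-2) (-1) 0 (-1) 0), (Q8.mk8 0 0 0 0 2 0 0 0)⟩,
  ⟨(Q8.mk8 (-1) 0 (-1) 0 1 0 (-1) 2), (Q8.mk8 2 0 0 0 0 0 0 0), (Q8.mk8 (-2) 0 0 0 0 0 0 0)⟩,
  ⟨(Q8.mk8 1 0 1 0 1 0 (-1) 2), (Q8.mk8 2 0 0 0 0 0 0 0), (Q8.mk8 0 0 (-2) 0 0 0 0 0)⟩,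
  ⟨(Q8.mk8 2 0 0 0 0 0 0 0), (Q8.mk8 1 0 (-1) 0 1 (-2) 1 0), (Q8.mk8 (-2) 0 0 0 0 0 0 0)⟩,
  ⟨(Q8.mk8 2 0 0 0 0 0 0 0), (Q8.mk8 0 0 0 0 0 0 (-2) 0), (Q8.mk8 1 0 (-1) 0 1 0 1 (-2))⟩,
  ⟨(Q8.mk8 0 (-1) 0 1 0 (-1) 0 (-1)), (Q8.mk8 1 (-1) (-1) 1 1 (-1) (-1) 1), (Q8.mk8 2 0 0 0 0 0 0 0)⟩,
  ⟨(Q8.mk8 2 0 0 0 0 0 0 0), (Q8.mk8 2 0 0 0 0 0 0 0), (Q8.mk8 (-1) 0 (-1) 2 (-1) 0 1 0)⟩,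
  ⟨(Q8.mk8 2 0 0 0 0 0 0 0), (Q8.mk8 (-1) 0 (-1) 2 (-1) 0 1 0), (Q8.mk8 (-2) 0 0 0 0 0 0 0)⟩,
  ⟨(Q8.mk8 (-1) 1 1 (-1) 1 (-1) (-1) 1), (Q8.mk8 2 0 0 0 0 0 0 0), (Q8.mk8 0 1 0 1 0 (-1) 0 1)⟩,
  ⟨(Q8.mk8 2 0 0 0 0 0 0 0), (Q8.mk8 1 (-2) 1 0 1 0 (-1) 0), (Q8.mk8 0 0 0 0 0 0 (-2) 0)⟩,
  ⟨(Q8.mk8 (-1) 0 1 0 1 (-2) 1 0), (Q8.mk8 2 0 0 0 0 0 0 0), (Q8.mk8 0 0 (-2) 0 0 0 0 0)⟩,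
  ⟨(Q8.mk8 2 0 0 0 0 0 0 0), (Q8.mk8 2 0 0 0 0 0 0 0), (Q8.mk8 (-1) 0 (-1) 0 1 0 (-1) 2)⟩,
  ⟨(Q8.mk8 (-1) 0 1 0 (-1) 0 (-1) 2), (Q8.mk8 2 0 0 0 0 0 0 0), (Q8.mk8 0 0 0 0 0 0 2 0)⟩,
  ⟨(Q8.mk8 2 0 0 0 0 0 0 0), (Q8.mk8 0 0 0 0 0 0 (-2) 0), (Q8.mk8 (-1) 0 1 (-2) 1 0 1 0)⟩,
  ⟨(Q8.mk8 (-1) 1 (-1) 1 (-1) 1 (-1) 1), (Q8.mk8 0 1 0 (-1) 0 (-1) 0 (-1)), (Q8.mk8 2 0 0 0 0 0 0 0)⟩,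
  ⟨(Q8.mk8 2 0 0 0 0 0 0 0), (Q8.mk8 0 0 0 0 (-2) 0 0 0), (Q8.mk8 (-1) 0 (-1) 0 (-1) 2 1 0)⟩,
  ⟨(Q8.mk8 2 0 0 0 0 0 0 0), (Q8.mk8 (-1) 0 1 0 1 (-2) 1 0), (Q8.mk8 0 0 (-2) 0 0 0 0 0)⟩,
  ⟨(Q8.mk8 2 0 0 0 0 0 0 0), (Q8.mk8 0 0 0 0 2 0 0 0), (Q8.mk8 1 0 1 0 1 (-2) (-1) 0)⟩,
  ⟨(Q8.mk8 1 (-1) (-1) 1 1 (-1) (-1) 1), (Q8.mk8 2 0 0 0 0 0 0 0), (Q8.mk8 0 1 0 (-1) 0 1 0 1)⟩,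
  ⟨(Q8.mk8 1 0 (-1) 2 (-1) 0 (-1) 0), (Q8.mk8 2 0 0 0 0 0 0 0), (Q8.mk8 0 0 0 0 0 0 2 0)⟩,
  ⟨(Q8.mk8 2 0 0 0 0 0 0 0), (Q8.mk8 (-2) 0 0 0 0 0 0 0), (Q8.mk8 (-1) 0 1 0 (-1) 2 (-1) 0)⟩,
  ⟨(Q8.mk8 (-1) 2 (-1) 0 (-1) 0 1 0), (Q8.mk8 2 0 0 0 0 0 0 0), (Q8.mk8 0 0 0 0 0 0 2 0)⟩,
  ⟨(Q8.mk8 1 (-2) 1 0 1 0 1 0), (Q8.mk8 0 0 0 0 0 0 0 0), (Q8.mk8 1 0 (-1) 0 1 0 (-1) 2)⟩,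
  ⟨(Q8.mk8 2 0 0 0 0 0 0 0), (Q8.mk8 1 0 (-1) 2 1 0 1 0), (Q8.mk8 0 0 0 0 (-2) 0 0 0)⟩,
  ⟨(Q8.mk8 2 0 0 0 0 0 0 0), (Q8.mk8 (-2) 0 0 0 0 0 0 0), (Q8.mk8 1 (-2) (-1) 0 (-1) 0 (-1) 0)⟩,
  ⟨(Q8.mk8 2 0 0 0 0 0 0 0), (Q8.mk8 0 0 0 0 (-2) 0 0 0), (Q8.mk8 1 (-2) 1 0 (-1) 0 1 0)⟩,
  ⟨(Q8.mk8 0 1 0 1 0 1 0 (-1)), (Q8.mk8 (-1) 1 (-1) 1 1 (-1) 1 (-1)), (Q8.mk8 2 0 0 0 0 0 0 0)⟩,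
  ⟨(Q8.mk8 2 0 0 0 0 0 0 0), (Q8.mk8 (-1) 2 (-1) 0 (-1) 0 1 0), (Q8.mk8 0 0 0 0 0 0 2 0)⟩,
  ⟨(Q8.mk8 0 1 0 (-1) 0 (-1) 0 (-1)), (Q8.mk8 1 (-1) 1 (-1) 1 (-1) 1 (-1)), (Q8.mk8 2 0 0 0 0 0 0 0)⟩,
  ⟨(Q8.mk8 (-1) 0 (-1) 2 1 0 (-1) 0), (Q8.mk8 2 0 0 0 0 0 0 0), (Q8.mk8 0 0 (-2) 0 0 0 0 0)⟩,
  ⟨(Q8.mk8 2 0 0 0 0 0 0 0), (Q8.mk8 0 0 0 0 (-2) 0 0 0), (Q8.mk8 1 0 (-1) 0 (-1) 0 (-1) 2)⟩,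
  ⟨(Q8.mk8 (-1) 0 1 0 1 (-2) 1 0), (Q8.mk8 2 0 0 0 0 0 0 0), (Q8.mk8 0 0 2 0 0 0 0 0)⟩,
  ⟨(Q8.mk8 (-1) 1 1 (-1) (-1) 1 1 (-1)), (Q8.mk8 2 0 0 0 0 0 0 0), (Q8.mk8 0 1 0 (-1) 0 1 0 1)⟩,
  ⟨(Q8.mk8 2 0 0 0 0 0 0 0), (Q8.mk8 0 0 2 0 0 0 0 0), (Q8.mk8 1 0 1 (-2) (-1) 0 1 0)⟩,
  ⟨(Q8.mk8 1 (-1) 1 (-1) 1 (-1) 1 (-1)), (Q8.mk8 2 0 0 0 0 0 0 0), (Q8.mk8 0 (-1) 0 1 0 1 0 1)⟩,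
  ⟨(Q8.mk8 2 0 0 0 0 0 0 0), (Q8.mk8 1 (-2) (-1) 0 1 0 1 0), (Q8.mk8 0 0 (-2) 0 0 0 0 0)⟩,
  ⟨(Q8.mk8 2 0 0 0 0 0 0 0), (Q8.mk8 0 0 0 0 0 0 (-2) 0), (Q8.mk8 (-1) 2 (-1) 0 (-1) 0 1 0)⟩,
  ⟨(Q8.mk8 0 (-1) 0 (-1) 0 (-1) 0 1), (Q8.mk8 2 0 0 0 0 0 0 0), (Q8.mk8 1 (-1) 1 (-1) (-1) 1 (-1) 1)⟩,
  ⟨(Q8.mk8 2 0 0 0 0 0 0 0), (Q8.mk8 (-1) 0 (-1) 0 1 (-2) (-1) 0), (Q8.mk8 0 0 0 0 0 0 (-2) 0)⟩,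
  ⟨(Q8.mk8 2 0 0 0 0 0 0 0), (Q8.mk8 1 0 1 0 1 0 (-1) 2), (Q8.mk8 0 0 2 0 0 0 0 0)⟩,
  ⟨(Q8.mk8 2 0 0 0 0 0 0 0), (Q8.mk8 2 0 0 0 0 0 0 0), (Q8.mk8 (-1) 2 1 0 1 0 1 0)⟩,
  ⟨(Q8.mk8 2 0 0 0 0 0 0 0), (Q8.mk8 0 1 0 1 0 1 0 (-1)), (Q8.mk8 (-1) 1 (-1) 1 1 (-1) 1 (-1))⟩,
  ⟨(Q8.mk8 1 (-2) (-1) 0 1 0 1 0), (Q8.mk8 2 0 0 0 0 0 0 0), (Q8.mk8 0 0 (-2) 0 0 0 0 0)⟩,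
  ⟨(Q8.mk8 2 0 0 0 0 0 0 0), (Q8.mk8 0 0 (-2) 0 0 0 0 0), (Q8.mk8 (-1) 0 (-1) 2 1 0 (-1) 0)⟩,
  ⟨(Q8.mk8 2 0 0 0 0 0 0 0), (Q8.mk8 1 (-1) (-1) 1 (-1) 1 1 (-1)), (Q8.mk8 0 (-1) 0 (-1) 0 1 0 (-1))⟩,
  ⟨(Q8.mk8 2 0 0 0 0 0 0 0), (Q8.mk8 1 (-1) 1 (-1) (-1) 1 (-1) 1), (Q8.mk8 0 (-1) 0 (-1) 0 (-1) 0 1)⟩,
  ⟨(Q8.mk8 2 0 0 0 0 0 0 0), (Q8.mk8 (-1) 0 1 0 1 0 1 (-2)), (Q8.mk8 0 0 0 0 (-2) 0 0 0)⟩,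
  ⟨(Q8.mk8 0 1 0 1 0 1 0 (-1)), (Q8.mk8 1 (-1) 1 (-1) (-1) 1 (-1) 1), (Q8.mk8 2 0 0 0 0 0 0 0)⟩,
  ⟨(Q8.mk8 (-1) 1 (-1) 1 1 (-1) 1 (-1)), (Q8.mk8 0 1 0 1 0 1 0 (-1)), (Q8.mk8 2 0 0 0 0 0 0 0)⟩,
  ⟨(Q8.mk8 (-1) 0 (-1) 0 (-1) 0 1 (-2)), (Q8.mk8 2 0 0 0 0 0 0 0), (Q8.mk8 0 0 2 0 0 0 0 0)⟩,
  ⟨(Q8.mk8 1 (-1) 1 (-1) (-1) 1 (-1) 1), (Q8.mk8 2 0 0 0 0 0 0 0), (Q8.mk8 0 1 0 1 0 1 0 (-1))⟩,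
  ⟨(Q8.mk8 0 0 0 0 0 0 0 0), (Q8.mk8 1 (-2) 1 0 1 0 1 0), (Q8.mk8 1 (-2) 1 0 1 0 1 0)⟩,
  ⟨(Q8.mk8 1 (-2) (-1) 0 1 0 1 0), (Q8.mk8 2 0 0 0 0 0 0 0), (Q8.mk8 0 0 2 0 0 0 0 0)⟩,
  ⟨(Q8.mk8 (-1) 0 1 0 (-1) 0 (-1) 2), (Q8.mk8 2 0 0 0 0 0 0 0), (Q8.mk8 0 0 0 0 0 0 (-2) 0)⟩,
  ⟨(Q8.mk8 0 (-1) 0 1 0 1 0 1), (Q8.mk8 1 (-1) 1 (-1) 1 (-1) 1 (-1)), (Q8.mk8 2 0 0 0 0 0 0 0)⟩,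
  ⟨(Q8.mk8 2 0 0 0 0 0 0 0), (Q8.mk8 0 0 2 0 0 0 0 0), (Q8.mk8 (-1) 0 (-1) 0 (-1) 0 1 (-2))⟩,
  ⟨(Q8.mk8 1 (-2) 1 0 1 0 1 0), (Q8.mk8 (-1) 2 (-1) 0 (-1) 0 (-1) 0), (Q8.mk8 0 0 0 0 0 0 0 0)⟩,
  ⟨(Q8.mk8 2 0 0 0 0 0 0 0), (Q8.mk8 0 0 (-2) 0 0 0 0 0), (Q8.mk8 1 0 1 (-2) (-1) 0 1 0)⟩,
  ⟨(Q8.mk8 1 0 (-1) 0 1 (-2) 1 0), (Q8.mk8 2 0 0 0 0 0 0 0), (Q8.mk8 (-2) 0 0 0 0 0 0 0)⟩,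
  ⟨(Q8.mk8 2 0 0 0 0 0 0 0), (Q8.mk8 0 0 0 0 0 0 2 0), (Q8.mk8 (-1) 0 (-1) 0 1 (-2) (-1) 0)⟩,
  ⟨(Q8.mk8 1 0 (-1) 0 (-1) 0 (-1) 2), (Q8.mk8 2 0 0 0 0 0 0 0), (Q8.mk8 0 0 0 0 (-2) 0 0 0)⟩,
  ⟨(Q8.mk8 (-1) 0 1 (-2) (-1) 0 (-1) 0), (Q8.mk8 2 0 0 0 0 0 0 0), (Q8.mk8 0 0 0 0 2 0 0 0)⟩,
  ⟨(Q8.mk8 1 (-2) 1 0 1 0 (-1) 0), (Q8.mk8 2 0 0 0 0 0 0 0), (Q8.mk8 0 0 0 0 0 0 2 0)⟩,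
  ⟨(Q8.mk8 2 0 0 0 0 0 0 0), (Q8.mk8 2 0 0 0 0 0 0 0), (Q8.mk8 1 0 (-1) 0 1 (-2) 1 0)⟩,
  ⟨(Q8.mk8 1 0 1 (-2) 1 0 (-1) 0), (Q8.mk8 2 0 0 0 0 0 0 0), (Q8.mk8 2 0 0 0 0 0 0 0)⟩,
  ⟨(Q8.mk8 1 (-2) 1 0 (-1) 0 1 0), (Q8.mk8 2 0 0 0 0 0 0 0), (Q8.mk8 0 0 0 0 2 0 0 0)⟩,
  ⟨(Q8.mk8 (-1) 2 1 0 1 0 1 0), (Q8.mk8 2 0 0 0 0 0 0 0), (Q8.mk8 (-2) 0 0 0 0 0 0 0)⟩,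
  ⟨(Q8.mk8 (-1) 0 1 0 1 0 1 (-2)), (Q8.mk8 2 0 0 0 0 0 0 0), (Q8.mk8 0 0 0 0 (-2) 0 0 0)⟩,
  ⟨(Q8.mk8 1 (-2) 1 0 1 0 1 0), (Q8.mk8 (-1) 0 (-1) 0 1 (-2) 1 0), (Q8.mk8 0 0 0 0 0 0 0 0)⟩,
  ⟨(Q8.mk8 1 (-2) 1 0 1 0 1 0), (Q8.mk8 0 0 0 0 0 0 0 0), (Q8.mk8 (-1) 0 (-1) 0 1 (-2) 1 0)⟩,
  ⟨(Q8.mk8 0 0 0 0 0 0 0 0), (Q8.mk8 1 (-2) 1 0 1 0 1 0), (Q8.mk8 1 0 1 0 (-1) 2 (-1) 0)⟩,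
  ⟨(Q8.mk8 2 0 0 0 0 0 0 0), (Q8.mk8 (-1) 0 1 0 (-1) 2 (-1) 0), (Q8.mk8 (-2) 0 0 0 0 0 0 0)⟩,
  ⟨(Q8.mk8 2 0 0 0 0 0 0 0), (Q8.mk8 (-2) 0 0 0 0 0 0 0), (Q8.mk8 1 0 1 (-2) 1 0 (-1) 0)⟩,
  ⟨(Q8.mk8 (-1) 0 (-1) 0 (-1) 0 1 (-2)), (Q8.mk8 2 0 0 0 0 0 0 0), (Q8.mk8 0 0 (-2) 0 0 0 0 0)⟩,
  ⟨(Q8.mk8 1 (-1) (-1) 1 (-1) 1 1 (-1)), (Q8.mk8 2 0 0 0 0 0 0 0), (Q8.mk8 0 1 0 1 0 (-1) 0 1)⟩,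
  ⟨(Q8.mk8 2 0 0 0 0 0 0 0), (Q8.mk8 0 (-1) 0 (-1) 0 1 0 (-1)), (Q8.mk8 1 (-1) (-1) 1 (-1) 1 1 (-1))⟩,
  ⟨(Q8.mk8 1 0 (-1) 0 (-1) 0 (-1) 2), (Q8.mk8 2 0 0 0 0 0 0 0), (Q8.mk8 0 0 0 0 2 0 0 0)⟩,
  ⟨(Q8.mk8 2 0 0 0 0 0 0 0), (Q8.mk8 (-2) 0 0 0 0 0 0 0), (Q8.mk8 (-1) 0 (-1) 2 (-1) 0 1 0)⟩,
  ⟨(Q8.mk8 2 0 0 0 0 0 0 0), (Q8.mk8 0 0 (-2) 0 0 0 0 0), (Q8.mk8 1 0 1 0 1 0 (-1) 2)⟩,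
  ⟨(Q8.mk8 2 0 0 0 0 0 0 0), (Q8.mk8 1 (-2) 1 0 (-1) 0 1 0), (Q8.mk8 0 0 0 0 (-2) 0 0 0)⟩,
  ⟨(Q8.mk8 1 (-2) 1 0 1 0 1 0), (Q8.mk8 1 0 1 0 (-1) 2 (-1) 0), (Q8.mk8 0 0 0 0 0 0 0 0)⟩,
  ⟨(Q8.mk8 (-1) 0 1 (-2) 1 0 1 0), (Q8.mk8 2 0 0 0 0 0 0 0), (Q8.mk8 0 0 0 0 0 0 (-2) 0)⟩,
  ⟨(Q8.mk8 1 0 1 0 (-1) 0 1 (-2)), (Q8.mk8 2 0 0 0 0 0 0 0), (Q8.mk8 2 0 0 0 0 0 0 0)⟩,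
  ⟨(Q8.mk8 2 0 0 0 0 0 0 0), (Q8.mk8 1 0 1 (-2) (-1) 0 1 0), (Q8.mk8 0 0 (-2) 0 0 0 0 0)⟩,
  ⟨(Q8.mk8 0 0 0 0 0 0 0 0), (Q8.mk8 1 (-2) 1 0 1 0 1 0), (Q8.mk8 (-1) 0 1 0 (-1) 0 1 (-2))⟩,
  ⟨(Q8.mk8 0 1 0 1 0 1 0 (-1)), (Q8.mk8 2 0 0 0 0 0 0 0), (Q8.mk8 (-1) 1 (-1) 1 1 (-1) 1 (-1))⟩,
  ⟨(Q8.mk8 0 1 0 1 0 1 0 (-1)), (Q8.mk8 2 0 0 0 0 0 0 0), (Q8.mk8 1 (-1) 1 (-1) (-1) 1 (-1) 1)⟩,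
  ⟨(Q8.mk8 2 0 0 0 0 0 0 0), (Q8.mk8 0 0 0 0 0 0 2 0), (Q8.mk8 1 (-2) 1 0 1 0 (-1) 0)⟩,
  ⟨(Q8.mk8 2 0 0 0 0 0 0 0), (Q8.mk8 1 (-1) (-1) 1 (-1) 1 1 (-1)), (Q8.mk8 0 1 0 1 0 (-1) 0 1)⟩,
  ⟨(Q8.mk8 2 0 0 0 0 0 0 0), (Q8.mk8 0 0 2 0 0 0 0 0), (Q8.mk8 1 (-2) (-1) 0 1 0 1 0)⟩,
  ⟨(Q8.mk8 2 0 0 0 0 0 0 0), (Q8.mk8 (-2) 0 0 0 0 0 0 0), (Q8.mk8 1 0 (-1) 0 1 (-2) 1 0)⟩,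
  ⟨(Q8.mk8 2 0 0 0 0 0 0 0), (Q8.mk8 0 0 0 0 (-2) 0 0 0), (Q8.mk8 1 0 1 0 1 (-2) (-1) 0)⟩,
  ⟨(Q8.mk8 2 0 0 0 0 0 0 0), (Q8.mk8 0 (-1) 0 (-1) 0 1 0 (-1)), (Q8.mk8 (-1) 1 1 (-1) 1 (-1) (-1) 1)⟩,
  ⟨(Q8.mk8 1 0 (-1) 2 (-1) 0 (-1) 0), (Q8.mk8 2 0 0 0 0 0 0 0), (Q8.mk8 0 0 0 0 0 0 (-2) 0)⟩,
  ⟨(Q8.mk8 2 0 0 0 0 0 0 0), (Q8.mk8 (-1) 1 1 (-1) (-1) 1 1 (-1)), (Q8.mk8 0 (-1) 0 1 0 (-1) 0 (-1))⟩,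
  ⟨(Q8.mk8 1 (-2) 1 0 1 0 (-1) 0), (Q8.mk8 2 0 0 0 0 0 0 0), (Q8.mk8 0 0 0 0 0 0 (-2) 0)⟩,
  ⟨(Q8.mk8 1 0 1 0 (-1) 0 1 (-2)), (Q8.mk8 2 0 0 0 0 0 0 0), (Q8.mk8 (-2) 0 0 0 0 0 0 0)⟩,
  ⟨(Q8.mk8 2 0 0 0 0 0 0 0), (Q8.mk8 0 (-1) 0 1 0 1 0 1), (Q8.mk8 1 (-1) 1 (-1) 1 (-1) 1 (-1))⟩,
  ⟨(Q8.mk8 (-1) 0 (-1) 0 1 (-2) (-1) 0), (Q8.mk8 2 0 0 0 0 0 0 0), (Q8.mk8 0 0 0 0 0 0 (-2) 0)⟩,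
  ⟨(Q8.mk8 2 0 0 0 0 0 0 0), (Q8.mk8 0 0 0 0 2 0 0 0), (Q8.mk8 1 0 (-1) 0 (-1) 0 (-1) 2)⟩,
  ⟨(Q8.mk8 2 0 0 0 0 0 0 0), (Q8.mk8 0 (-1) 0 (-1) 0 (-1) 0 1), (Q8.mk8 (-1) 1 (-1) 1 1 (-1) 1 (-1))⟩,
  ⟨(Q8.mk8 2 0 0 0 0 0 0 0), (Q8.mk8 1 0 1 (-2) 1 0 (-1) 0), (Q8.mk8 (-2) 0 0 0 0 0 0 0)⟩,
  ⟨(Q8.mk8 1 0 1 (-2) (-1) 0 1 0), (Q8.mk8 2 0 0 0 0 0 0 0), (Q8.mk8 0 0 (-2) 0 0 0 0 0)⟩,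
  ⟨(Q8.mk8 1 0 (-1) 0 1 (-2) 1 0), (Q8.mk8 2 0 0 0 0 0 0 0), (Q8.mk8 2 0 0 0 0 0 0 0)⟩,
  ⟨(Q8.mk8 0 1 0 (-1) 0 (-1) 0 (-1)), (Q8.mk8 2 0 0 0 0 0 0 0), (Q8.mk8 1 (-1) 1 (-1) 1 (-1) 1 (-1))⟩,
  ⟨(Q8.mk8 (-1) 2 (-1) 0 (-1) 0 1 0), (Q8.mk8 2 0 0 0 0 0 0 0), (Q8.mk8 0 0 0 0 0 0 (-2) 0)⟩,
  ⟨(Q8.mk8 2 0 0 0 0 0 0 0), (Q8.mk8 0 (-1) 0 1 0 (-1) 0 (-1)), (Q8.mk8 (-1) 1 1 (-1) (-1) 1 1 (-1))⟩,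
  ⟨(Q8.mk8 2 0 0 0 0 0 0 0), (Q8.mk8 (-1) 0 1 0 (-1) 2 (-1) 0), (Q8.mk8 2 0 0 0 0 0 0 0)⟩,
  ⟨(Q8.mk8 (-1) 0 (-1) 0 (-1) 2 1 0), (Q8.mk8 2 0 0 0 0 0 0 0), (Q8.mk8 0 0 0 0 2 0 0 0)⟩,
  ⟨(Q8.mk8 2 0 0 0 0 0 0 0), (Q8.mk8 (-1) 1 (-1) 1 (-1) 1 (-1) 1), (Q8.mk8 0 1 0 (-1) 0 (-1) 0 (-1))⟩,
  ⟨(Q8.mk8 2 0 0 0 0 0 0 0), (Q8.mk8 0 1 0 1 0 1 0 (-1)), (Q8.mk8 1 (-1) 1 (-1) (-1) 1 (-1) 1)⟩,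
  ⟨(Q8.mk8 2 0 0 0 0 0 0 0), (Q8.mk8 1 0 (-1) 0 (-1) 2 (-1) 0), (Q8.mk8 0 0 (-2) 0 0 0 0 0)⟩,
  ⟨(Q8.mk8 (-1) 0 1 0 (-1) 2 (-1) 0), (Q8.mk8 2 0 0 0 0 0 0 0), (Q8.mk8 (-2) 0 0 0 0 0 0 0)⟩,
  ⟨(Q8.mk8 2 0 0 0 0 0 0 0), (Q8.mk8 1 0 (-1) 2 (-1) 0 (-1) 0), (Q8.mk8 0 0 0 0 0 0 (-2) 0)⟩,
  ⟨(Q8.mk8 0 (-1) 0 (-1) 0 (-1) 0 1), (Q8.mk8 1 (-1) 1 (-1) (-1) 1 (-1) 1), (Q8.mk8 2 0 0 0 0 0 0 0)⟩,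
  ⟨(Q8.mk8 1 (-2) 1 0 1 0 1 0), (Q8.mk8 0 0 0 0 0 0 0 0), (Q8.mk8 (-1) 0 1 (-2) 1 0 (-1) 0)⟩,
  ⟨(Q8.mk8 2 0 0 0 0 0 0 0), (Q8.mk8 0 1 0 (-1) 0 (-1) 0 (-1)), (Q8.mk8 1 (-1) 1 (-1) 1 (-1) 1 (-1))⟩,
  ⟨(Q8.mk8 2 0 0 0 0 0 0 0), (Q8.mk8 1 (-1) 1 (-1) 1 (-1) 1 (-1)), (Q8.mk8 0 (-1) 0 1 0 1 0 1)⟩,
  ⟨(Q8.mk8 2 0 0 0 0 0 0 0), (Q8.mk8 0 0 0 0 0 0 2 0), (Q8.mk8 (-1) 0 1 (-2) 1 0 1 0)⟩,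
  ⟨(Q8.mk8 2 0 0 0 0 0 0 0), (Q8.mk8 (-2) 0 0 0 0 0 0 0), (Q8.mk8 1 0 1 0 (-1) 0 1 (-2))⟩,
  ⟨(Q8.mk8 2 0 0 0 0 0 0 0), (Q8.mk8 0 0 0 0 (-2) 0 0 0), (Q8.mk8 (-1) 0 1 0 1 0 1 (-2))⟩,
  ⟨(Q8.mk8 2 0 0 0 0 0 0 0), (Q8.mk8 (-1) 1 (-1) 1 (-1) 1 (-1) 1), (Q8.mk8 0 (-1) 0 1 0 1 0 1)⟩,
  ⟨(Q8.mk8 1 (-2) 1 0 1 0 1 0), (Q8.mk8 1 0 (-1) 2 (-1) 0 1 0), (Q8.mk8 0 0 0 0 0 0 0 0)⟩,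
  ⟨(Q8.mk8 2 0 0 0 0 0 0 0), (Q8.mk8 0 0 0 0 0 0 (-2) 0), (Q8.mk8 (-1) 0 1 0 (-1) 0 (-1) 2)⟩,
  ⟨(Q8.mk8 1 0 1 (-2) 1 0 (-1) 0), (Q8.mk8 2 0 0 0 0 0 0 0), (Q8.mk8 (-2) 0 0 0 0 0 0 0)⟩,
  ⟨(Q8.mk8 2 0 0 0 0 0 0 0), (Q8.mk8 (-1) 1 1 (-1) 1 (-1) (-1) 1), (Q8.mk8 0 1 0 1 0 (-1) 0 1)⟩,
  ⟨(Q8.mk8 2 0 0 0 0 0 0 0), (Q8.mk8 (-1) 0 (-1) 0 (-1) 0 1 (-2)), (Q8.mk8 0 0 2 0 0 0 0 0)⟩,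
  ⟨(Q8.mk8 1 (-2) (-1) 0 (-1) 0 (-1) 0), (Q8.mk8 2 0 0 0 0 0 0 0), (Q8.mk8 (-2) 0 0 0 0 0 0 0)⟩,
  ⟨(Q8.mk8 2 0 0 0 0 0 0 0), (Q8.mk8 0 0 2 0 0 0 0 0), (Q8.mk8 (-1) 2 1 0 (-1) 0 (-1) 0)⟩,
  ⟨(Q8.mk8 2 0 0 0 0 0 0 0), (Q8.mk8 0 0 0 0 2 0 0 0), (Q8.mk8 (-1) 0 1 (-2) (-1) 0 (-1) 0)⟩,
  ⟨(Q8.mk8 (-1) 0 1 0 1 0 1 (-2)), (Q8.mk8 2 0 0 0 0 0 0 0), (Q8.mk8 0 0 0 0 2 0 0 0)⟩,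
  ⟨(Q8.mk8 2 0 0 0 0 0 0 0), (Q8.mk8 0 0 0 0 2 0 0 0), (Q8.mk8 1 0 (-1) 2 1 0 1 0)⟩,
  ⟨(Q8.mk8 2 0 0 0 0 0 0 0), (Q8.mk8 (-1) 0 (-1) 2 1 0 (-1) 0), (Q8.mk8 0 0 (-2) 0 0 0 0 0)⟩,
  ⟨(Q8.mk8 2 0 0 0 0 0 0 0), (Q8.mk8 (-1) 0 1 (-2) (-1) 0 (-1) 0), (Q8.mk8 0 0 0 0 (-2) 0 0 0)⟩,
  ⟨(Q8.mk8 0 1 0 (-1) 0 1 0 1), (Q8.mk8 1 (-1) (-1) 1 1 (-1) (-1) 1), (Q8.mk8 2 0 0 0 0 0 0 0)⟩,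
  ⟨(Q8.mk8 1 0 1 0 (-1) 2 1 0), (Q8.mk8 2 0 0 0 0 0 0 0), (Q8.mk8 0 0 0 0 0 0 (-2) 0)⟩,
  ⟨(Q8.mk8 2 0 0 0 0 0 0 0), (Q8.mk8 (-1) 0 (-1) 0 1 (-2) (-1) 0), (Q8.mk8 0 0 0 0 0 0 2 0)⟩,
  ⟨(Q8.mk8 2 0 0 0 0 0 0 0), (Q8.mk8 1 0 1 0 (-1) 0 1 (-2)), (Q8.mk8 (-2) 0 0 0 0 0 0 0)⟩,
  ⟨(Q8.mk8 2 0 0 0 0 0 0 0), (Q8.mk8 0 (-1) 0 (-1) 0 (-1) 0 1), (Q8.mk8 1 (-1) 1 (-1) (-1) 1 (-1) 1)⟩,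
  ⟨(Q8.mk8 1 0 1 0 1 (-2) (-1) 0), (Q8.mk8 2 0 0 0 0 0 0 0), (Q8.mk8 0 0 0 0 2 0 0 0)⟩,
  ⟨(Q8.mk8 1 0 (-1) 0 (-1) 2 (-1) 0), (Q8.mk8 2 0 0 0 0 0 0 0), (Q8.mk8 0 0 2 0 0 0 0 0)⟩]

/-- (parent, generator, scalar) -/
def lineCert : List (ℕ × ℕ × ℕ) :=
 [(0, 0, 0),
  (0, 0, 99),
  (0, 1, 56),
  (0, 2, 0),
  (0, 3, 0),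
  (1, 1, 111),
  (1, 2, 60),
  (1, 3, 1),
  (2, 0, 38),
  (2, 3, 69),
  (3, 0, 105),
  (3, 1, 12),
  (4, 0, 50),
  (4, 1, 75),
  (4, 2, 114),
  (5, 0, 50),
  (5, 2, 106),
  (6, 0, 96),
  (6, 1, 72),
  (6, 3, 45),
  (7, 0, 23),
  (7, 2, 26),
  (8, 1, 48),
  (8, 3, 20),
  (9, 0, 79),
  (9, 1, 99),
  (9, 2, 60),
  (10, 1, 36),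
  (10, 2, 85),
  (10, 3, 76),
  (11, 0, 117),
  (12, 1, 91),
  (12, 2, 1),
  (12, 3, 113),
  (13, 2, 2),
  (13, 3, 88),
  (14, 0, 50),
  (14, 1, 67),
  (14, 3, 112),
  (15, 1, 35),
  (15, 2, 101),
  (15, 3, 70),
  (16, 0, 79),
  (16, 1, 115),
  (16, 3, 109),
  (17, 1, 110),
  (17, 2, 47),
  (17, 3, 119),
  (18, 0, 20),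
  (19, 2, 61),
  (20, 2, 113),
  (20, 3, 1),
  (21, 0, 105),
  (21, 1, 86),
  (21, 3, 101),
  (22, 0, 29),
  (23, 0, 39),
  (23, 1, 63),
  (23, 2, 23),
  (24, 1, 41),
  (24, 2, 14),
  (24, 3, 77),
  (25, 0, 79),
  (25, 2, 104),
  (25, 3, 74),
  (26, 0, 0),
  (26, 1, 0),
  (27, 3, 12),
  (28, 1, 94),
  (28, 3, 22),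
  (29, 0, 84),
  (29, 1, 74),
  (31, 2, 81),
  (31, 3, 25),
  (33, 0, 99),
  (33, 1, 62),
  (33, 2, 107),
  (34, 0, 118),
  (34, 1, 71),
  (34, 3, 106),
  (35, 0, 105),
  (35, 2, 66),
  (36, 1, 32),
  (36, 2, 108),
  (36, 3, 28),
  (37, 0, 6),
  (37, 3, 80),
  (38, 1, 92),
  (38, 2, 18),
  (39, 2, 77),
  (40, 0, 107),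
  (40, 1, 54),
  (40, 3, 69),
  (41, 0, 19),
  (41, 2, 69),
  (42, 2, 13),
  (43, 3, 103),
  (44, 0, 38),
  (44, 2, 69),
  (45, 0, 77),
  (45, 2, 72),
  (45, 3, 82),
  (46, 1, 74),
  (46, 3, 48),
  (47, 0, 85),
  (47, 1, 58),
  (47, 2, 80),
  (48, 1, 14),
  (48, 2, 9),
  (48, 3, 91),
  (49, 0, 79),
  (49, 1, 13),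
  (49, 3, 93),
  (50, 0, 60),
  (50, 1, 26),
  (51, 0, 36),
  (51, 1, 41),
  (51, 2, 23),
  (52, 1, 0),
  (52, 2, 60),
  (52, 3, 24),
  (53, 0, 106),
  (53, 3, 91),
  (54, 1, 13),
  (54, 2, 45),
  (55, 3, 5),
  (56, 1, 21),
  (56, 2, 14),
  (56, 3, 10),
  (57, 0, 77),
  (57, 2, 69),
  (58, 0, 0),
  (58, 1, 92),
  (60, 0, 39),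
  (60, 1, 9),
  (60, 3, 28),
  (61, 0, 84),
  (61, 1, 56),
  (63, 0, 19),
  (63, 1, 4),
  (64, 2, 33),
  (65, 2, 85),
  (65, 3, 11),
  (66, 3, 88),
  (67, 2, 57),
  (68, 3, 57),
  (69, 1, 26),
  (70, 1, 23),
  (70, 3, 92),
  (71, 0, 84),
  (71, 3, 22),
  (73, 1, 0),
  (74, 1, 70),
  (74, 2, 72),
  (75, 0, 104),
  (75, 3, 38),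
  (76, 0, 11),
  (76, 1, 8),
  (76, 3, 86),
  (77, 2, 39),
  (78, 0, 16),
  (78, 3, 93),
  (79, 0, 84),
  (80, 1, 75),
  (80, 2, 48),
  (81, 1, 111),
  (82, 2, 104),
  (84, 0, 104),
  (84, 1, 106),
  (84, 2, 60),
  (85, 2, 48),
  (86, 0, 23),
  (86, 1, 76),
  (87, 0, 84),
  (87, 2, 21),
  (87, 3, 78),
  (89, 1, 11),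
  (89, 3, 20),
  (90, 2, 71),
  (91, 3, 1),
  (92, 0, 99),
  (92, 1, 93),
  (93, 2, 12),
  (93, 3, 17),
  (94, 0, 37),
  (94, 1, 13),
  (95, 1, 48),
  (95, 3, 112),
  (96, 0, 15),
  (96, 2, 36),
  (97, 1, 53),
  (97, 3, 63),
  (98, 0, 51),
  (99, 1, 8),
  (99, 3, 47),
  (100, 1, 79),
  (101, 2, 26),
  (102, 3, 21),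
  (103, 0, 37),
  (104, 3, 35),
  (105, 2, 72),
  (107, 0, 79),
  (107, 2, 61),
  (108, 1, 74),
  (109, 2, 21),
  (110, 1, 114),
  (111, 0, 51),
  (111, 3, 1),
  (112, 0, 107),
  (112, 1, 117),
  (113, 2, 43),
  (114, 3, 96),
  (115, 1, 28),
  (116, 0, 104),
  (116, 2, 66),
  (116, 3, 77),
  (117, 0, 37),
  (117, 1, 15),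
  (118, 0, 3),
  (118, 2, 43),
  (119, 1, 49),
  (119, 3, 93),
  (122, 0, 20),
  (123, 0, 50),
  (123, 2, 82),
  (123, 3, 3),
  (125, 0, 50),
  (125, 1, 63),
  (127, 0, 76),
  (128, 0, 9),
  (128, 1, 46),
  (128, 2, 46),
  (130, 1, 89),
  (132, 3, 17),
  (133, 2, 115),
  (134, 3, 27),
  (136, 1, 94),
  (136, 2, 90),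
  (137, 0, 0),
  (138, 1, 75),
  (140, 1, 12),
  (140, 3, 80),
  (142, 1, 28),
  (143, 2, 96),
  (144, 3, 116),
  (145, 1, 19),
  (145, 2, 84),
  (146, 3, 9),
  (147, 0, 32),
  (148, 1, 88),
  (149, 1, 106),
  (151, 3, 94),
  (152, 0, 85),
  (153, 0, 99),
  (154, 3, 81),
  (156, 2, 9),
  (156, 3, 66),
  (162, 1, 26),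
  (162, 3, 119),
  (163, 0, 41),
  (164, 1, 35),
  (164, 3, 104),
  (166, 3, 36),
  (168, 0, 16),
  (168, 2, 79),
  (168, 3, 35),
  (169, 1, 30),
  (171, 2, 84),
  (171, 3, 51),
  (172, 0, 52),
  (175, 0, 116),
  (176, 0, 16),
  (177, 0, 52),
  (177, 1, 27),
  (179, 1, 62),
  (181, 2, 115),
  (182, 3, 86),
  (188, 1, 63),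
  (189, 0, 55),
  (190, 0, 52),
  (192, 3, 29),
  (193, 0, 19),
  (196, 3, 61),
  (199, 1, 14),
  (199, 2, 31),
  (201, 3, 17),
  (205, 2, 79),
  (206, 3, 39),
  (207, 0, 88),
  (208, 1, 30),
  (209, 0, 79),
  (215, 2, 83),
  (216, 1, 76),
  (216, 3, 37),
  (219, 1, 30),
  (222, 2, 83),
  (223, 2, 39),
  (223, 3, 85),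
  (224, 3, 28),
  (229, 1, 28),
  (229, 2, 79),
  (240, 0, 7),
  (248, 1, 72),
  (254, 0, 60),
  (255, 1, 14),
  (258, 1, 59),
  (259, 1, 49),
  (260, 3, 84),
  (263, 1, 3),
  (264, 0, 52),
  (267, 0, 71),
  (267, 1, 17),
  (275, 3, 41),
  (280, 0, 33),
  (283, 0, 50)]

end J2
end H96
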