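import Cfsg.Agent.H37.SmallIso

/-! A computable field with twenty five elements. -/

set_option autoImplicit false

namespace H96

/-- a computable field with twenty five elements -/
abbrev K25 : Type := QuadraticAlgebra (ZMod 5) 2 0

theorem K25_anisotropic : ∀ r : ZMod 5, r ^ 2 ≠ (2 : ZMod 5) + 0 * r := by decide

instance k25Fact : Fact (∀ r : ZMod 5, r ^ 2 ≠ (2 : ZMod 5) + 0 * r) := ⟨K25_anisotropic⟩

/-- pairs -/
def k25Equiv : K25 ≃ ZMod 5 × ZMod 5 := QuadraticAlgebra.equivProd _ _

instance k25Fintype : Fintype K25 := Fintype.ofEquiv _ k25Equiv.symm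

theorem card_K25 : Fintype.card K25 = 5 ^ 2 := by decide

end H96
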