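import Cfsg.Agent.H95.Orbits
import Cfsg.Agent.H95.Unique
import Cfsg.Agent.H90.Group

/-!
The Leech lattice modulo twice itself: small vectors in a class, a square root of `-1` in `Co0`,
a totally singular subspace of dimension 12.
-/

set_option autoImplicit false

namespace H96
namespace Lam

open Cfsg Finset H95

theorem congr_cases {v w : GolayPt → ℤ} (hv : v ∈ leechLattice) (hw : w ∈ leechLattice)
    (hvn : sqNorm v ≤ 64) (hwn : sqNorm w ≤ 64) (hc : ∃ z ∈ leechLattice, v - w = 2 • z) :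
    v = w ∨ v = -w ∨ (sqNorm v = 64 ∧ sqNorm w = 64 ∧ dotInt v w = 0) := by
  by_cases h1 : v = w
  · exact Or.inl h1
  by_cases h2 : v = -w
  · exact Or.inr (Or.inl h2)
  rw [sqNorm_eq_dot] at hvn hwn
  obtain ⟨a, b, c⟩ := leechLike.congr_small (x := ⟨v, hv⟩) (y := ⟨w, hw⟩) hvn hwn
    (mem_twice_leech.mpr hc) (fun h => h1 (congrArg Subtype.val h))
    (fun h => h2 (congrArg Subtype.val h))
  exact Or.inr (Or.inr ⟨by rw [sqNorm_eq_dot]; exact a, by rw [sqNorm_eq_dot]; exact b, c⟩)

theorem transitive_64 {v w : leechLattice} (hv : ldot v v = 64) (hw : ldot w w = 64) :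
    ∃ g : Co0, g • v = w := by
  obtain ⟨g, hg⟩ := to_eight golayUnique hv
  obtain ⟨g', hg'⟩ := to_eight golayUnique hw
  exact ⟨g'⁻¹ * g, by rw [mul_smul, hg, ← hg', inv_smul_smul]⟩

/-- a dodecad exchanged with its complement by `x ↦ -1/x` -/
def halfSet : Finset GolayPt := H90.setOf' (2 ^ 0 + 2 ^ 1 + 2 ^ 2 + 2 ^ 3 + 2 ^ 4 + 2 ^ 6 + 2 ^ 8 +
  2 ^ 9 + 2 ^ 12 + 2 ^ 13 + 2 ^ 16 + 2 ^ 18)

theorem halfSet_mem : halfSet ∈ supports (golayCode : Set (GolayPt → ZMod 2)) := by
  refine H90.mem_supports_iff.mpr ⟨(2 ^ 0 + 2 ^ 1 + 2 ^ 2 + 2 ^ 3 + 2 ^ 4 + 2 ^ 6 + 2 ^ 8 +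
    2 ^ 9 + 2 ^ 12 + 2 ^ 13 + 2 ^ 16 + 2 ^ 18) % 4096, Nat.mod_lt _ (by norm_num), ?_⟩
  show H90.setOf' _ = _
  congr 1

theorem halfSet_swap : ∀ i : GolayPt, (projInv.symm i ∈ halfSet ↔ i ∉ halfSet) ∧
    projInv.symm (projInv.symm i) = i := by
  decide +kernel

theorem exists_sqrt_neg : ∃ g : Co0, ∀ v : leechLattice, g • g • v = -v := by
  refine ⟨mono projInv halfSet H90.projInv_mem halfSet_mem, fun v => Subtype.ext ?_⟩
  rw [mono_smul, mono_smul]
  funext i
  obtain ⟨h1, h2⟩ := halfSet_swap i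
  simp only [signedPerm, AddSubgroup.coe_neg, Pi.neg_apply]
  by_cases hi : i ∈ halfSet
  · rw [if_pos hi, if_neg (fun h => h1.mp h hi), h2]
  · rw [if_neg hi, if_pos (h1.mpr hi), h2]

theorem negOne_not_split (n : Co0) (hn : ∀ v : leechLattice,
    ((n • v : leechLattice) : GolayPt → ℤ) = -(v : GolayPt → ℤ)) (K : Subgroup Co0) :
    ¬ (Subgroup.zpowers n).IsComplement' K := by
  intro hK
  have hn1 : n = negOne := co0_ext fun v => Subtype.ext (hn v)
  subst hn1
  obtain ⟨g, hg⟩ := exists_sqrt_neg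
  have hg2 : g * g = negOne := co0_ext fun v => by rw [mul_smul, hg, negOne_smul]
  have hN2 : negOne * negOne = 1 :=
    co0_ext fun v => by rw [mul_smul, negOne_smul, negOne_smul, neg_neg, one_smul]
  obtain ⟨⟨⟨a, ha⟩, ⟨k, hk⟩⟩, hak⟩ := (hK.surjective : Function.Surjective _) g
  obtain ⟨m, rfl⟩ := Subgroup.mem_zpowers_iff.mp ha
  have hc : Commute k (negOne ^ m) :=
    Commute.zpow_right (show Commute k negOne from Subgroup.mem_center_iff.mp negOne_mem_center k) m
  have hsq : negOne ^ m * negOne ^ m = 1 := by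
    rw [← zpow_add, ← two_mul, zpow_mul, zpow_ofNat, sq, hN2, one_zpow]
  have e : negOne = k * k := by
    rw [← hg2, ← hak]
    show negOne ^ m * k * (negOne ^ m * k) = k * k
    rw [mul_assoc, ← mul_assoc k, hc.eq, mul_assoc, ← mul_assoc (negOne ^ m), hsq, one_mul]
  have hmem : negOne ∈ Subgroup.zpowers negOne ⊓ K :=
    ⟨Subgroup.mem_zpowers _, e ▸ K.mul_mem hk hk⟩
  rw [disjoint_iff.mp hK.disjoint, Subgroup.mem_bot] at hmem
  exact negOne_ne_one hmem

/-! ### A totally singular subspace -/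

/-- even vectors with all coordinates congruent modulo 4 -/
def singular : AddSubgroup (GolayPt → ℤ) where
  carrier := {x | x ∈ leechLattice ∧ 2 ∣ x none ∧ ∀ i, 4 ∣ x i - x none}
  zero_mem' := ⟨zero_mem _, by simp, by simp⟩
  add_mem' := by
    rintro x y ⟨a, b, c⟩ ⟨d, e, f⟩
    refine ⟨add_mem a d, by simp only [Pi.add_apply]; omega, fun i => ?_⟩
    have := c i; have := f i
    simp only [Pi.add_apply]; omega
  neg_mem' := by
    rintro x ⟨a, b, c⟩
    refine ⟨neg_mem a, by simp only [Pi.neg_apply]; omega, fun i => ?_⟩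
    have := c i
    simp only [Pi.neg_apply]; omega

theorem singular_le : singular ≤ leechLattice := fun _ h => h.1

theorem twice_mem_singular {v : GolayPt → ℤ} (hv : v ∈ leechLattice) : (2 : ℤ) • v ∈ singular := by
  refine ⟨zsmul_mem hv 2, by simp, fun i => ?_⟩
  have := parity_leech hv i none
  simp only [Pi.smul_apply, smul_eq_mul]; omega

theorem singular_norm {v : GolayPt → ℤ} (hv : v ∈ singular) : (32 : ℤ) ∣ sqNorm v := by
  obtain ⟨hL, h2, h4⟩ := hv
  obtain ⟨m, hp, hs, -⟩ := mem_leech.mp hL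
  obtain ⟨c, hc⟩ : ∃ c, v none = 2 * c := h2
  choose t ht using h4
  have hv' : ∀ i, v i = 2 * c + 4 * t i := fun i => by have := ht i; omega
  have hsq : sqNorm v = 96 * c ^ 2 + 16 * c * (∑ i, t i) + 16 * ∑ i, t i ^ 2 := by
    unfold sqNorm
    rw [sum_congr rfl fun i _ => show v i ^ 2 = 4 * c ^ 2 + 16 * c * t i + 16 * t i ^ 2 by
      rw [hv' i]; ring, sum_add_distrib, sum_add_distrib, sum_const, card_univ, ← mul_sum, ← mul_sum,
      show Fintype.card GolayPt = 24 from rfl]
    ring
  have hsum : ∑ i, v i = 48 * c + 4 * ∑ i, t i := by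
    rw [sum_congr rfl fun i _ => hv' i, sum_add_distrib, sum_const, card_univ, ← mul_sum,
      show Fintype.card GolayPt = 24 from rfl]
    ring
  have hm : 2 ∣ m := by have := hp none; omega
  have he : 2 ∣ ∑ i, t i := by omega
  have he2 := two_dvd_sum_sq_sub t
  obtain ⟨k, hk⟩ := he
  have : 2 ∣ ∑ i, t i ^ 2 := by omega
  obtain ⟨l, hl⟩ := this
  rw [hsq, hk, hl]
  exact ⟨3 * c ^ 2 + c * k + l, by ring⟩

/-- parity and word of a lattice vector -/
theorem index_singular : (singular.addSubgroupOf leechLattice).index = 2 ^ 12 := by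
  classical
  -- the even sublattice
  let par : leechLattice →+ ZMod 2 :=
    AddMonoidHom.mk' (fun x => ((x : GolayPt → ℤ) none : ZMod 2)) (fun x y => by simp)
  have par_surj : Function.Surjective par := by
    intro a
    rcases zmod2_cases a with rfl | rfl
    · exact ⟨0, map_zero par⟩
    · exact ⟨⟨oddVec, oddVec_mem⟩, show (((-3 : ℤ)) : ZMod 2) = 1 by decide⟩
  have hker : ∀ x : leechLattice, x ∈ par.ker → 2 ∣ (x : GolayPt → ℤ) none := fun x hx =>
    (ZMod.intCast_zmod_eq_zero_iff_dvd _ 2).mp hx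
  -- the word, modulo constants
  let one2 : Submodule (ZMod 2) (GolayPt → ZMod 2) := Submodule.span (ZMod 2) {1}
  let wd : par.ker → (GolayPt → ZMod 2) := fun x i =>
    ((((x : leechLattice) : GolayPt → ℤ) i - ((x : leechLattice) : GolayPt → ℤ) none) / 2 : ℤ)
  have wd_none : ∀ x, wd x none = 0 := fun x => by simp [wd]
  have hdiv : ∀ (x : par.ker) i, 2 ∣ ((x : leechLattice) : GolayPt → ℤ) i -
      ((x : leechLattice) : GolayPt → ℤ) none := fun x i => parity_leech (x : leechLattice).2 i none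
  have wd_code : ∀ x, wd x ∈ golayCode := by
    intro x
    obtain ⟨m, hp, -, hw⟩ := mem_leech.mp (x : leechLattice).2
    have : wd x = word m ((x : leechLattice) : GolayPt → ℤ) +
        fun _ => word m ((x : leechLattice) : GolayPt → ℤ) none := by
      funext i
      obtain ⟨a, ha⟩ := hp i
      obtain ⟨b, hb⟩ := hp none
      rw [Pi.add_apply, word_eq (q := a) (by omega), word_eq (q := b) (by omega)]
      simp only [wd]
      rw [show (((x : leechLattice) : GolayPt → ℤ) i - ((x : leechLattice) : GolayPt → ℤ) none) / 2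
        = a - b by omega, Int.cast_sub, CharTwo.sub_eq_add]
    rw [this]
    exact add_mem hw (const_mem_code _)
  let sub0 : Submodule (ZMod 2) (GolayPt → ZMod 2) :=
    golayCode ⊓ LinearMap.ker (LinearMap.proj none)
  let wdHom : par.ker →+ sub0 := AddMonoidHom.mk' (fun x => ⟨wd x, wd_code x, wd_none x⟩) (by
    intro x y
    refine Subtype.ext (funext fun i => ?_)
    obtain ⟨a, ha⟩ := hdiv x i
    obtain ⟨b, hb⟩ := hdiv y i
    simp only [wd, AddSubgroup.coe_add, Submodule.coe_add, Pi.add_apply]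
    rw [ha, hb, Int.mul_ediv_cancel_left a (by norm_num), Int.mul_ediv_cancel_left b (by norm_num),
      show ((x : leechLattice) : GolayPt → ℤ) i + ((y : leechLattice) : GolayPt → ℤ) i -
        (((x : leechLattice) : GolayPt → ℤ) none + ((y : leechLattice) : GolayPt → ℤ) none)
        = 2 * (a + b) by omega, Int.mul_ediv_cancel_left _ (by norm_num), Int.cast_add])
  have wd_surj : Function.Surjective wdHom := by
    rintro ⟨a, ha, ha0⟩
    have ha0' : a none = 0 := ha0
    let z : GolayPt → ℤ := fun i => 2 * ((a i).val : ℤ)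
    have hz : z ∈ leechLattice := by
      refine mem_of_form (z := 0) (m := 0) ha (fun i => by simp [z]) ?_
      have := golayOK.four_dvd ha
      rw [show ∑ i, z i = 2 * (hammingNorm a : ℤ) by simp only [z, ← mul_sum, sum_val]]
      omega
    have hzk : (⟨z, hz⟩ : leechLattice) ∈ par.ker := by
      show ((z none : ℤ) : ZMod 2) = 0
      simp [z, ha0']
    refine ⟨⟨⟨z, hz⟩, hzk⟩, Subtype.ext (funext fun i => ?_)⟩
    show ((((z i - z none) / 2 : ℤ)) : ZMod 2) = a i
    simp [z, ha0']
  have hle : singular.addSubgroupOf leechLattice ≤ par.ker := fun x hx =>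
    (ZMod.intCast_zmod_eq_zero_iff_dvd _ 2).mpr hx.2.1
  have hk : (singular.addSubgroupOf leechLattice).addSubgroupOf par.ker = wdHom.ker := by
    ext x
    constructor
    · intro hx
      refine Subtype.ext (funext fun i => ?_)
      obtain ⟨k, hk⟩ := hx.2.2 i
      show (((((x : leechLattice) : GolayPt → ℤ) i -
        ((x : leechLattice) : GolayPt → ℤ) none) / 2 : ℤ) : ZMod 2) = 0
      refine (ZMod.intCast_zmod_eq_zero_iff_dvd _ 2).mpr ?_
      rw [show ((x : leechLattice) : GolayPt → ℤ) i - ((x : leechLattice) : GolayPt → ℤ) none = 4 * k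
        from hk]
      omega
    · intro hx
      refine ⟨(x : leechLattice).2, hker _ x.2, fun i => ?_⟩
      have h := congrFun (congrArg Subtype.val hx) i
      have h2 : ((2 : ℕ) : ℤ) ∣ (((x : leechLattice) : GolayPt → ℤ) i -
          ((x : leechLattice) : GolayPt → ℤ) none) / 2 :=
        (ZMod.intCast_zmod_eq_zero_iff_dvd _ 2).mp h
      have := hdiv x i
      show 4 ∣ ((x : leechLattice) : GolayPt → ℤ) i - ((x : leechLattice) : GolayPt → ℤ) none
      omega
  have card_sub0 : Nat.card sub0 = 2 ^ 11 := by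
    let f : golayCode →+ ZMod 2 :=
      AddMonoidHom.mk' (fun a => (a : GolayPt → ZMod 2) none) (fun a b => rfl)
    have hf : Function.Surjective f := by
      intro b
      exact ⟨⟨fun _ => b, const_mem_code b⟩, rfl⟩
    have h1 := f.ker.card_mul_index
    rw [AddSubgroup.index_ker, AddMonoidHom.range_eq_top.mpr hf, AddSubgroup.card_top, Nat.card_zmod,
      golayOK.card_code] at h1
    have h2 : Nat.card sub0 = Nat.card f.ker := Nat.card_congr
      { toFun := fun a => ⟨⟨a.1, a.2.1⟩, a.2.2⟩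
        invFun := fun a => ⟨a.1.1, a.1.2, a.2⟩
        left_inv := fun _ => rfl
        right_inv := fun _ => rfl }
    omega
  rw [← AddSubgroup.relIndex_mul_index hle, AddSubgroup.relIndex, hk, AddSubgroup.index_ker,
    AddMonoidHom.range_eq_top.mpr wd_surj, AddSubgroup.card_top, card_sub0, AddSubgroup.index_ker,
    AddMonoidHom.range_eq_top.mpr par_surj, AddSubgroup.card_top, Nat.card_zmod]
  norm_num

end Lam
end H96
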