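import Cfsg.Agent.H92.Orbit

/-! Certificate: the two point stabiliser of `M24` on the octads avoiding both points. -/

set_option autoImplicit false

namespace H96

/-- permutations fixing positions 23 and 0 -/
def outOctGens : List ℕ := [
    978952898200990581702570994848488032, 976788691531687226168340721061535072]

/-- first octad -/
def outOctSeed : ℕ := 4845570

/-- orbit certificate -/
def outOctCert : List (ℕ × ℕ) := [
    (0, 0), (0, 1), (1, 0), (1, 1), (2, 0), (2, 1), (3, 0), (3, 1),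
    (4, 0), (4, 1), (5, 0), (5, 1), (6, 0), (7, 0), (7, 1), (8, 0),
    (8, 1), (9, 0), (9, 1), (10, 0), (10, 1), (11, 0), (11, 1), (12, 0),
    (12, 1), (13, 1), (14, 0), (14, 1), (15, 0), (16, 0), (16, 1), (17, 0),
    (17, 1), (18, 0), (18, 1), (19, 0), (19, 1), (20, 0), (20, 1), (22, 0),
    (22, 1), (23, 0), (23, 1), (24, 0), (24, 1), (25, 0), (25, 1), (26, 0),
    (26, 1), (27, 0), (27, 1), (28, 0), (28, 1), (29, 0), (30, 0), (30, 1),
    (31, 0), (31, 1), (32, 1), (33, 0), (33, 1), (34, 0), (34, 1), (35, 0),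
    (35, 1), (36, 0), (36, 1), (37, 1), (38, 1), (39, 1), (40, 0), (41, 0),
    (41, 1), (42, 1), (43, 0), (43, 1), (44, 0), (44, 1), (45, 0), (45, 1),
    (46, 0), (46, 1), (47, 0), (47, 1), (48, 0), (49, 0), (49, 1), (50, 1),
    (51, 0), (51, 1), (52, 0), (52, 1), (53, 0), (54, 0), (54, 1), (55, 0),
    (55, 1), (56, 0), (56, 1), (57, 0), (57, 1), (58, 0), (59, 0), (59, 1),
    (60, 0), (61, 0), (61, 1), (62, 1), (64, 0), (64, 1), (65, 0), (65, 1),
    (66, 0), (66, 1), (67, 0), (67, 1), (68, 1), (69, 0), (69, 1), (70, 0),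
    (70, 1), (71, 0), (71, 1), (72, 0), (73, 0), (73, 1), (74, 0), (74, 1),
    (75, 0), (75, 1), (76, 0), (76, 1), (77, 0), (78, 0), (78, 1), (79, 1),
    (80, 0), (80, 1), (81, 1), (82, 0), (82, 1), (83, 0), (83, 1), (84, 0),
    (84, 1), (85, 0), (85, 1), (86, 1), (88, 0), (88, 1), (89, 0), (90, 0),
    (90, 1), (91, 0), (91, 1), (92, 0), (93, 0), (93, 1), (94, 1), (95, 0),
    (95, 1), (96, 0), (96, 1), (97, 0), (98, 1), (99, 1), (100, 0), (101, 0),
    (101, 1), (102, 0), (102, 1), (103, 0), (104, 0), (104, 1), (105, 0), (105, 1),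
    (106, 0), (106, 1), (107, 0), (108, 0), (109, 0), (109, 1), (110, 0), (110, 1),
    (111, 0), (111, 1), (112, 0), (113, 1), (114, 0), (114, 1), (115, 1), (116, 0),
    (116, 1), (117, 0), (117, 1), (118, 0), (118, 1), (119, 0), (119, 1), (120, 1),
    (121, 0), (122, 1), (125, 0), (126, 0), (126, 1), (127, 0), (127, 1), (128, 0),
    (128, 1), (129, 1), (130, 0), (131, 0), (133, 0), (135, 0), (135, 1), (136, 0),
    (137, 0), (137, 1), (138, 0), (138, 1), (139, 1), (140, 0), (140, 1), (141, 0),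
    (141, 1), (142, 0), (143, 0), (143, 1), (145, 0), (146, 0), (146, 1), (147, 0),
    (147, 1), (148, 0), (149, 0), (149, 1), (150, 1), (153, 0), (153, 1), (154, 1),
    (155, 0), (156, 0), (157, 0), (158, 0), (159, 0), (159, 1), (160, 0), (160, 1),
    (161, 0), (162, 0), (162, 1), (163, 0), (163, 1), (164, 0), (165, 1), (166, 1),
    (167, 0), (169, 0), (170, 0), (170, 1), (172, 0), (172, 1), (173, 1), (174, 0),
    (175, 1), (176, 1), (177, 0), (179, 0), (180, 0), (181, 0), (182, 0), (183, 1),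
    (188, 0), (188, 1), (190, 1), (191, 1), (192, 0), (194, 0), (200, 0), (201, 0),
    (202, 0), (202, 1), (204, 0), (208, 1), (209, 0), (210, 0), (212, 0), (212, 1),
    (216, 0), (218, 0), (219, 0), (223, 0), (224, 0), (224, 1), (225, 0), (227, 1),
    (229, 0), (230, 1), (231, 0), (232, 0), (232, 1), (233, 1), (234, 1), (236, 1),
    (237, 0), (239, 0), (241, 1), (242, 1), (243, 1), (245, 0), (249, 0), (250, 1),
    (251, 0), (252, 0), (260, 0), (262, 0), (271, 0), (272, 1), (273, 0), (278, 0),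
    (281, 1), (283, 0), (284, 0), (287, 0), (290, 0), (291, 0), (296, 0), (315, 1),
    (321, 0)]

end H96
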