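import Cfsg.Agent.H95.McLSimple
import Cfsg.Agent.H96.LeechPairs
import Cfsg.Agent.H96.OutOctData

/-!
The action of the McLaughlin group on 2025 minimal vectors.
-/

set_option autoImplicit false

namespace H96
namespace McL2025

open Cfsg Finset H95
open scoped Pointwise

attribute [local irreducible] H92.objs

/-- the points in the model -/
def pts : Set leechLattice :=
  {x | ldot x x = 32 ∧ ldot pvU.w x = 0 ∧ ldot Spor.leechV x = -16}

theorem base_mem : zBase ∈ pts := by
  refine ⟨zBase_norm, ?_, ?_⟩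
  · rw [ldot_zBase, pvU.h0, pvU.h1]; norm_num [pvU]
  · rw [ldot_zBase, leechV_none, leechV_some]; norm_num

/-! ### Masks -/

/-- octads avoiding both points -/
def mOut (m : ℕ) : Bool := !H94.bitB m 23 && !H94.bitB m 0
/-- octads through both points -/
def mIn (m : ℕ) : Bool := H94.bitB m 23 && H94.bitB m 0
/-- octads through the second point only -/
def mHalf (m : ℕ) : Bool := !H94.bitB m 23 && H94.bitB m 0

theorem counts : (H92.objs 8 mOut).length = 330 ∧ (H92.objs 8 mIn).length = 77 ∧
    (H92.objs 8 mHalf).length = 176 := by decide +kernel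

theorem out_fix : H92.fixB outOctGens [1 <<< 23, 1 <<< 0] = true := by decide +kernel

theorem out_cover :
    (H92.objs 8 mOut).all (fun m => (H92.orbitList outOctGens outOctSeed outOctCert).elem m)
      = true := by decide +kernel

theorem exists_mask {a : GolayPt → ZMod 2} (ha : a ∈ golayCode) (ha8 : hammingNorm a = 8)
    (f : ℕ → Bool) (hf : ∀ m, a = H90.wordOf m → f m = true) :
    ∃ m ∈ H92.objs 8 f, a = H90.wordOf m := by
  obtain ⟨n, hn, rfl⟩ := H90.mem_golayCode_iff.mp ha
  rw [H90.hammingNorm_wordOf] at ha8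
  exact ⟨_, H92.mem_objs.mpr ⟨⟨n, ⟨hn, ha8⟩, rfl⟩, hf _ rfl⟩, rfl⟩

theorem bit_none (m : ℕ) : H90.wordOf m none ≠ 0 ↔ H94.bitB m 23 = true := by
  rw [H94.bitB_eq]; simp [H90.wordOf, H90.idx]

theorem bit_zero (m : ℕ) : H90.wordOf m (some 0) ≠ 0 ↔ H94.bitB m 0 = true := by
  rw [H94.bitB_eq]; simp [H90.wordOf, H90.idx]

theorem objs_spec {f : ℕ → Bool} {m : ℕ} (h : m ∈ H92.objs 8 f) :
    H90.wordOf m ∈ golayCode ∧ hammingNorm (H90.wordOf m) = 8 ∧ f m = true := by
  obtain ⟨⟨n, ⟨hn, hw⟩, rfl⟩, hf⟩ := H92.mem_objs.mp h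
  exact ⟨H90.wordOf_encode_mem n, by rw [H90.hammingNorm_wordOf]; exact hw, hf⟩

/-! ### The three families -/

/-- `2` on an octad -/
def outFun (a : GolayPt → ZMod 2) : GolayPt → ℤ := fun i => 2 * ((a i).val : ℤ)
/-- `±2` on an octad, two minus signs -/
def inFun (a : GolayPt → ZMod 2) (q : GolayPt) : GolayPt → ℤ := fun i =>
  if i = some 0 ∨ i = q then -2 * ((a i).val : ℤ) else 2 * ((a i).val : ℤ)
/-- `(±1)^23` and a `3` inside the octad -/
def oddFun (a : GolayPt → ZMod 2) (l : GolayPt) : GolayPt → ℤ := fun i =>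
  if i = l then 3 else 1 - 2 * ((a i).val : ℤ)

/-- first family -/
noncomputable def famOut : Finset (GolayPt → ℤ) :=
  (H92.objs 8 mOut).toFinset.image fun m => outFun (H90.wordOf m)

/-- second family -/
noncomputable def famIn : Finset (GolayPt → ℤ) :=
  ((H92.objs 8 mIn).toFinset.sigma fun m => H90.setOf' m \ {none, some 0}).image
    fun p => inFun (H90.wordOf p.1) p.2

/-- third family -/
noncomputable def famOdd : Finset (GolayPt → ℤ) :=
  ((H92.objs 8 mHalf).toFinset.sigma fun m => (H90.setOf' m).erase (some 0)).image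
    fun p => oddFun (H90.wordOf p.1) p.2

theorem classify {x : leechLattice} (hx : x ∈ pts) :
    x = zBase ∨ ((x : GolayPt → ℤ) none = 0 ∧ (x : GolayPt → ℤ) ∈ famOut) ∨
      ((x : GolayPt → ℤ) none = 2 ∧ (x : GolayPt → ℤ) ∈ famIn) ∨
      ((x : GolayPt → ℤ) none = 1 ∧ (x : GolayPt → ℤ) ∈ famOdd) := by
  classical
  obtain ⟨hn, hu, hv⟩ := hx
  rw [← sqNorm_eq_ldot] at hn
  have hv' : -4 * (x : GolayPt → ℤ) none - ∑ i, (x : GolayPt → ℤ) i = -16 := by
    rw [← hv, ldot_comm, dot_const leechV_none leechV_some, H95.sum_option]; ring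
  rw [ldot_comm, pvU.dot] at hu
  norm_num [pvU] at hu
  by_cases hodd : 2 ∣ (x : GolayPt → ℤ) none
  · by_cases h4 : ∃ k, (x : GolayPt → ℤ) k % 4 = 2
    · obtain ⟨k, hk⟩ := h4
      obtain ⟨a, ha, ha8, hsh⟩ := octad_shape x.2 hn hk
      set f : GolayPt → ℤ := fun i => 2 * ((a i).val : ℤ) - (x : GolayPt → ℤ) i with hf
      have fvals : ∀ i, (f i = 0 ∧ (x : GolayPt → ℤ) i = 2 * ((a i).val : ℤ)) ∨
          (f i = 4 ∧ a i ≠ 0 ∧ (x : GolayPt → ℤ) i = -2) := by
        intro i
        rcases hsh i with ⟨h, h'⟩ | ⟨h, h' | h'⟩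
        · exact Or.inl (by simp [hf, h, h'])
        · left; simp only [hf, eq_one_of_ne h, h']; decide
        · right; refine ⟨?_, h, h'⟩; simp only [hf, eq_one_of_ne h, h']; decide
      have fnn : ∀ i, 0 ≤ f i := fun i => by rcases fvals i with h | h <;> omega
      have fsum : ∑ i, f i = 16 - ∑ i, (x : GolayPt → ℤ) i := by
        rw [hf, sum_sub_distrib, ← mul_sum, H95.sum_val, ha8]; rfl
      have hS := sum_nonneg fun i (_ : i ∈ univ) => fnn i
      have hxn : (x : GolayPt → ℤ) none = 0 ∨ (x : GolayPt → ℤ) none = 2 := by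
        rcases hsh none with ⟨-, h⟩ | ⟨-, h | h⟩ <;> omega
      have fle : ∀ i, f i ≤ ∑ j, f j := fun i => single_le_sum (fun j _ => fnn j) (mem_univ i)
      rcases hxn with h0 | h2
      · right; left
        have hall : ∀ i, (x : GolayPt → ℤ) i = 2 * ((a i).val : ℤ) := fun i => by
          rcases fvals i with h | h
          · exact h.2
          · have := fle i; omega
        have an : a none = 0 := by_contra fun h => by
          have := hall none; rw [eq_one_of_ne h, h0] at this; revert this; decide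
        have a0 : a (some 0) = 0 := by_contra fun h => by
          have := hall (some 0); rw [eq_one_of_ne h, show (x : GolayPt → ℤ) (some 0) = 0 by omega] at this
          revert this; decide
        obtain ⟨m, hm, rfl⟩ := exists_mask ha ha8 mOut fun m hm => by
          subst hm
          have e1 : ¬ H94.bitB m 23 = true := fun h => (bit_none m).mpr h an
          have e2 : ¬ H94.bitB m 0 = true := fun h => (bit_zero m).mpr h a0
          simp only [Bool.not_eq_true] at e1 e2
          simp [mOut, e1, e2]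
        exact ⟨h0, mem_image.mpr ⟨m, List.mem_toFinset.mpr hm, funext fun i => (hall i).symm⟩⟩
      · right; right; left
        have hx0 : (x : GolayPt → ℤ) (some 0) = -2 := by omega
        have f0 : f (some 0) = 4 ∧ a (some 0) ≠ 0 := by
          rcases fvals (some 0) with h | h
          · have := zmod2_val_lt (a (some 0)); omega
          · exact ⟨h.1, h.2.1⟩
        have an : a none ≠ 0 := fun h => by
          rcases hsh none with ⟨-, h'⟩ | ⟨h', -⟩
          · omega
          · exact h' h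
        have hrest : ∑ i ∈ univ.erase (some 0), f i = 4 := by
          rw [← add_sum_erase _ _ (mem_univ (some (0 : ZMod 23))), f0.1] at fsum; omega
        obtain ⟨q, hq, hq0⟩ : ∃ q ∈ univ.erase (some (0 : ZMod 23)), f q ≠ 0 := by
          by_contra h
          push Not at h
          rw [sum_congr rfl h] at hrest
          simp at hrest
        have hq4 : f q = 4 ∧ a q ≠ 0 ∧ (x : GolayPt → ℤ) q = -2 := by
          rcases fvals q with h | h
          · exact absurd h.1 hq0
          · exact h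
        have hother : ∀ i, i ≠ some 0 → i ≠ q → (x : GolayPt → ℤ) i = 2 * ((a i).val : ℤ) := by
          intro i h1 h2
          have h3 := sum_le_sum_of_subset_of_nonneg (f := f) (s := {i, q}) (t := univ.erase (some 0))
            (fun j hj => by
              simp only [mem_insert, mem_singleton] at hj
              rcases hj with rfl | rfl
              · simp [h1]
              · exact hq)
            (fun j _ _ => fnn j)
          rw [sum_pair h2, hrest, hq4.1] at h3
          rcases fvals i with h | h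
          · exact h.2
          · omega
        obtain ⟨m, hm, rfl⟩ := exists_mask ha ha8 mIn fun m hm => by
          subst hm; simp [mIn, (bit_none m).mp an, (bit_zero m).mp f0.2]
        have hqn : q ≠ none := by rintro rfl; omega
        refine ⟨h2, mem_image.mpr ⟨⟨m, q⟩, mem_sigma.mpr ⟨List.mem_toFinset.mpr hm, ?_⟩, funext fun i => ?_⟩⟩
        · have hsupp : q ∈ H90.setOf' m := by
            rw [← H90.support₂_wordOf]; simp [support₂, hq4.2.1]
          simp [hsupp, hqn, (mem_erase.mp hq).1]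
        · show inFun (H90.wordOf m) q i = _
          unfold inFun
          by_cases h1 : i = some 0
          · subst h1; rw [if_pos (Or.inl rfl), hx0, eq_one_of_ne f0.2]; rfl
          · by_cases h2 : i = q
            · subst h2; rw [if_pos (Or.inr rfl), hq4.2.2, eq_one_of_ne hq4.2.1]; rfl
            · rw [if_neg (by tauto), hother i h1 h2]
    · left
      push Not at h4
      have hvals : ∀ i, (x : GolayPt → ℤ) i = 0 ∨ (x : GolayPt → ℤ) i = 4 ∨
          (x : GolayPt → ℤ) i = -4 := by
        intro i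
        have := abs_le_of_sqNorm (R := 5) hn (by norm_num) (by norm_num) i
        have := parity_leech x.2 i none
        have := h4 i
        omega
      set f : GolayPt → ℤ := fun i => (x : GolayPt → ℤ) i ^ 2 - 4 * (x : GolayPt → ℤ) i with hf
      have hfnn : ∀ i, 0 ≤ f i := fun i => by
        rcases hvals i with h | h | h <;> simp [hf, h]
      have hsum : ∑ i, f i = 32 - 4 * ∑ i, (x : GolayPt → ℤ) i := by
        rw [hf, sum_sub_distrib, ← mul_sum, ← hn]; rfl
      have hS := sum_nonneg fun i (_ : i ∈ univ) => hfnn i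
      have hx0 : (x : GolayPt → ℤ) none = 4 := by
        rcases hvals none with h | h | h <;> omega
      refine Subtype.ext (funext fun i => ?_)
      have e : (zBase : GolayPt → ℤ) = Pi.single none 4 + Pi.single (some 0) (-4) := by
        simp [zBase, quad]
      rw [e]
      by_cases h1 : i = none
      · subst h1; simp [hx0]
      by_cases h2 : i = some 0
      · subst h2; simp; omega
      have h3 := sum_le_sum_of_subset_of_nonneg
        (f := fun j => (x : GolayPt → ℤ) j ^ 2) (subset_univ ({i, none, some 0} : Finset GolayPt))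
        (fun j _ _ => sq_nonneg _)
      rw [sum_insert (by simp [h1, h2]), sum_pair (by simp), hx0,
        show (x : GolayPt → ℤ) (some 0) = -4 by omega] at h3
      have h5 : (x : GolayPt → ℤ) i ^ 2 ≤ 0 := by
        have : ∑ j, (x : GolayPt → ℤ) j ^ 2 = 32 := hn
        linarith
      simp [h1, h2, sq_eq_zero_iff.mp (le_antisymm h5 (sq_nonneg _))]
  · right; right; right
    obtain ⟨l, hl, hrest⟩ := odd_shape x.2 hn (k := none) hodd
    have hln : l ≠ none := by
      rintro rfl; have := hrest (some 0) (by simp); omega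
    have hl0 : l ≠ some 0 := by
      rintro rfl; have := hrest none (by simp); omega
    have hxn := hrest none (Ne.symm hln)
    obtain ⟨m, hm, a, ha, z, hz, -⟩ := exists_form x.2
    have hm1 : m = 1 := by have := hz none; omega
    subst hm1
    have hc : ∀ i, (x : GolayPt → ℤ) i = 1 - 2 * ((a i).val : ℤ) +
        if i = l then (if (x : GolayPt → ℤ) l = 3 then 4 else -4) else 0 := by
      intro i
      have hzi := hz i
      have := zmod2_val_lt (a i)
      by_cases hil : i = l
      · subst hil; rw [if_pos rfl]; split <;> omega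
      · rw [if_neg hil]; have := hrest i hil; omega
    have hsum : ∑ i, (x : GolayPt → ℤ) i =
        24 - 2 * (hammingNorm a : ℤ) + if (x : GolayPt → ℤ) l = 3 then 4 else -4 := by
      rw [sum_congr rfl (fun i _ => hc i), sum_add_distrib, sum_sub_distrib, ← mul_sum, H95.sum_val,
        sum_const, card_univ, sum_ite_eq' univ l, if_pos (mem_univ l)]
      rfl
    have hcn := hc none
    rw [if_neg (Ne.symm hln), add_zero] at hcn
    have hbit : (a none).val ≤ hammingNorm a := by
      have h' : ((a none).val : ℤ) ≤ (hammingNorm a : ℤ) := by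
        rw [← H95.sum_val]
        exact single_le_sum (f := fun i => ((a i).val : ℤ)) (fun i _ => by positivity) (mem_univ none)
      exact_mod_cast h'
    have hca := norm_cases golayOK ha
    have h3 : (x : GolayPt → ℤ) l = 3 ∧ hammingNorm a = 8 ∧ (x : GolayPt → ℤ) none = 1 := by
      generalize hc' : hammingNorm a = c at hbit hsum hca ⊢
      generalize hbv : (a none).val = bt at hbit hcn
      rcases hxn with h | h <;> rw [h] at hv' hcn <;> split at hsum <;> rename_i hh
      all_goals first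
        | exact ⟨hh, by omega, h⟩
        | (exfalso; omega)
    obtain ⟨hxl, ha8, hx1⟩ := h3
    have h0 : (x : GolayPt → ℤ) (some 0) = -1 := by omega
    have hc0 := hc (some 0)
    rw [if_neg (Ne.symm hl0), h0] at hc0
    have hcl := hc l
    rw [if_pos rfl, if_pos hxl, hxl] at hcl
    have v0 : ∀ i : GolayPt, a i = 0 → ((a i).val : ℤ) = 0 := fun i h => by rw [h]; rfl
    have an : a none = 0 := by_contra fun h => by
      rw [eq_one_of_ne h, hx1] at hcn; revert hcn; decide
    have a0 : a (some 0) ≠ 0 := fun h => by rw [v0 _ h] at hc0; omega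
    have al : a l ≠ 0 := fun h => by rw [v0 _ h] at hcl; omega
    obtain ⟨k, hk, rfl⟩ := exists_mask ha ha8 mHalf fun k hk => by
      subst hk
      have e1 : ¬ H94.bitB k 23 = true := fun h => (bit_none k).mpr h an
      simp only [Bool.not_eq_true] at e1
      simp [mHalf, e1, (bit_zero k).mp a0]
    refine ⟨hx1, mem_image.mpr ⟨⟨k, l⟩, mem_sigma.mpr ⟨List.mem_toFinset.mpr hk, ?_⟩, funext fun i => ?_⟩⟩
    · have hsupp : l ∈ H90.setOf' k := by
        rw [← H90.support₂_wordOf]; simp [support₂, al]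
      simp [hsupp, hl0]
    · show oddFun (H90.wordOf k) l i = _
      unfold oddFun
      split
      · rename_i h; rw [h, hxl]
      · rename_i h; rw [hc i, if_neg h, add_zero]

/-! ### Sizes -/

theorem card_out : famOut.card = 330 := by
  rw [famOut, card_image_of_injOn, List.toFinset_card_of_nodup (H92.objs_nodup _ _), counts.1]
  intro a ha b hb h
  simp only [List.coe_toFinset, Set.mem_ofPred_eq] at ha hb
  refine H90.wordOf_injOn (H92.objs_lt ha) (H92.objs_lt hb) (funext fun i => ?_)
  have := congrFun h i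
  simp only [outFun] at this
  exact ZMod.val_injective 2 (by omega)

theorem card_in : famIn.card = 462 := by
  rw [famIn, card_image_of_injOn, card_sigma, sum_congr rfl (g := fun _ => 6) fun m hm => ?_,
    sum_const, List.toFinset_card_of_nodup (H92.objs_nodup _ _), counts.2.1]
  · rfl
  · obtain ⟨-, h8, hf⟩ := objs_spec (List.mem_toFinset.mp hm)
    simp only [mIn, Bool.and_eq_true] at hf
    have h1 := (bit_none m).mpr hf.1
    have h2 := (bit_zero m).mpr hf.2
    rw [card_sdiff_of_subset, card_pair (by simp), H90.card_setOf']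
    · rw [H90.hammingNorm_wordOf] at h8; omega
    · intro i hi
      simp only [mem_insert, mem_singleton] at hi
      rw [← H90.support₂_wordOf]
      rcases hi with rfl | rfl <;> simp [support₂, h1, h2]
  · rintro ⟨a, p⟩ ha ⟨b, q⟩ hb h
    simp only [coe_sigma, Set.mem_sigma_iff, List.coe_toFinset, Set.mem_ofPred_eq, mem_coe, mem_sdiff,
      mem_insert, mem_singleton, not_or] at ha hb
    have hab : a = b := by
      refine H90.wordOf_injOn (H92.objs_lt ha.1) (H92.objs_lt hb.1) (funext fun i => ?_)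
      have := congrFun h i
      simp only [inFun] at this
      refine ZMod.val_injective 2 ?_
      split at this <;> split at this <;> omega
    subst hab
    have hp : H90.wordOf a p ≠ 0 := by
      have := ha.2.1; rw [← H90.support₂_wordOf] at this; simpa [support₂] using this
    have := congrFun h p
    simp only [inFun, eq_one_of_ne hp, show p ≠ some 0 from ha.2.2.2, false_or, if_pos] at this
    by_cases hpq : p = q
    · rw [hpq]
    · rw [if_neg hpq] at this; exfalso; revert this; decide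

theorem card_odd : famOdd.card = 1232 := by
  rw [famOdd, card_image_of_injOn, card_sigma, sum_congr rfl (g := fun _ => 7) fun m hm => ?_,
    sum_const, List.toFinset_card_of_nodup (H92.objs_nodup _ _), counts.2.2]
  · rfl
  · obtain ⟨-, h8, hf⟩ := objs_spec (List.mem_toFinset.mp hm)
    simp only [mHalf, Bool.and_eq_true] at hf
    rw [card_erase_of_mem, H90.card_setOf']
    · rw [H90.hammingNorm_wordOf] at h8; omega
    · rw [← H90.support₂_wordOf]; simp [support₂, (bit_zero m).mpr hf.2]
  · rintro ⟨a, p⟩ ha ⟨b, q⟩ hb h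
    simp only [coe_sigma, Set.mem_sigma_iff, List.coe_toFinset, Set.mem_ofPred_eq, mem_coe,
      mem_erase] at ha hb
    have hpq : p = q := by
      by_contra hne
      have := congrFun h p
      simp only [oddFun, if_true, if_neg hne] at this
      have := zmod2_val_lt (H90.wordOf b p)
      omega
    subst hpq
    have hab : a = b := by
      refine H90.wordOf_injOn (H92.objs_lt ha.1) (H92.objs_lt hb.1) (funext fun i => ?_)
      by_cases hi : i = p
      · subst hi
        have e : ∀ m, i ∈ H90.setOf' m → H90.wordOf m i = 1 := fun m hm => by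
          refine eq_one_of_ne ?_
          rw [← H90.support₂_wordOf] at hm; simpa [support₂] using hm
        rw [e a ha.2.2, e b hb.2.2]
      · have := congrFun h i
        simp only [oddFun, if_neg hi] at this
        exact ZMod.val_injective 2 (by omega)
    rw [hab]

/-! ### The two point stabiliser on the families -/

/-- the stabiliser of the base point -/
noncomputable abbrev baseGrp : Subgroup Co0 := pvU.group ⊓ MulAction.stabilizer Co0 zBase

theorem baseGrp_iff {g : Co0} :
    g ∈ baseGrp ↔ ∃ σ : M24, σ.1 none = none ∧ σ.1 (some 0) = some 0 ∧ g = permHom σ := by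
  constructor
  · rintro ⟨hg, hgb⟩
    have hgb : g • zBase = zBase := hgb
    have he : g • eight none = eight none := by
      have e : eight none = pvU.w + zBase := Subtype.ext (by
        funext i
        rcases i with _ | x
        · simp [eight, zBase, quad, pvU.h0]
        · by_cases hx : x = 0
          · subst hx; simp [eight, zBase, quad, pvU.h1]; rfl
          · simp [eight, zBase, quad, pvU.h2 x hx, hx])
      rw [e, co0_add, hgb, show g • pvU.w = pvU.w from hg.2]
    obtain ⟨σ, hσ, rfl⟩ := mono_of_const he leechV_some (by norm_num) hg.1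
    refine ⟨σ, hσ, ?_, rfl⟩
    have e := congrArg (fun v : leechLattice => (v : GolayPt → ℤ) (σ.1 (some 0))) hgb
    have h1 : σ.1 (some 0) ≠ none := fun h => by simpa using σ.1.injective (h.trans hσ.symm)
    simp only [permHom_apply, Equiv.symm_apply_apply, zBase, quad] at e
    by_contra hne
    simp [hne, h1] at e
  · rintro ⟨σ, h1, h2, rfl⟩
    refine ⟨(pvU.hom ⟨σ, h1, h2⟩).2, MulAction.mem_stabilizer_iff.mpr ?_⟩
    refine Subtype.ext (funext fun i => ?_)
    rw [permHom_apply]
    simp only [zBase, quad, Pi.add_apply, Pi.single_apply, Equiv.symm_apply_eq, h1, h2]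

theorem card_baseGrp : Nat.card baseGrp = 443520 := by
  have e : baseGrp = (pvU.group.subtype.comp pvU.hom).range := by
    ext g
    rw [baseGrp_iff, MonoidHom.mem_range]
    constructor
    · rintro ⟨σ, h1, h2, rfl⟩; exact ⟨⟨σ, h1, h2⟩, rfl⟩
    · rintro ⟨σ, rfl⟩; exact ⟨σ.1, σ.2.1, σ.2.2, rfl⟩
  rw [e, ← Nat.card_congr (MonoidHom.ofInjective
    (f := pvU.group.subtype.comp pvU.hom) (Subtype.val_injective.comp pvU.hom_injective)).toEquiv]
  exact H90.natCard_stab_pair (by simp)

/-- the permutation image of a word -/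
theorem word_perm {σ : Equiv.Perm GolayPt} {a b : GolayPt → ZMod 2}
    (h : (support₂ a).image σ = support₂ b) : (fun i => a (σ.symm i)) = b := by
  funext i
  have e : i ∈ (support₂ a).image σ ↔ i ∈ support₂ b := by rw [h]
  simp only [mem_image, support₂, mem_filter, mem_univ, true_and] at e
  rcases zmod2_cases (b i) with hb | hb
  · rw [hb]
    by_contra hne
    exact (e.mp ⟨_, hne, Equiv.apply_symm_apply σ i⟩) hb
  · obtain ⟨j, hj, rfl⟩ := e.mpr (by rw [hb]; decide)
    rw [Equiv.symm_apply_apply, hb]; exact eq_one_of_ne hj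

theorem octad_of {a : GolayPt → ZMod 2} (ha : a ∈ golayCode) (h : hammingNorm a = 8) :
    support₂ a ∈ octads := ⟨⟨a, ha, rfl⟩, by rw [← hammingNorm_eq_support₂]; exact h⟩

/-- moving an octad with three marked points -/
theorem octad_move3 {o o' : Finset GolayPt} (ho : o ∈ octads) (ho' : o' ∈ octads)
    {p q r p' q' r' : GolayPt} (hp : p ∈ o) (hq : q ∈ o) (hr : r ∈ o) (hp' : p' ∈ o') (hq' : q' ∈ o')
    (hr' : r' ∈ o') (h1 : p ≠ q) (h2 : p ≠ r) (h3 : q ≠ r) (h1' : p' ≠ q') (h2' : p' ≠ r')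
    (h3' : q' ≠ r') : ∃ σ ∈ M24, σ p = p' ∧ σ q = q' ∧ σ r = r' ∧ o.image σ = o' := by
  have key : ∀ {o : Finset GolayPt} {p q r : GolayPt}, o ∈ octads → p ∈ o → q ∈ o → r ∈ o →
      p ≠ q → p ≠ r → q ≠ r → ∃ x : Fin 5 ↪ GolayPt, x 0 = p ∧ x 1 = q ∧ x 2 = r ∧ ∀ i, x i ∈ o := by
    intro o p q r ho hp hq hr h1 h2 h3
    obtain ⟨y, hy⟩ := H90.exists_emb_in (((o.erase p).erase q).erase r) (k := 2) (by
      rw [card_erase_of_mem (by simp [hr, h2.symm, h3.symm]), card_erase_of_mem (by simp [hq, h1.symm]),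
        card_erase_of_mem hp, ho.2]
      norm_num)
    have hy0 := hy 0; have hy1 := hy 1
    simp only [mem_erase] at hy0 hy1
    have h01 : y 0 ≠ y 1 := fun h => absurd (y.injective h) (by decide)
    refine ⟨⟨![p, q, r, y 0, y 1], ?_⟩, rfl, rfl, rfl, ?_⟩
    · intro i j
      fin_cases i <;> fin_cases j <;>
        simp [h1, h1.symm, h2, h2.symm, h3, h3.symm, h01, h01.symm, hy0.1, hy1.1, hy0.2.1, hy1.2.1,
          hy0.2.2.1, hy1.2.2.1, Ne.symm hy0.1, Ne.symm hy1.1, Ne.symm hy0.2.1, Ne.symm hy1.2.1,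
          Ne.symm hy0.2.2.1, Ne.symm hy1.2.2.1]
    · intro i
      fin_cases i
      exacts [hp, hq, hr, hy0.2.2.2, hy1.2.2.2]
  obtain ⟨x, x0, x1, x2, hx⟩ := key ho hp hq hr h1 h2 h3
  obtain ⟨y, y0, y1, y2, hy⟩ := key ho' hp' hq' hr' h1' h2' h3'
  obtain ⟨σ, hσ, h⟩ := H90.exists_move5 x y
  refine ⟨σ, hσ, by rw [← x0, h, y0], by rw [← x1, h, y1], by rw [← x2, h, y2],
    H90.octad_eq_of_five_le_inter (H90.image_mem_wordsOfWeight hσ ho) ho' ?_⟩
  calc 5 = (univ.map y).card := by simp
    _ ≤ _ := card_le_card fun z hz => by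
      obtain ⟨i, -, rfl⟩ := mem_map.mp hz
      exact mem_inter.mpr ⟨mem_image.mpr ⟨x i, hx i, h i⟩, hy i⟩

theorem trans_out {u v : GolayPt → ℤ} (hu : u ∈ famOut) (hv : v ∈ famOut) :
    ∃ σ : M24, σ.1 none = none ∧ σ.1 (some 0) = some 0 ∧ ∀ i, u (σ.1.symm i) = v i := by
  simp only [famOut, mem_image, List.mem_toFinset] at hu hv
  obtain ⟨a, ha, rfl⟩ := hu
  obtain ⟨b, hb, rfl⟩ := hv
  have key : ∀ m ∈ H92.objs 8 mOut, H90.setOf' m ∈
      wordsOfWeight (golayCode : Set (GolayPt → ZMod 2)) 8 ∧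
      ∀ k < 2 ^ 24, H90.setOf' m = H90.setOf' k → mOut k = true := by
    intro m hm
    obtain ⟨hc, h8, hf⟩ := objs_spec hm
    refine ⟨?_, fun k hk e => by rw [← H90.setOf'_injOn (H92.objs_lt hm) hk e]; exact hf⟩
    rw [← H90.support₂_wordOf]; exact octad_of hc h8
  obtain ⟨g, hg, hfix, hab⟩ := H92.conjugate_of_cert out_fix out_cover (key a ha).1 (key b hb).1
    (key a ha).2 (key b hb).2
  refine ⟨⟨g, hg⟩, H92.fixes_point (i := 23) (by norm_num) (hfix _ (by simp)),
    H92.fixes_point (i := 0) (by norm_num) (hfix _ (by simp)), fun i => ?_⟩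
  have h := word_perm (σ := g) (a := H90.wordOf a) (b := H90.wordOf b) (by
    rw [H90.support₂_wordOf, H90.support₂_wordOf, ← hab]; rfl)
  simp only [outFun, ← congrFun h i]

theorem trans_in {u v : GolayPt → ℤ} (hu : u ∈ famIn) (hv : v ∈ famIn) :
    ∃ σ : M24, σ.1 none = none ∧ σ.1 (some 0) = some 0 ∧ ∀ i, u (σ.1.symm i) = v i := by
  simp only [famIn, mem_image, mem_sigma, List.mem_toFinset, mem_sdiff, mem_insert, mem_singleton,
    not_or] at hu hv
  obtain ⟨⟨a, p⟩, ⟨ha, hpa, hpn, hp0⟩, rfl⟩ := hu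
  obtain ⟨⟨b, q⟩, ⟨hb, hqb, hqn, hq0⟩, rfl⟩ := hv
  obtain ⟨hac, ha8, haf⟩ := objs_spec ha
  obtain ⟨hbc, hb8, hbf⟩ := objs_spec hb
  simp only [mIn, Bool.and_eq_true] at haf hbf
  have mem : ∀ {m : ℕ} {i : GolayPt}, H90.wordOf m i ≠ 0 → i ∈ support₂ (H90.wordOf m) :=
    fun h => by simp [support₂, h]
  rw [← H90.support₂_wordOf] at hpa hqb
  obtain ⟨σ, hσ, s1, s2, s3, s4⟩ := octad_move3 (octad_of hac ha8) (octad_of hbc hb8)
    (mem ((bit_none a).mpr haf.1)) (mem ((bit_zero a).mpr haf.2)) hpa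
    (mem ((bit_none b).mpr hbf.1)) (mem ((bit_zero b).mpr hbf.2)) hqb
    (by simp) (Ne.symm hpn) (Ne.symm hp0) (by simp) (Ne.symm hqn) (Ne.symm hq0)
  refine ⟨⟨σ, hσ⟩, s1, s2, fun i => ?_⟩
  simp only [inFun, Equiv.symm_apply_eq, s2, s3, ← congrFun (word_perm s4) i]

theorem trans_odd {u v : GolayPt → ℤ} (hu : u ∈ famOdd) (hv : v ∈ famOdd) :
    ∃ σ : M24, σ.1 none = none ∧ σ.1 (some 0) = some 0 ∧ ∀ i, u (σ.1.symm i) = v i := by
  simp only [famOdd, mem_image, mem_sigma, List.mem_toFinset, mem_erase] at hu hv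
  obtain ⟨⟨a, p⟩, ⟨ha, hp0, hpa⟩, rfl⟩ := hu
  obtain ⟨⟨b, q⟩, ⟨hb, hq0, hqb⟩, rfl⟩ := hv
  obtain ⟨hac, ha8, haf⟩ := objs_spec ha
  obtain ⟨hbc, hb8, hbf⟩ := objs_spec hb
  simp only [mHalf, Bool.and_eq_true, Bool.not_eq_true'] at haf hbf
  rw [← H90.support₂_wordOf] at hpa hqb
  have mem : ∀ {m : ℕ} {i : GolayPt}, H90.wordOf m i ≠ 0 → i ∈ support₂ (H90.wordOf m) :=
    fun h => by simp [support₂, h]
  have out : ∀ {m : ℕ}, H94.bitB m 23 = false → none ∉ support₂ (H90.wordOf m) := fun {m} h hm => by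
    have := (bit_none m).mp (by simpa [support₂] using hm)
    rw [h] at this; cases this
  have pick : ∀ {m : ℕ} (x : GolayPt), hammingNorm (H90.wordOf m) = 8 →
      ∃ r ∈ support₂ (H90.wordOf m), r ≠ some 0 ∧ r ≠ x := by
    intro m x h8
    obtain ⟨r, hr, hr'⟩ := exists_mem_notMem_of_card_lt_card
      (s := ({some 0, x} : Finset GolayPt)) (t := support₂ (H90.wordOf m))
      (lt_of_le_of_lt card_le_two (by rw [← hammingNorm_eq_support₂, h8]; norm_num))
    simp only [mem_insert, mem_singleton, not_or] at hr'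
    exact ⟨r, hr, hr'.1, hr'.2⟩
  obtain ⟨r, hr, hr0, hrp⟩ := pick p ha8
  obtain ⟨r', hr', hr0', hrq⟩ := pick q hb8
  obtain ⟨τ, hτ, t1, t2, -, t4⟩ := octad_move3 (octad_of hac ha8) (octad_of hbc hb8)
    (mem ((bit_zero a).mpr haf.2)) hpa hr (mem ((bit_zero b).mpr hbf.2)) hqb hr'
    (Ne.symm hp0) (Ne.symm hr0) (Ne.symm hrp) (Ne.symm hq0) (Ne.symm hr0') (Ne.symm hrq)
  have hout : τ none ∉ support₂ (H90.wordOf b) := by
    rw [← t4, mem_image]
    rintro ⟨j, hj, e⟩
    rw [τ.injective e] at hj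
    exact out haf.1 hj
  obtain ⟨κ, hκ, kf, kn⟩ := Lam.fix_octad_transitive (octad_of hbc hb8) hout (out hbf.1)
  have s0 : (κ * τ) (some 0) = some 0 := by
    rw [Equiv.Perm.mul_apply, t1]; exact kf _ (mem ((bit_zero b).mpr hbf.2))
  have sp : (κ * τ) p = q := by rw [Equiv.Perm.mul_apply, t2]; exact kf _ hqb
  have himg : (support₂ (H90.wordOf a)).image ⇑(κ * τ) = support₂ (H90.wordOf b) := by
    rw [Equiv.Perm.coe_mul, ← image_image, t4]
    ext z
    rw [mem_image]
    exact ⟨fun ⟨y, hy, e⟩ => by rwa [← e, kf y hy], fun hz => ⟨z, hz, kf z hz⟩⟩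
  refine ⟨⟨κ * τ, mul_mem hκ hτ⟩, by show (κ * τ) none = none; rw [Equiv.Perm.mul_apply, kn],
    s0, fun i => ?_⟩
  simp only [oddFun, Equiv.symm_apply_eq, sp, ← congrFun (word_perm himg) i]

theorem orbit_fam {y : leechLattice} (hy : y ∈ pts) (k : ℤ) (F : Finset (GolayPt → ℤ))
    (hk : (y : GolayPt → ℤ) none = k) (hk4 : k ≠ 4)
    (hF : ∀ x ∈ pts, x ≠ zBase → (x : GolayPt → ℤ) none = k → (x : GolayPt → ℤ) ∈ F)
    (htr : ∀ u ∈ F, ∀ v ∈ F, ∃ σ : M24, σ.1 none = none ∧ σ.1 (some 0) = some 0 ∧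
      ∀ i, u (σ.1.symm i) = v i) :
    (MulAction.orbit baseGrp y).ncard = F.card := by
  have hz : (zBase : GolayPt → ℤ) none = 4 := by simp [zBase, quad]
  have hyF : (y : GolayPt → ℤ) ∈ F := hF y hy (fun h => hk4 (by rw [← hk, h, hz])) hk
  rw [← Set.ncard_image_of_injective _ Subtype.val_injective, ← Set.ncard_coe_finset]
  congr 1
  ext u
  simp only [Set.mem_image, mem_coe, MulAction.mem_orbit_iff]
  constructor
  · rintro ⟨x, ⟨⟨g, hg⟩, rfl⟩, rfl⟩
    show ((g • y : leechLattice) : GolayPt → ℤ) ∈ F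
    obtain ⟨σ, h1, h2, rfl⟩ := baseGrp_iff.mp hg
    have hx0 : ((permHom σ • y : leechLattice) : GolayPt → ℤ) none = k := by
      rw [permHom_apply, ← hk]; exact congrArg _ ((Equiv.symm_apply_eq _).mpr h1.symm)
    refine hF _ ⟨by rw [co0_dot]; exact hy.1, ?_, ?_⟩ (fun h => hk4 ?_) hx0
    · conv_lhs => rw [← (hg.1.2 : permHom σ • pvU.w = pvU.w)]
      rw [co0_dot]; exact hy.2.1
    · conv_lhs => rw [← (hg.1.1 : permHom σ • Spor.leechV = Spor.leechV)]
      rw [co0_dot]; exact hy.2.2
    · rw [← hx0, h, hz]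
  · intro hu
    obtain ⟨σ, h1, h2, he⟩ := htr _ hyF u hu
    exact ⟨permHom σ • y, ⟨⟨_, baseGrp_iff.mpr ⟨σ, h1, h2, rfl⟩⟩, rfl⟩,
      funext fun i => by rw [permHom_apply, he]⟩

/-- seed of the first family -/
def seedOut : GolayPt → ℤ := outFun (H90.wordOf outOctSeed)
/-- seed of the second family -/
def seedIn : GolayPt → ℤ := inFun (H90.wordOf 13062145) (some 12)
/-- seed of the third family -/
def seedOdd : GolayPt → ℤ := oddFun (H90.wordOf 1302533) (some 2)

theorem seeds_mem : seedOut ∈ leechLattice ∧ seedIn ∈ leechLattice ∧ seedOdd ∈ leechLattice := by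
  have code : ∀ m, H90.encode (m % 4096) = m → H90.wordOf m ∈ golayCode := fun m h => by
    rw [← h]; exact H90.wordOf_encode_mem _
  refine ⟨mem_of_form (z := 0) (m := 0) (code outOctSeed (by decide +kernel)) (fun i => ?_) (by decide +kernel),
    mem_of_form (z := fun i => if i = some 0 ∨ i = some 12 then -1 else 0) (m := 0)
      (code 13062145 (by decide +kernel)) ?_ (by decide +kernel),
    mem_of_form (z := fun i => (if i = some 2 then 1 else 0) - ((H90.wordOf 1302533 i).val : ℤ))
      (m := 1) (code 1302533 (by decide +kernel)) ?_ (by decide +kernel)⟩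
  · simp [seedOut, outFun]
  · decide +kernel
  · decide +kernel

theorem main : pts.ncard = 2025 ∧ (∀ x ∈ pts, ∃ g ∈ pvU.group, g • zBase = x) ∧
    ∃ y₁ ∈ pts, ∃ y₂ ∈ pts, ∃ y₃ ∈ pts, (MulAction.orbit baseGrp y₁).ncard = 330 ∧
      (MulAction.orbit baseGrp y₂).ncard = 462 ∧ (MulAction.orbit baseGrp y₃).ncard = 1232 := by
  classical
  have y1 : (⟨seedOut, seeds_mem.1⟩ : leechLattice) ∈ pts := by
    refine ⟨by rw [← sqNorm_eq_ldot]; decide +kernel, ?_, ?_⟩
    · rw [ldot_comm, pvU.dot]; simp only [pvU]; decide +kernel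
    · rw [ldot_comm, dot_const leechV_none leechV_some]; decide +kernel
  have y2 : (⟨seedIn, seeds_mem.2.1⟩ : leechLattice) ∈ pts := by
    refine ⟨by rw [← sqNorm_eq_ldot]; decide +kernel, ?_, ?_⟩
    · rw [ldot_comm, pvU.dot]; simp only [pvU]; decide +kernel
    · rw [ldot_comm, dot_const leechV_none leechV_some]; decide +kernel
  have y3 : (⟨seedOdd, seeds_mem.2.2⟩ : leechLattice) ∈ pts := by
    refine ⟨by rw [← sqNorm_eq_ldot]; decide +kernel, ?_, ?_⟩
    · rw [ldot_comm, pvU.dot]; simp only [pvU]; decide +kernel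
    · rw [ldot_comm, dot_const leechV_none leechV_some]; decide +kernel
  have o1 := orbit_fam y1 0 famOut (by decide +kernel) (by norm_num) (fun x hx hne h => by
    rcases classify hx with e | e | e | e
    · exact absurd e hne
    · exact e.2
    · omega
    · omega) fun u hu v hv => trans_out hu hv
  have o2 := orbit_fam y2 2 famIn (by decide +kernel) (by norm_num) (fun x hx hne h => by
    rcases classify hx with e | e | e | e
    · exact absurd e hne
    · omega
    · exact e.2
    · omega) fun u hu v hv => trans_in hu hv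
  have o3 := orbit_fam y3 1 famOdd (by decide +kernel) (by norm_num) (fun x hx hne h => by
    rcases classify hx with e | e | e | e
    · exact absurd e hne
    · omega
    · omega
    · exact e.2) fun u hu v hv => trans_odd hu hv
  rw [card_out] at o1
  rw [card_in] at o2
  rw [card_odd] at o3
  set O : Set leechLattice := {x | ∃ g ∈ pvU.group, g • zBase = x} with hO
  have hcard : Nat.card baseGrp * O.ncard = Nat.card pvU.group :=
    H90.natCard_inf_stabilizer pvU.group zBase O fun q => Iff.rfl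
  rw [card_baseGrp, card_mcl_model] at hcard
  have hOsub : O ⊆ pts := by
    rintro _ ⟨g, hg, rfl⟩
    refine ⟨by rw [co0_dot]; exact base_mem.1, ?_, ?_⟩
    · conv_lhs => rw [← (hg.2 : g • pvU.w = pvU.w)]
      rw [co0_dot]; exact base_mem.2.1
    · conv_lhs => rw [← (hg.1 : g • Spor.leechV = Spor.leechV)]
      rw [co0_dot]; exact base_mem.2.2
  have hfin : pts.Finite := (leechLike.finite_norm (Or.inl rfl)).subset fun x hx => hx.1
  have hup : pts.ncard ≤ 2025 := by
    refine le_trans (Set.ncard_le_ncard_of_injOn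
      (t := ((insert (zBase : GolayPt → ℤ) (famOut ∪ famIn ∪ famOdd) : Finset (GolayPt → ℤ)) :
        Set (GolayPt → ℤ)))
      (fun y : leechLattice => (y : GolayPt → ℤ)) ?_ (fun _ _ _ _ h => Subtype.ext h)) ?_
    · intro y hy
      simp only [mem_coe, mem_insert, mem_union]
      rcases classify hy with rfl | e | e | e
      · exact Or.inl rfl
      · exact Or.inr (Or.inl (Or.inl e.2))
      · exact Or.inr (Or.inl (Or.inr e.2))
      · exact Or.inr (Or.inr e.2)
    · rw [Set.ncard_coe_finset]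
      refine le_trans (card_insert_le _ _) ?_
      have h1 := card_union_le (famOut ∪ famIn) famOdd
      have h2 := card_union_le famOut famIn
      rw [card_odd] at h1
      rw [card_out, card_in] at h2
      omega
  have hge := Set.ncard_le_ncard hOsub hfin
  have heq : O = pts := Set.eq_of_subset_of_ncard_le hOsub (by omega) hfin
  exact ⟨by omega, fun x hx => by rw [← heq] at hx; exact hx, _, y1, _, y2, _, y3, o1, o2, o3⟩

theorem mcl_2025 (v w : leechLattice) (hv : sqNorm (v : GolayPt → ℤ) = 32)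
    (hw : sqNorm (w : GolayPt → ℤ) = 32)
    (hd : dotInt (v : GolayPt → ℤ) (w : GolayPt → ℤ) = -8) (S : Set leechLattice)
    (hS : ∀ x : leechLattice, x ∈ S ↔ (sqNorm (x : GolayPt → ℤ) = 32 ∧
      dotInt (v : GolayPt → ℤ) (x : GolayPt → ℤ) = 0 ∧
      dotInt (w : GolayPt → ℤ) (x : GolayPt → ℤ) = 16)) :
    S.ncard = 2025 ∧ (∀ x ∈ S, ∀ x' ∈ S, ∃ g : Co0, g • v = v ∧ g • w = w ∧ g • x = x') ∧
    ∀ x ∈ S, ∃ y₁ ∈ S, ∃ y₂ ∈ S, ∃ y₃ ∈ S,
      (MulAction.orbit ↥(MulAction.stabilizer Co0 v ⊓ MulAction.stabilizer Co0 w ⊓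
        MulAction.stabilizer Co0 x) y₁).ncard = 330 ∧
      (MulAction.orbit ↥(MulAction.stabilizer Co0 v ⊓ MulAction.stabilizer Co0 w ⊓
        MulAction.stabilizer Co0 x) y₂).ncard = 462 ∧
      (MulAction.orbit ↥(MulAction.stabilizer Co0 v ⊓ MulAction.stabilizer Co0 w ⊓
        MulAction.stabilizer Co0 x) y₃).ncard = 1232 := by
  rw [sqNorm_eq_ldot] at hv hw
  have hd : ldot v w = -8 := hd
  have hn : ldot (-(pvU.w + Spor.leechV)) (-(pvU.w + Spor.leechV)) = 32 := by
    rw [leechLike.norm_neg, leechLike.norm_add, leechV_norm, pvU.norm,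
      ldot_comm, show ldot Spor.leechV pvU.w = -24 from pvU_dot]
    norm_num
  have hd' : ldot pvU.w (-(pvU.w + Spor.leechV)) = -8 := by
    rw [leechLike.neg_right, leechLike.add_right, pvU.norm, ldot_comm pvU.w,
      show ldot Spor.leechV pvU.w = -24 from pvU_dot]
    norm_num
  obtain ⟨g, h1, h2⟩ := pair_transitive_m8 golayUnique hv hw hd pvU.norm hn hd'
  have hfix : ∀ k : Co0, k ∈ pvU.group ↔
      (g⁻¹ * k * g) • v = v ∧ (g⁻¹ * k * g) • w = w := by
    intro k
    rw [mul_smul, mul_smul, mul_smul, mul_smul, h1, h2, inv_smul_eq_iff, inv_smul_eq_iff, h1, h2,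
      co0_neg, neg_inj, co0_add]
    constructor
    · rintro ⟨a1, a2⟩
      exact ⟨a2, by rw [show k • Spor.leechV = Spor.leechV from a1, show k • pvU.w = pvU.w from a2]⟩
    · rintro ⟨a1, a2⟩
      rw [a1, add_right_inj] at a2
      exact ⟨a2, a1⟩
  have hiff : ∀ x, x ∈ S ↔ g • x ∈ pts := by
    intro x
    rw [hS]
    show _ ↔ ldot (g • x) (g • x) = 32 ∧ ldot pvU.w (g • x) = 0 ∧ ldot Spor.leechV (g • x) = -16
    rw [sqNorm_eq_ldot, co0_dot, ← h1, co0_dot]
    have e : ldot Spor.leechV (g • x) = -ldot w x - ldot v x := by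
      have h2' : Spor.leechV = -(g • w) - g • v := by rw [h2, h1]; abel
      rw [h2', sub_eq_add_neg, leechLike.add_left, leechLike.neg_left, leechLike.neg_left, co0_dot,
        co0_dot]
      ring
    show ldot x x = 32 ∧ ldot v x = 0 ∧ ldot w x = 16 ↔ _
    rw [e]
    constructor
    · rintro ⟨a, b, c⟩; exact ⟨a, b, by rw [b, c]; rfl⟩
    · rintro ⟨a, b, c⟩; exact ⟨a, b, by linarith⟩
  obtain ⟨h2025, htr, y₁, hy₁, y₂, hy₂, y₃, hy₃, o1, o2, o3⟩ := main
  refine ⟨?_, fun x hx x' hx' => ?_, fun x hx => ?_⟩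
  · rw [← h2025, ← Set.ncard_image_of_injective S (MulAction.injective g)]
    congr 1
    ext y
    exact ⟨fun ⟨x, hx, e⟩ => e ▸ (hiff x).mp hx,
      fun hy => ⟨g⁻¹ • y, (hiff _).mpr (by rwa [smul_inv_smul]), smul_inv_smul g y⟩⟩
  · obtain ⟨a, ha, ha'⟩ := htr _ ((hiff x).mp hx)
    obtain ⟨b, hb, hb'⟩ := htr _ ((hiff x').mp hx')
    obtain ⟨e1, e2⟩ := (hfix _).mp (mul_mem hb (inv_mem ha))
    refine ⟨_, e1, e2, ?_⟩
    rw [mul_smul, mul_smul, mul_smul, ← ha', inv_smul_smul, hb', inv_smul_smul]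
  · obtain ⟨a, ha, ha'⟩ := htr _ ((hiff x).mp hx)
    set f : Co0 := a⁻¹ * g with hf
    have hfx : f • x = zBase := by rw [hf, mul_smul, ← ha', inv_smul_smul]
    have hgrp : ∀ k : Co0, k ∈ baseGrp ↔ f⁻¹ * k * f ∈ MulAction.stabilizer Co0 v ⊓
        MulAction.stabilizer Co0 w ⊓ MulAction.stabilizer Co0 x := by
      intro k
      have e : f⁻¹ * k * f = g⁻¹ * (a * k * a⁻¹) * g := by rw [hf]; group
      have h3 : (f⁻¹ * k * f) • x = x ↔ k • zBase = zBase := by
        rw [mul_smul, mul_smul, hfx, inv_smul_eq_iff, hfx]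
      show k ∈ pvU.group ∧ k • zBase = zBase ↔ ((f⁻¹ * k * f) • v = v ∧
        (f⁻¹ * k * f) • w = w) ∧ (f⁻¹ * k * f) • x = x
      rw [h3]
      refine and_congr_left' ?_
      rw [e, ← hfix]
      exact ⟨fun h => mul_mem (mul_mem ha h) (inv_mem ha), fun h => by
        have := mul_mem (mul_mem (inv_mem ha) h) ha
        simpa [mul_assoc] using this⟩
    have himg : ∀ y : leechLattice, (MulAction.orbit ↥(MulAction.stabilizer Co0 v ⊓ MulAction.stabilizer Co0 w ⊓
        MulAction.stabilizer Co0 x) (f⁻¹ • y)).ncard = (MulAction.orbit baseGrp y).ncard := by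
      intro y
      rw [← Set.ncard_image_of_injective (MulAction.orbit baseGrp y) (MulAction.injective f⁻¹)]
      congr 1
      ext z
      simp only [Set.mem_image, MulAction.mem_orbit_iff]
      constructor
      · rintro ⟨⟨k, hk⟩, rfl⟩
        refine ⟨(f * k * f⁻¹) • y, ⟨⟨_, (hgrp _).mpr (by simpa [mul_assoc] using hk)⟩, rfl⟩, ?_⟩
        show f⁻¹ • (f * k * f⁻¹) • y = k • f⁻¹ • y
        rw [smul_smul, smul_smul]; congr 1; group
      · rintro ⟨_, ⟨⟨k, hk⟩, rfl⟩, rfl⟩
        refine ⟨⟨_, (hgrp k).mp hk⟩, ?_⟩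
        show (f⁻¹ * k * f) • f⁻¹ • y = f⁻¹ • k • y
        rw [smul_smul, smul_smul]; congr 1; group
    have hmem : ∀ y ∈ pts, f⁻¹ • y ∈ S := by
      intro y hy
      rw [hiff, hf, mul_inv_rev, inv_inv, mul_smul, smul_inv_smul]
      refine ⟨by rw [co0_dot]; exact hy.1, ?_, ?_⟩
      · conv_lhs => rw [← (ha.2 : a • pvU.w = pvU.w)]
        rw [co0_dot]; exact hy.2.1
      · conv_lhs => rw [← (ha.1 : a • Spor.leechV = Spor.leechV)]
        rw [co0_dot]; exact hy.2.2
    exact ⟨f⁻¹ • y₁, hmem _ hy₁, f⁻¹ • y₂, hmem _ hy₂, f⁻¹ • y₃, hmem _ hy₃, (himg y₁).trans o1, (himg y₂).trans o2,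
      (himg y₃).trans o3⟩

end McL2025
end H96
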