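import Cfsg.Agent.H96.LeechMod
import Cfsg.Agent.H95.Orbits
import Cfsg.Agent.H95.Co0Centre
import Cfsg.Agent.H95.Co3Simple
import Cfsg.Agent.H95.PairModel

/-!
`Λ/2Λ` as a module for `Co0`: kernel and irreducibility.
-/

set_option autoImplicit false

namespace H96
namespace ModTwo

open Cfsg Finset H95

theorem exists_link {v w : leechLattice} (hv : ldot v v = 32) (hw : ldot w w = 32)
    (hd : ldot v w = 0) : ∃ x, ldot x x = 32 ∧ ldot v x = 16 ∧ ldot w x = 16 := by
  obtain ⟨g, h1, h2⟩ := orth_pair_transitive golayUnique hv hw hd vBase_norm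
    zBase_norm vBase_zBase
  set q : leechLattice := quad none (some 1) (by simp) 1 1 (Or.inl rfl) (Or.inl rfl) with hq
  have a : ldot vBase q = 16 := by rw [hq, ldot_quad, coe_vBase]; decide +kernel
  have b : ldot zBase q = 16 := by
    rw [hq, ldot_quad]; simp only [zBase, quad]; decide +kernel
  refine ⟨g⁻¹ • q, by rw [co0_dot, hq, quad_norm], ?_, ?_⟩
  · rw [← a, ← h1, ← co0_dot g v, smul_inv_smul]
  · rw [← b, ← h2, ← co0_dot g w, smul_inv_smul]

theorem faithful (g : Co0) (hg : ∀ v : leechLattice, ∃ w : leechLattice,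
    ((g • v : leechLattice) : GolayPt → ℤ) - (v : GolayPt → ℤ) = 2 • (w : GolayPt → ℤ)) :
    g ∈ Subgroup.center Co0 := by
  have hpm : ∀ v : leechLattice, ldot v v = 32 → g • v = v ∨ g • v = -v := by
    intro v hv
    obtain ⟨w, hw⟩ := hg v
    have hn : sqNorm ((g • v : leechLattice) : GolayPt → ℤ) = 32 := by
      rw [sqNorm_eq_ldot, co0_dot, hv]
    have hn' : sqNorm (v : GolayPt → ℤ) = 32 := by rw [sqNorm_eq_ldot, hv]
    rcases Lam.congr_cases (g • v).2 v.2 (by rw [hn]; norm_num) (by rw [hn']; norm_num)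
      ⟨_, w.2, hw⟩ with h | h | ⟨h, -, -⟩
    · exact Or.inl (Subtype.ext h)
    · exact Or.inr (Subtype.ext h)
    · rw [hn] at h; norm_num at h
  have step : ∀ v w : leechLattice, ldot v v = 32 → ldot w w = 32 → ldot v w ≠ 0 →
      g • v = v → g • w = w := by
    intro v w _ hw hd h
    rcases hpm w hw with h' | h'
    · exact h'
    · have e := co0_dot g v w
      rw [h, h', leechLike.neg_right] at e
      exact absurd (by linarith : ldot v w = 0) hd
  have key : ∀ v w : leechLattice, ldot v v = 32 → ldot w w = 32 → g • v = v → g • w = w := by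
    intro v w hv hw h
    by_cases hd : ldot v w = 0
    · obtain ⟨x, hx, h1, h2⟩ := exists_link hv hw hd
      exact step x w hx hw (by rw [ldot_comm, h2]; norm_num)
        (step v x hv hx (by rw [h1]; norm_num) h)
    · exact step v w hv hw hd h
  rcases hpm vBase vBase_norm with h | h
  · rw [co0_ext_min (g := g) (g' := 1) fun v hv => by rw [one_smul, key vBase v vBase_norm hv h]]
    exact one_mem _
  · rw [co0_ext_min (g := g) (g' := negOne) fun v hv => ?_]
    · exact negOne_mem_center
    · rw [negOne_smul]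
      rcases hpm v hv with h' | h'
      · exfalso
        have e := key v vBase hv vBase_norm h'
        rw [h] at e
        have := congrArg (fun x : leechLattice => (x : GolayPt → ℤ) none) e
        simp [coe_vBase] at this
      · exact h'

theorem irreducible (M : AddSubgroup (GolayPt → ℤ))
    (h2 : ∀ v ∈ leechLattice, (2 : ℤ) • v ∈ M) (hle : M ≤ leechLattice)
    (hinv : ∀ g : Co0, ∀ v : leechLattice, (v : GolayPt → ℤ) ∈ M →
      ((g • v : leechLattice) : GolayPt → ℤ) ∈ M) :
    (∀ x ∈ M, ∃ w ∈ leechLattice, x = (2 : ℤ) • w) ∨ M = leechLattice := by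
  classical
  by_cases hc : ∀ x ∈ M, ∃ w ∈ leechLattice, x = (2 : ℤ) • w
  · exact Or.inl hc
  right
  push Not at hc
  obtain ⟨x, hx, hne⟩ := hc
  obtain ⟨y, hy, hxy⟩ := leechLike.main.1 ⟨x, hle hx⟩
  obtain ⟨z, hz, hz'⟩ := mem_twice_leech.mp hxy
  have hyM : (y : GolayPt → ℤ) ∈ M := by
    have e : (y : GolayPt → ℤ) = x - (2 : ℤ) • z := by
      rw [AddSubgroup.coe_sub, ← natCast_zsmul, Nat.cast_ofNat] at hz'
      rw [← hz']; abel
    rw [e]; exact sub_mem hx (h2 z hz)
  have hy0 : y ≠ 0 := by
    intro h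
    apply hne z hz
    rw [h, sub_zero, ← natCast_zsmul, Nat.cast_ofNat] at hz'
    exact hz'
  have hcases : ldot y y = 32 ∨ ldot y y = 48 ∨ ldot y y = 64 := by
    have := leechLike.min32 y hy0
    have := leechLike.dvd16 y
    omega
  obtain ⟨m, hm, hmM⟩ : ∃ m : leechLattice, ldot m m = 32 ∧ (m : GolayPt → ℤ) ∈ M := by
    rcases hcases with h | h | h
    · exact ⟨y, h, hyM⟩
    · have hd : ldot Spor.leechV Spor.leechU' = -16 := by
        have := pvU'.dotV
        exact this.trans (by norm_num [pvU'])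
      have hn : ldot (Spor.leechV + Spor.leechU') (Spor.leechV + Spor.leechU') = 48 := by
        rw [leechLike.norm_add, leechV_norm, hd, show ldot Spor.leechU' Spor.leechU' = 32 from
          pvU'.norm]
        norm_num
      obtain ⟨g, hg⟩ := transitive_48 golayUnique h hn
      obtain ⟨g', hg'⟩ := transitive_48 golayUnique h leechV_norm
      refine ⟨g • y - g' • y, ?_, sub_mem (hinv g y hyM) (hinv g' y hyM)⟩
      rw [hg, hg', add_sub_cancel_left]
      exact pvU'.norm
    · set a : leechLattice := quad none (some 0) (by simp) 1 1 (Or.inl rfl) (Or.inl rfl) +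
        quad (some 1) (some 2) (by decide) 1 1 (Or.inl rfl) (Or.inl rfl) with ha
      set b : leechLattice := quad none (some 0) (by simp) 1 1 (Or.inl rfl) (Or.inl rfl) +
        quad (some 1) (some 3) (by decide) 1 1 (Or.inl rfl) (Or.inl rfl) with hb
      have hna : ldot a a = 64 := by
        rw [← sqNorm_eq_ldot, ha]; simp only [AddSubgroup.coe_add, quad]; decide +kernel
      have hnb : ldot b b = 64 := by
        rw [← sqNorm_eq_ldot, hb]; simp only [AddSubgroup.coe_add, quad]; decide +kernel
      obtain ⟨g, hg⟩ := Lam.transitive_64 h hna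
      obtain ⟨g', hg'⟩ := Lam.transitive_64 h hnb
      refine ⟨g • y - g' • y, ?_, sub_mem (hinv g y hyM) (hinv g' y hyM)⟩
      rw [hg, hg', ← sqNorm_eq_ldot, ha, hb]
      simp only [AddSubgroup.coe_add, AddSubgroup.coe_sub, quad]
      decide +kernel
  refine le_antisymm hle ?_
  rw [← leech_gen, AddSubgroup.closure_le]
  rintro v ⟨hv, hn⟩
  obtain ⟨g, hg⟩ := transitive_32 golayUnique hm (w := ⟨v, hv⟩)
    (by rw [← sqNorm_eq_ldot]; exact hn)
  have := hinv g m hmM
  rwa [hg] at this

end ModTwo
end H96
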