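import Cfsg.Agent.H96.LeechMod
import Cfsg.Agent.H95.Orbits

/-!
The invariant quadratic form on `Λ/2Λ`.
-/

set_option autoImplicit false

namespace H96
namespace ModTwo

open Cfsg Finset H95

theorem quad_form_unique (Q : leechLattice → ZMod 2) (hcoset : ∀ v w : leechLattice, Q (v + (w + w)) = Q v)
    (hquad : ∀ u v w : leechLattice,
      Q (u + v + w) + Q u + Q v + Q w = Q (u + v) + Q (u + w) + Q (v + w))
    (hinv : ∀ (g : Co0) (v : leechLattice), Q (g • v) = Q v) (hne : ∃ v : leechLattice, Q v ≠ 0)
    (v : leechLattice) : Q v = ((sqNorm (v : GolayPt → ℤ) / 16 : ℤ) : ZMod 2) := by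
  classical
  have two : ∀ t : ZMod 2, t + t = 0 := CharTwo.add_self_eq_zero
  have h0 : Q 0 = 0 := by
    have := hquad 0 0 0
    simp only [add_zero, two, zero_add] at this
    exact this.symm
  let B : leechLattice → leechLattice → ZMod 2 := fun x y => Q (x + y) + Q x + Q y
  have Badd : ∀ x y z, B x (y + z) = B x y + B x z := by
    intro x y z
    have h := hquad x y z
    simp only [B, ← add_assoc]
    generalize Q (x + y + z) = A, Q x = a, Q y = b, Q z = c, Q (x + y) = d, Q (x + z) = e,
      Q (y + z) = f at h ⊢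
    revert A a b c d e f
    decide
  set v0 := vBase with hv0
  set s : leechLattice := quad (some 0) (some 1) (by decide) 1 (-1) (Or.inl rfl) (Or.inr rfl) with hs
  set t : leechLattice := quad (some 1) (some 2) (by decide) 1 (-1) (Or.inl rfl) (Or.inr rfl) with ht
  set z : leechLattice := quad none (some 1) (by simp) (-1) 1 (Or.inr rfl) (Or.inl rfl) with hz
  set o : leechLattice := ⟨oddVec, oddVec_mem⟩ with ho
  have ns : ldot s s = 32 := quad_norm _ _ _
  have nt : ldot t t = 32 := quad_norm _ _ _
  have nz : ldot z z = 32 := quad_norm _ _ _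
  have no : ldot o o = 32 := by rw [← sqNorm_eq_ldot]; exact sqNorm_oddVec
  have nst : ldot (s + t) (s + t) = 32 := by
    rw [← sqNorm_eq_ldot, hs, ht]; simp only [AddSubgroup.coe_add, quad]; decide +kernel
  have nzo : ldot (z - o) (z - o) = 32 := by
    rw [← sqNorm_eq_ldot, hz, ho]; simp only [AddSubgroup.coe_sub, quad]; decide +kernel
  have dval : ∀ w : leechLattice,
      ldot v0 w = 4 * ((w : GolayPt → ℤ) none + (w : GolayPt → ℤ) (some 0)) := fun w => by
    rw [ldot_comm, hv0, ldot_vBase]; ring
  -- constants on the shells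
  set a := Q v0 with ha
  set b := Q (v0 + o) with hb
  set c := Q (v0 + t) with hc
  have dt : ldot v0 t = 0 := by rw [dval, ht]; simp only [quad]; decide +kernel
  have ds : ldot v0 s = 16 := by rw [dval, hs]; simp only [quad]; decide +kernel
  have dst : ldot v0 (s + t) = 16 := by rw [leechLike.add_right, ds, dt]; rfl
  have dzz : ldot v0 z = -16 := by rw [dval, hz]; simp only [quad]; decide +kernel
  have do' : ldot v0 o = -8 := by rw [dval, ho]; decide +kernel
  have dzo : ldot v0 (z - o) = -8 := by
    rw [sub_eq_add_neg, leechLike.add_right, leechLike.neg_right, dzz, do']; rfl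
  have qa : ∀ w, ldot w w = 32 → Q w = a := fun w hw => by
    obtain ⟨g, hg⟩ := transitive_32 golayUnique hw vBase_norm
    rw [← hinv g w, hg]
  have qb : ∀ w, ldot w w = 48 → Q w = b := fun w hw => by
    obtain ⟨g, hg⟩ := transitive_48 golayUnique hw (u' := v0 + o)
      (by rw [leechLike.norm_add, hv0, vBase_norm, no]; rw [hv0] at do'; rw [do']; norm_num)
    rw [← hinv g w, hg]
  have qc : ∀ w, ldot w w = 64 → Q w = c := fun w hw => by
    obtain ⟨g, hg⟩ := Lam.transitive_64 hw (w := v0 + t)
      (by rw [leechLike.norm_add, hv0, vBase_norm, nt]; rw [hv0] at dt; rw [dt]; norm_num)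
    rw [← hinv g w, hg]
  have Bneg : ∀ y, B v0 y = B v0 (-y) := by
    intro y
    have e1 := hcoset (v0 + -y) y
    rw [show v0 + -y + (y + y) = v0 + y by abel] at e1
    have e2 := hcoset (-y) y
    rw [show -y + (y + y) = y by abel] at e2
    simp only [B, e1, e2]
  have Bm16 : ∀ y, ldot y y = 32 → ldot v0 y = -16 → B v0 y = a := fun y hy hd => by
    simp only [B]
    rw [qa (v0 + y) (by rw [leechLike.norm_add, hv0, vBase_norm, hy]; rw [hv0] at hd; rw [hd]; norm_num),
      qa y hy, add_assoc, two, add_zero]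
  have Bp16 : ∀ y, ldot y y = 32 → ldot v0 y = 16 → B v0 y = a := fun y hy hd => by
    rw [Bneg]
    exact Bm16 _ (by rw [leechLike.norm_neg, hy]) (by rw [leechLike.neg_right, hd])
  have Bm8 : ∀ y, ldot y y = 32 → ldot v0 y = -8 → B v0 y = b := fun y hy hd => by
    simp only [B]
    rw [qb (v0 + y) (by rw [leechLike.norm_add, hv0, vBase_norm, hy]; rw [hv0] at hd; rw [hd]; norm_num),
      qa y hy, add_assoc, two, add_zero]
  have c0 : c = 0 := by
    have e := Badd v0 s t
    have eB : B v0 t = c := by simp only [B]; rw [qa t nt, add_assoc, two, add_zero]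
    rw [Bp16 (s + t) nst dst, Bp16 s ns ds, eB] at e
    simpa using e
  have a0 : a = 0 := by
    have e := Badd v0 o (z - o)
    rw [add_sub_cancel, Bm16 z nz dzz, Bm8 o no do', Bm8 _ nzo dzo, two] at e
    exact e
  have hrep : ∀ w : leechLattice, ∃ y : leechLattice, ldot y y ≤ 64 ∧ Q w = Q y ∧
      ((sqNorm (w : GolayPt → ℤ) / 16 : ℤ) : ZMod 2) = ((ldot y y / 16 : ℤ) : ZMod 2) := by
    intro w
    obtain ⟨y, hy, hm⟩ := leechLike.main.1 w
    obtain ⟨u, hu⟩ := mem_twice.mp hm
    rw [sub_eq_iff_eq_add', two_nsmul] at hu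
    refine ⟨y, hy, by rw [hu, hcoset], ?_⟩
    rw [sqNorm_eq_ldot, hu, ← two_nsmul, ZMod.intCast_eq_intCast_iff_dvd_sub, leechLike.norm_add,
      two_nsmul, leechLike.norm_add, leechLike.add_right]
    have := leechLike.dvd8 y u
    have := leechLike.dvd16 u
    have := leechLike.dvd16 y
    omega
  have hvals : ∀ y, ldot y y ≤ 64 → Q y = if ldot y y = 48 then b else 0 := by
    intro y hy
    by_cases hy0 : y = 0
    · rw [hy0, h0, leechLike.zero_left]; simp
    · have := leechLike.min32 y hy0
      have := leechLike.dvd16 y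
      split
      · exact qb y (by assumption)
      · have h : ldot y y = 32 ∨ ldot y y = 64 := by omega
        rcases h with h | h
        · rw [qa y h, a0]
        · rw [qc y h, c0]
  have b1 : b = 1 := by
    obtain ⟨w, hw⟩ := hne
    obtain ⟨y, hy, e, -⟩ := hrep w
    rw [e, hvals y hy] at hw
    split at hw
    · exact (zmod2_cases b).resolve_left hw
    · exact absurd rfl hw
  obtain ⟨y, hy, e, e'⟩ := hrep v
  rw [e, e', hvals y hy, b1]
  by_cases hy0 : y = 0
  · rw [hy0, leechLike.zero_left]; decide
  · have := leechLike.min32 y hy0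
    have := leechLike.dvd16 y
    have h : ldot y y = 32 ∨ ldot y y = 48 ∨ ldot y y = 64 := by omega
    rcases h with h | h | h <;> rw [h] <;> decide

end ModTwo
end H96
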