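import Mathlib

/-!
Certificate data: six involutions generating `L3(7):2` on the points and lines of the plane of order 7 (generated data).
-/

set_option autoImplicit false

namespace H96
namespace ONModel

/-- the images of a node, 8 bits each, for each generator -/
def packT : List ℕ := [0x2703301e0a1c32353117050826222e331d290e06180128361a0c212f191f07380d2b251214110f00101520162a2d0937042c241b2302340b1352425a6a3b626b696f566344405045605b71654f3f3d645747546e616c3e59555d6846484d394e4c494b5f51583a6d4366535e6741703c5c4a, 0x1d0a3719152c051a21130c2f3601103820301808020d172d23321206342e090f221c07311416330b1f0327242a262529002b111b350e1e0428626f653d554b584e6066545a6c404542394744434659516961493b71503e6a6e5f5b4c6d4d68573f63523c5c674a70535e4f566b3a485d6441, 0x20260e071a2c320b3128161f033301221b29300d372e17040a24213819081e2f062a3412131110150f0027052b230918361c0c1d2d02253514565d413a4f646b695f525c3d6c4550606847703b584462577166533e40616d55425b674a394d4e4c4b496f5e3f6a5943546e51465a653c6348, 0x270e371f020f2f31351308052622342b2029030c150d282d12062332101e092c0133251a1b161c0019181d112a3607300b382414210a2e0417406f44696350566a426b3b5a526245605b71654f3f57643d616e54474b4d4e4948394c5d3e685946556c705c5e413c53674358663a5f6d514a,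 0x1c0a1e300327323621280c011a2f1f382b19070d2508173526053122292e0e33061d181214110f0010152c241b2302340b20162a2d09370413623b6a5a42526b576e64543d47613e55686c595d4644566940636f50714565604f5b3f484d394e4c494b535e6741703c5c5f51583a6d43664a, 0x281537050a2c192321201e1f002206331329182e0e0d27041a3431103208160f012b24121b0938262f0317072a0b1130361c251435020c2d1d4b6f413d5862555742495e3a6c504560715b4a3f4f6a646968666739404d596b5f4753703e614e4356525d5c3b446d4c5446636e5a483c5165]

/-- the vectors of the 57 points (and lines), 16 bits each -/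
def packV : ℕ := 0x151012000ef00be008d005c002b014a011900e800b70086005500240143011200e100b0007f004e001d013c010b00da00a90078004700160135010400d300a200710040000f012e00fd00cc009b006a00390008012700f600c50094006300320001012d00fc00cb009a0069003800070031

/-- the point of a vector code, 8 bits each -/
def packP : ℕ := 0x10283018203802171322263531051e2f1434192a06251a37112e23032c36291f121c0433211b2d271507090c0d0a0b0e0011252e1a233703181020283830021f2c12361c2904261735133122052d332721151b07341e192f2a14060a090b0c0e0d0012292c1c1f360419141e2a342f0620301038182802271b33152d21072e372523111a03352217312613050b0d090e0a0c00132631172235051a112325372e03212d15331b2707281838103020022f342a1e141906361f1c2c2912040c0a0e090d0b00142a2f191e34061b152127332d0722311335172605291c36122c1f043038282010180237231a2e2511030d0e0c0b090a0015272d1b2133071c121f29362c04232e11371a25032a1934142f1e0631352622131705382018302810020e0b0a0d0c09000f242b161d3201160f1d24322b011d2b0f321624012416320f2b1d012b32241d0f1601321d162b240f0108080808080800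

/-- transvections as even words -/
def tvWords : List (Fin 3 × Fin 3 × List (Fin 6)) := [(0, 1, [4, 3, 2, 1, 3, 2, 3, 4, 2, 3, 1, 2, 3, 4, 5, 1, 2, 3, 4, 0, 1, 2]), (0, 2, [1, 2, 1, 3, 2, 1, 0, 3, 2, 1, 4, 3, 2, 3, 4, 1, 2, 3, 1, 2, 3, 4, 1, 2, 3, 0]), (1, 0, [0, 3, 2, 1, 3, 2, 3, 4, 2, 3, 1, 2, 3, 4, 5, 1, 2, 3, 0, 1, 2, 0]), (1, 2, [0, 1, 2, 1, 4, 3, 2, 1, 0, 3, 2, 1, 4, 3, 2, 3, 4, 1, 2, 3, 1, 2, 3, 1, 2, 3, 4, 3]), (2, 0, [1, 4, 3, 2, 1, 0, 3, 2, 3, 4, 3, 2, 3, 1, 2, 3, 4, 1, 2, 3, 2, 3, 1, 2, 3, 4]), (2, 1, [0, 1, 3, 2, 1, 0, 3, 2, 3, 4, 3, 2, 3, 1, 2, 3, 4, 1, 2, 3, 2, 3, 1, 2, 3, 0])]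

end ONModel
end H96
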