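import Mathlib
import Cfsg.Agent.H37.Generation
import Cfsg.Agent.H37.Card
import Cfsg.Agent.H93.GroupOrder
import Cfsg.Agent.H96.ONModelData

/-!
`L3(7):2` on 114 points and lines, generated by six involutions: a criterion for a group with six
generators to have a normal subgroup of index 2 isomorphic to `PSL(3,7)`.
-/

set_option autoImplicit false
set_option maxRecDepth 100000

namespace H96
namespace ONModel

open H93.Coset Matrix

abbrev F7 : Type := ZMod 7

instance : Fact (Nat.Prime 7) := ⟨by norm_num⟩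

/-- the image of a node -/
def img (g c : ℕ) : ℕ := Nat.land (Nat.shiftRight (packT.getD g 0) (8 * c)) 255

theorem img_ok : ∀ g : Fin 6, ∀ c : Fin 114, img g c < 114 ∧ img g (img g c) = c := by decide +kernel

/-- the permutation of a generator -/
def sigma (g : ℕ) : Equiv.Perm (Fin 114) :=
  if h : g < 6 then
    { toFun := fun c => ⟨img g c, (img_ok ⟨g, h⟩ c).1⟩
      invFun := fun c => ⟨img g c, (img_ok ⟨g, h⟩ c).1⟩
      left_inv := fun c => Fin.ext (img_ok ⟨g, h⟩ c).2
      right_inv := fun c => Fin.ext (img_ok ⟨g, h⟩ c).2 }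
  else 1

/-- the end of a path -/
def runI : List ℕ → ℕ → ℕ
  | [], c => c
  | g :: w, c => runI w (img g c)

theorem ev_sigma_apply (w : List ℕ) (hw : ∀ g ∈ w, g < 6) (c : Fin 114) :
    (ev sigma w c : ℕ) = runI w c := by
  induction w generalizing c with
  | nil => rfl
  | cons g w ih =>
    have hg : g < 6 := hw g (by simp)
    rw [ev, Equiv.Perm.mul_apply, ih (fun a ha => hw a (by simp [ha]))]
    show runI w (sigma g c : ℕ) = runI w (img g c)
    rw [sigma, dif_pos hg]
    rfl

/-- a relator holds in the model -/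
def relModel (w : List ℕ) : Bool :=
  w.all (fun g => decide (g < 6)) && (List.range 114).all fun c => Nat.beq (runI w c) c

theorem relModel_spec {w : List ℕ} (h : relModel w = true) : ev sigma w = 1 := by
  simp only [relModel, Bool.and_eq_true, List.all_eq_true, decide_eq_true_eq] at h
  ext c
  rw [ev_sigma_apply w h.1]
  exact Nat.eq_of_beq_eq_true (h.2 c (List.mem_range.mpr c.2))

/-- decoding -/
def vec (i : ℕ) : Fin 3 → F7 := fun k =>
  (((Nat.land (Nat.shiftRight packV (16 * i)) 65535) / 7 ^ k.val % 7 : ℕ) : F7)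

/-- the point of a vector -/
def pnt (v : Fin 3 → F7) : ℕ :=
  Nat.land (Nat.shiftRight packP (8 * ((v 0).val + 7 * (v 1).val + 49 * (v 2).val))) 255

theorem pnt_ok : ∀ i : Fin 57, ∀ s : F7, s ≠ 0 → pnt (s • vec i) = i := by decide +kernel

theorem pnt_zero : vec 56 ≠ 0 ∧ ∀ i : Fin 57, vec i ≠ 0 := by decide +kernel

/-- a permutation moves points and lines as a matrix does -/
def Good (p : Equiv.Perm (Fin 114) × Matrix.SpecialLinearGroup (Fin 3) F7) : Prop :=
  ∀ c : Fin 114,
    ((c : ℕ) < 57 → (p.1 c : ℕ) < 57 ∧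
      ∃ s : F7, s ≠ 0 ∧ (p.2 : Matrix (Fin 3) (Fin 3) F7) *ᵥ vec c = s • vec (p.1 c)) ∧
    (57 ≤ (c : ℕ) → 57 ≤ (p.1 c : ℕ) ∧
      ∃ s : F7, s ≠ 0 ∧ vec ((p.1 c : ℕ) - 57) ᵥ* (p.2 : Matrix (Fin 3) (Fin 3) F7) = s • vec ((c : ℕ) - 57))

/-- the word of a transvection -/
def tw (i : Fin 6) : List ℕ := ((tvWords.getD i.val (0, 0, [])).2.2).map fun g => g.val

/-- its matrix -/
def tm (i : Fin 6) : Matrix (Fin 3) (Fin 3) F7 :=
  1 + Matrix.single (tvWords.getD i.val (0, 0, [])).1 (tvWords.getD i.val (0, 0, [])).2.1 (1 : F7)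

theorem tij_ne : ∀ i : Fin 6, (tvWords.getD i.val (0, 0, [])).1 ≠ (tvWords.getD i.val (0, 0, [])).2.1 := by
  decide +kernel

/-- the check of a transvection word -/
def tvOK (i : Fin 6) : Bool :=
  (List.range 57).all (fun c =>
    decide (runI (tw i) c < 57) && decide (∃ s : F7, s ≠ 0 ∧ tm i *ᵥ vec c = s • vec (runI (tw i) c))) &&
  (List.range 57).all (fun c =>
    decide (57 ≤ runI (tw i) (c + 57)) &&
      decide (∃ s : F7, s ≠ 0 ∧ vec (runI (tw i) (c + 57) - 57) ᵥ* tm i = s • vec c))

theorem tv_ok : ∀ i, tvOK i = true := by decide +kernel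

theorem tw_letters : ∀ i, ∀ g ∈ tw i, g < 6 := by decide +kernel

/-- the transvection -/
def tS (i : Fin 6) : Matrix.SpecialLinearGroup (Fin 3) F7 :=
  Matrix.SpecialLinearGroup.transvection (tij_ne i) (1 : F7)

theorem tS_coe (i : Fin 6) : (tS i : Matrix (Fin 3) (Fin 3) F7) = tm i := rfl

/-- the pairs -/
def pairs : Set (Equiv.Perm (Fin 114) × Matrix.SpecialLinearGroup (Fin 3) F7) :=
  Set.range fun i : Fin 6 => (ev sigma (tw i), tS i)

/-- the group of the pairs -/
def Gam : Subgroup (Equiv.Perm (Fin 114) × Matrix.SpecialLinearGroup (Fin 3) F7) := Subgroup.closure pairs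

theorem good_of_mem {p : Equiv.Perm (Fin 114) × Matrix.SpecialLinearGroup (Fin 3) F7} (hp : p ∈ Gam) :
    Good p := by
  rw [Gam, ← Subgroup.mem_toSubmonoid, Subgroup.closure_toSubmonoid_of_finite] at hp
  induction hp using Submonoid.closure_induction with
  | one =>
    intro c
    simp only [Prod.fst_one, Prod.snd_one, Equiv.Perm.one_apply, Matrix.SpecialLinearGroup.coe_one]
    exact ⟨fun h => ⟨h, 1, one_ne_zero, by rw [one_mulVec, one_smul]⟩,
      fun h => ⟨h, 1, one_ne_zero, by rw [vecMul_one, one_smul]⟩⟩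
  | mem p hp =>
    obtain ⟨i, rfl⟩ := hp
    intro c
    have e : (ev sigma (tw i) c : ℕ) = runI (tw i) c := ev_sigma_apply _ (tw_letters i) c
    have h := tv_ok i
    simp only [tvOK, Bool.and_eq_true, List.all_eq_true, decide_eq_true_eq] at h
    show ((c : ℕ) < 57 → (ev sigma (tw i) c : ℕ) < 57 ∧ _) ∧ _
    simp only [tS_coe, e]
    refine ⟨fun hc => h.1 c (List.mem_range.mpr hc), fun hc => ?_⟩
    have h2 := h.2 ((c : ℕ) - 57) (List.mem_range.mpr (by omega))
    rwa [Nat.sub_add_cancel hc] at h2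
  | mul p q _ _ hp hq =>
    intro c
    simp only [Prod.fst_mul, Prod.snd_mul, Equiv.Perm.mul_apply, Matrix.SpecialLinearGroup.coe_mul]
    refine ⟨fun hc => ?_, fun hc => ?_⟩
    · obtain ⟨h1, s, hs, h2⟩ := (hq c).1 hc
      obtain ⟨h3, t, ht, h4⟩ := (hp _).1 h1
      exact ⟨h3, s * t, mul_ne_zero hs ht,
        by rw [← mulVec_mulVec, h2, mulVec_smul, h4, smul_smul]⟩
    · obtain ⟨h1, s, hs, h2⟩ := (hq c).2 hc
      obtain ⟨h3, t, ht, h4⟩ := (hp _).2 h1
      exact ⟨h3, t * s, mul_ne_zero ht hs,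
        by rw [← vecMul_vecMul, h4, smul_vecMul, h2, smul_smul]⟩

theorem gam_snd : Gam.map (MonoidHom.snd _ (Matrix.SpecialLinearGroup (Fin 3) F7)) = ⊤ := by
  refine H37.eq_top_of_transvection_mem _ fun i j hij c => ?_
  have hall : ∀ i j : Fin 3, i ≠ j → ∃ k : Fin 6,
      (tvWords.getD k.val (0, 0, [])).1 = i ∧ (tvWords.getD k.val (0, 0, [])).2.1 = j := by
    decide +kernel
  obtain ⟨k, h1, h2⟩ := hall i j hij
  subst h1 h2
  have hbase : tS k ∈ Gam.map (MonoidHom.snd _ (Matrix.SpecialLinearGroup (Fin 3) F7)) :=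
    ⟨_, Subgroup.subset_closure ⟨k, rfl⟩, rfl⟩
  have hn : ∀ n : ℕ, Matrix.SpecialLinearGroup.transvection hij ((n : ℕ) : F7) ∈
      Gam.map (MonoidHom.snd _ (Matrix.SpecialLinearGroup (Fin 3) F7)) := by
    intro n
    induction n with
    | zero =>
      rw [show Matrix.SpecialLinearGroup.transvection hij (((0 : ℕ)) : F7) = 1 from Subtype.ext (by
        show 1 + Matrix.single _ _ (((0 : ℕ)) : F7) = 1
        rw [Nat.cast_zero, Matrix.single_zero, add_zero])]
      exact one_mem _
    | succ n ih =>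
      convert mul_mem ih hbase using 1
      exact Subtype.ext (by
        show 1 + Matrix.single _ _ (((n + 1 : ℕ) : F7)) =
          (1 + Matrix.single _ _ ((n : ℕ) : F7)) * (1 + Matrix.single _ _ (1 : F7))
        rw [Matrix.mul_add, Matrix.mul_one, Matrix.add_mul, Matrix.one_mul,
          Matrix.single_mul_single_of_ne (c := ((n : ℕ) : F7)) (h := hij.symm), add_zero, add_assoc, ← Matrix.single_add,
          Nat.cast_succ])
  have := hn c.val
  rwa [ZMod.natCast_zmod_val] at this

/-- the image of `PSL(3,7)` -/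
def R : Subgroup (Equiv.Perm (Fin 114)) :=
  Gam.map (MonoidHom.fst _ (Matrix.SpecialLinearGroup (Fin 3) F7))

theorem card_psl : Nat.card (ProjectiveSpecialLinearGroup (Fin 3) F7) = 1876896 := by
  have h := H37.card_PSL_fin (F := F7) 3 (by norm_num)
  rw [Nat.card_zmod, Fin.prod_univ_three] at h
  norm_num at h
  rw [← Nat.card_eq_fintype_card] at h
  omega


/-- nodes of the standard basis and of the all-one vector -/
def nodeE : Fin 4 → ℕ :=
  ![pnt ![1, 0, 0], pnt ![0, 1, 0], pnt ![0, 0, 1], pnt ![1, 1, 1]]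

theorem nodeE_ok : ∀ k, nodeE k < 57 ∧
    vec (nodeE k) = (![![1, 0, 0], ![0, 1, 0], ![0, 0, 1], ![1, 1, 1]] : Fin 4 → Fin 3 → F7) k := by
  decide +kernel

theorem nonempty_R_equiv : Nonempty (R ≃* ProjectiveSpecialLinearGroup (Fin 3) F7) := by
  let π : Gam →* Equiv.Perm (Fin 114) := (MonoidHom.fst _ _).comp Gam.subtype
  let ψ : Gam →* ProjectiveSpecialLinearGroup (Fin 3) F7 :=
    (QuotientGroup.mk' _).comp ((MonoidHom.snd _ _).comp Gam.subtype)
  have hπ : π.range = R := by rw [MonoidHom.range_comp, Subgroup.range_subtype]; rfl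
  have hψ : Function.Surjective ψ := by
    refine (QuotientGroup.mk'_surjective _).comp fun x => ?_
    obtain ⟨p, hp, e⟩ := (by rw [gam_snd]; trivial :
      x ∈ Gam.map (MonoidHom.snd _ (Matrix.SpecialLinearGroup (Fin 3) F7)))
    exact ⟨⟨p, hp⟩, e⟩
  have hker : π.ker = ψ.ker := by
    ext p
    rw [MonoidHom.mem_ker, MonoidHom.mem_ker]
    show p.1.1 = 1 ↔ ((p.1.2 : Matrix.SpecialLinearGroup (Fin 3) F7) :
      ProjectiveSpecialLinearGroup (Fin 3) F7) = 1
    rw [QuotientGroup.eq_one_iff, Matrix.SpecialLinearGroup.mem_center_iff]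
    have hg := good_of_mem p.2
    constructor
    · intro h
      have hfix : ∀ k, ∃ s : F7, (p.1.2 : Matrix (Fin 3) (Fin 3) F7) *ᵥ vec (nodeE k) = s • vec (nodeE k) := by
        intro k
        obtain ⟨-, s, -, hs⟩ := (hg ⟨nodeE k, by have := (nodeE_ok k).1; omega⟩).1 (nodeE_ok k).1
        rw [h, Equiv.Perm.one_apply] at hs
        exact ⟨s, hs⟩
      choose s hs using hfix
      set M : Matrix (Fin 3) (Fin 3) F7 := (p.1.2 : Matrix (Fin 3) (Fin 3) F7) with hM
      have h0 := hs 0
      have h1 := hs 1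
      have h2 := hs 2
      have h3 := hs 3
      rw [(nodeE_ok _).2] at h0 h1 h2 h3
      have key : M = Matrix.scalar (Fin 3) (s 3) := by
        have a0 := fun i => congrFun h0 i
        have a1 := fun i => congrFun h1 i
        have a2 := fun i => congrFun h2 i
        have a3 := fun i => congrFun h3 i
        simp [Matrix.mulVec, dotProduct, Fin.sum_univ_three] at a0 a1 a2 a3
        ext i j
        have b0 := a0 i
        have b1 := a1 i
        have b2 := a2 i
        have b3 := a3 i
        have c0 := a3 0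
        have c1 := a3 1
        have c2 := a3 2
        have d01 := a0 1; have d02 := a0 2; have d10 := a1 0; have d12 := a1 2
        have d20 := a2 0; have d21 := a2 1
        have d00 := a0 0; have d11 := a1 1; have d22 := a2 2
        fin_cases i <;> fin_cases j <;> simp_all [Matrix.scalar_apply]
      refine ⟨s 3, ?_, key.symm⟩
      have hdet := p.1.2.2
      rw [← hM, key] at hdet
      simpa [Matrix.det_diagonal, Matrix.scalar_apply] using hdet
    · rintro ⟨r, hr, hrM⟩
      have hr0 : r ≠ 0 := by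
        intro e
        rw [e, zero_pow (by simp)] at hr
        exact zero_ne_one hr
      refine Equiv.ext fun c => Fin.ext ?_
      rw [Equiv.Perm.one_apply]
      rcases Nat.lt_or_ge c.val 57 with hc | hc
      · obtain ⟨h1, s, hs, h2⟩ := (hg c).1 hc
        rw [← hrM, Matrix.scalar_apply, ← Matrix.smul_one_eq_diagonal, smul_mulVec, one_mulVec] at h2
        have := pnt_ok ⟨c.val, hc⟩ r hr0
        rw [show r • vec c.val = _ from h2, pnt_ok ⟨_, h1⟩ s hs] at this
        exact this
      · obtain ⟨h1, s, hs, h2⟩ := (hg c).2 hc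
        rw [← hrM, Matrix.scalar_apply, ← Matrix.smul_one_eq_diagonal, vecMul_smul, vecMul_one] at h2
        have hlt : (p.1.1 c : ℕ) - 57 < 57 := by have := (p.1.1 c).2; omega
        have hlt' : (c : ℕ) - 57 < 57 := by have := c.2; omega
        have := pnt_ok ⟨_, hlt⟩ r hr0
        rw [show r • vec ((p.1.1 c : ℕ) - 57) = _ from h2, pnt_ok ⟨_, hlt'⟩ s hs] at this
        simp only at this
        omega
  exact ⟨((MulEquiv.subgroupCongr hπ.symm).trans (QuotientGroup.quotientKerEquivRange π).symm).trans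
    ((QuotientGroup.quotientMulEquivOfEq hker).trans (QuotientGroup.quotientKerEquivOfSurjective ψ hψ))⟩

theorem card_R : Nat.card R = 1876896 := by
  obtain ⟨e⟩ := nonempty_R_equiv
  rw [Nat.card_congr e.toEquiv, card_psl]

theorem odd_node : ∀ g : Fin 6, (sigma g ⟨0, by norm_num⟩ : ℕ) ≥ 57 := by
  intro g
  have h : ∀ g : Fin 6, img g 0 ≥ 57 := by decide +kernel
  rw [sigma, dif_pos g.2]
  exact h g

/-- A subgroup `H = ⟨gen 0, …, gen 5⟩` of the right order has a normal subgroup of index 2 isomorphic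
to `PSL(3,7)` when the pairs (generator, model) generate a group that is not larger. -/
theorem exists_normal {G : Type*} [Group G] (gen : ℕ → G) {H : Subgroup G}
    (hH : H = Subgroup.closure (gen '' {g | g < 6})) (hcard : Nat.card H = 3753792)
    (hΓ : Finite (Subgroup.closure ((fun g => (gen g, sigma g)) '' {g | g < 6})) ∧
      Nat.card (Subgroup.closure ((fun g => (gen g, sigma g)) '' {g | g < 6})) ≤ 3753792) :
    ∃ N : Subgroup H, N.Normal ∧ N.index = 2 ∧
      Nonempty (N ≃* ProjectiveSpecialLinearGroup (Fin 3) F7) := by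
  set P := Subgroup.closure ((fun g => (gen g, sigma g)) '' {g | g < 6}) with hP
  haveI := hΓ.1
  have hfst : P.map (MonoidHom.fst G (Equiv.Perm (Fin 114))) = H := by
    rw [hH, hP, MonoidHom.map_closure, Set.image_image]
    rfl
  let φ : P →* H := ((MonoidHom.fst G (Equiv.Perm (Fin 114))).comp P.subtype).codRestrict H
    fun p => hfst ▸ ⟨p.1, p.2, rfl⟩
  have hφ : Function.Surjective φ := by
    intro x
    have hx : (x : G) ∈ P.map (MonoidHom.fst G (Equiv.Perm (Fin 114))) := by rw [hfst]; exact x.2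
    obtain ⟨p, hp, e⟩ := hx
    exact ⟨⟨p, hp⟩, Subtype.ext e⟩
  have hφb : Function.Bijective φ := by
    rw [Nat.bijective_iff_surjective_and_card]
    refine ⟨hφ, le_antisymm (hΓ.2.trans hcard.ge) ?_⟩
    exact Nat.card_le_card_of_surjective φ hφ
  let e : P ≃* H := MulEquiv.ofBijective φ hφb
  let θ : P →* Equiv.Perm (Fin 114) := (MonoidHom.snd G _).comp P.subtype
  have hgen : ∀ g, g < 6 → (gen g, sigma g) ∈ P := fun g hg => Subgroup.subset_closure ⟨g, hg, rfl⟩
  have hsg : ∀ g, g < 6 → sigma g ∈ θ.range := fun g hg => ⟨⟨_, hgen g hg⟩, rfl⟩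
  have hR : R ≤ θ.range := by
    rw [R, Gam, MonoidHom.map_closure, Subgroup.closure_le]
    rintro _ ⟨_, ⟨i, rfl⟩, rfl⟩
    exact ev_mem θ.range _ fun g hg => hsg g (tw_letters i g hg)
  have hne : R ≠ θ.range := by
    intro h
    have h0 : sigma 0 ∈ R := by rw [h]; exact hsg 0 (by norm_num)
    obtain ⟨p, hp, hp1⟩ := h0
    have h1 := ((good_of_mem hp) ⟨0, by norm_num⟩).1 (by norm_num)
    rw [show p.1 = sigma 0 from hp1] at h1
    have := odd_node 0
    simp only [Fin.val_zero] at this
    omega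
  have hle : Nat.card θ.range ≤ 3753792 :=
    (Nat.card_le_card_of_surjective θ.rangeRestrict θ.rangeRestrict_surjective).trans hΓ.2
  have hdvd : Nat.card R ∣ Nat.card θ.range := Subgroup.card_dvd_of_le hR
  have hlt : Nat.card R < Nat.card θ.range := by
    refine lt_of_le_of_ne (Subgroup.card_le_of_le hR) fun e' => hne ?_
    exact Subgroup.eq_of_le_of_card_ge hR e'.ge
  have hθcard : Nat.card θ.range = 3753792 := by
    rw [card_R] at hdvd hlt
    obtain ⟨k, hk⟩ := hdvd
    omega
  have hθ : Function.Injective θ := by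
    have hb : Function.Bijective θ.rangeRestrict := by
      rw [Nat.bijective_iff_surjective_and_card]
      refine ⟨θ.rangeRestrict_surjective, ?_⟩
      rw [Nat.card_eq_of_bijective φ hφb, hcard, hθcard]
    exact fun a b h => hb.1 (Subtype.ext h)
  obtain ⟨eR⟩ := nonempty_R_equiv
  let N : Subgroup H := (R.comap θ).map e.toMonoidHom
  have e1 : R.comap θ ≃* R :=
    (Subgroup.equivMapOfInjective _ θ hθ).trans
      (MulEquiv.subgroupCongr (Subgroup.map_comap_eq_self hR))
  have hNcard : Nat.card N = 1876896 := by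
    rw [← card_R, ← Nat.card_congr e1.toEquiv]
    exact (Nat.card_congr (Subgroup.equivMapOfInjective _ e.toMonoidHom e.injective).toEquiv).symm
  have hidx : N.index = 2 := by
    have h := Subgroup.card_mul_index N
    rw [hNcard, hcard] at h
    omega
  exact ⟨N, Subgroup.normal_of_index_eq_two hidx, hidx,
    ⟨((Subgroup.equivMapOfInjective _ e.toMonoidHom e.injective).symm.trans e1).trans eR⟩⟩

end ONModel
end H96
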