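import Mathlib
import Cfsg.Agent.H93.ONOrder
import Cfsg.Agent.H96.ONModel

/-!
The subgroup of the presented O'Nan group generated by the six involutions is `L3(7):2`.
-/

set_option autoImplicit false

namespace H96
namespace ONSubL37

open H93.ON (gen H known known_spec gen_sq mB)
open ONModel (sigma relModel)

/-- the generators paired with the model -/
noncomputable def pg (k : ℕ) : Cfsg.Spor.ON × Equiv.Perm (Fin 114) := (gen k, sigma k)

theorem ev_prod (f : ℕ → Cfsg.Spor.ON) (s : ℕ → Equiv.Perm (Fin 114)) : ∀ w : List ℕ,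
    H93.Coset.ev (fun k => (f k, s k)) w = (H93.Coset.ev f w, H93.Coset.ev s w)
  | [] => rfl
  | g :: w => by rw [H93.Coset.ev, ev_prod f s w, Prod.mk_mul_mk]; rfl

theorem ev_map' (m : ℕ → ℕ) : ∀ w : List ℕ,
    H93.Coset.ev (fun k => sigma (m k)) w = H93.Coset.ev sigma (w.map m)
  | [] => rfl
  | g :: w => by rw [List.map_cons, H93.Coset.ev, H93.Coset.ev, ev_map' m w]

theorem pg_sq {k : ℕ} (hk : k < 6) : pg k * pg k = 1 := by
  refine Prod.ext (gen_sq hk) ?_
  have h : ∀ k < 6, relModel [k, k] = true := by decide +kernel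
  have := ONModel.relModel_spec (h k hk)
  simpa [pg, H93.Coset.ev] using this

theorem step {D : H93.Coset.Data} (ht : H93.Coset.Tables D) (m : ℕ → ℕ) (hm : ∀ g < D.ng, m g < 6)
    (hr : (D.words.take D.nrel).all (fun w => known m w && relModel (w.map m)) = true)
    {L : Subgroup (Cfsg.Spor.ON × Equiv.Perm (Fin 114))} [Finite L]
    (hs : ∀ w ∈ D.words.drop D.nrel, H93.Coset.ev (fun k => pg (m k)) w ∈ L) :
    Finite (Subgroup.closure ((fun k => pg (m k)) '' {g | g < D.ng})) ∧
      Nat.card (Subgroup.closure ((fun k => pg (m k)) '' {g | g < D.ng})) ≤ D.n * Nat.card L :=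
  H93.Coset.card_le_of_table ht (fun g hg => pg_sq (hm g hg))
    (fun w hw => by
      have h := List.all_eq_true.mp hr w hw
      rw [Bool.and_eq_true] at h
      show H93.Coset.ev (fun k => (gen (m k), sigma (m k))) w = 1
      rw [ev_prod (fun k => gen (m k)) (fun k => sigma (m k)), known_spec h.1, ev_map',
        ONModel.relModel_spec h.2]
      rfl) hs

theorem pairs_le : Finite (Subgroup.closure (pg '' {g | g < 6})) ∧
    Nat.card (Subgroup.closure (pg '' {g | g < 6})) ≤ 3753792 := by
  obtain ⟨fc, hc⟩ := step H93.ONHC.tables id (by decide) (by decide +kernel)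
    (L := (⊥ : Subgroup (Cfsg.Spor.ON × Equiv.Perm (Fin 114)))) (by
      have hnil : H93.ONHC.data.words.drop H93.ONHC.data.nrel = [] := by decide +kernel
      intro w hw; rw [hnil] at hw; simp at hw)
  haveI := fc
  obtain ⟨fb, hb⟩ := step H93.ONHB.tables mB (by decide) (by decide +kernel)
    (L := Subgroup.closure ((fun k => pg (id k)) '' {g | g < H93.ONHC.data.ng})) (by
      intro w hw
      obtain ⟨k, hk, rfl, hm⟩ := (show ∀ w ∈ H93.ONHB.data.words.drop H93.ONHB.data.nrel,
        ∃ k < 3, w = [k] ∧ mB k = k by decide +kernel) w hw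
      refine Subgroup.subset_closure ⟨k, hk, ?_⟩
      simp [H93.Coset.ev, hm])
  haveI := fb
  obtain ⟨fa, ha⟩ := step H93.ONHA.tables id (by decide) (by decide +kernel)
    (L := Subgroup.closure ((fun k => pg (mB k)) '' {g | g < H93.ONHB.data.ng})) (by
      intro w hw
      obtain ⟨k, hk, rfl⟩ := (show ∀ w ∈ H93.ONHA.data.words.drop H93.ONHA.data.nrel,
        ∃ k < 5, w = [mB k] by decide +kernel) w hw
      refine Subgroup.subset_closure ⟨k, hk, ?_⟩
      simp [H93.Coset.ev])
  rw [Subgroup.card_bot] at hc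
  refine ⟨fa, ha.trans ?_⟩
  calc H93.ONHA.data.n * _ ≤ H93.ONHA.data.n * (H93.ONHB.data.n * (H93.ONHC.data.n * 1)) :=
        Nat.mul_le_mul le_rfl (hb.trans (Nat.mul_le_mul le_rfl hc))
    _ ≤ 3753792 := by decide +kernel

theorem card_H : Nat.card H = 3753792 := by
  have h := H.index_mul_card
  rw [H93.ON.index_H, H93.ON.card_ON_and_core.1] at h
  omega

theorem exists_normal : ∃ N : Subgroup H, N.Normal ∧ N.index = 2 ∧
    Nonempty (N ≃* Matrix.ProjectiveSpecialLinearGroup (Fin 3) (ZMod 7)) :=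
  ONModel.exists_normal gen rfl card_H pairs_le

end ONSubL37
end H96
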