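import Mathlib

/-! Certificate: orbits of the Higman–Sims group on 11178 minimal vectors. -/

set_option autoImplicit false

namespace H96
namespace Rank5

/-- two permutations fixing positions 23 and 0 -/
def permA : ℕ := 978952898200990581702570994848488032
/-- the second -/
def permB : ℕ := 976788691531687226168340721061535072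

/-- eight times the matrix of one further element -/
def matG : List (List ℤ) := [
    [6, 0, 0, 0, 0, 2, 2, 2, 0, 0, 0, 0, 0, 2, 0, 0, 2, 2, 0, 0, 0, 0, 0, -2],
    [0, 2, 2, -2, 2, 0, 0, 0, -2, 2, 2, 2, 2, 0, -2, -2, 0, 0, -2, 2, -2, 2, 2, 0],
    [0, 2, -2, 2, -2, 0, 0, 0, 2, 2, 2, 2, -2, 0, -2, -2, 0, 0, 2, -2, 2, 2, 2, 0],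
    [2, 0, 0, 0, 0, -2, -2, -2, 0, 0, 0, 0, 0, -2, 0, 0, 6, -2, 0, 0, 0, 0, 0, 2],
    [0, 2, 2, 2, -2, 0, 0, 0, 2, -2, 2, -2, 2, 0, 2, -2, 0, 0, -2, 2, 2, 2, -2, 0],
    [0, -2, -2, 2, 2, 0, 0, 0, -2, 2, 2, -2, -2, 0, 2, 2, 0, 0, -2, 2, 2, 2, 2, 0],
    [0, -2, 2, 2, 2, 0, 0, 0, -2, -2, 2, 2, 2, 0, -2, 2, 0, 0, 2, -2, 2, 2, -2, 0],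
    [0, -2, 2, 2, -2, 0, 0, 0, 2, 2, -2, 2, 2, 0, -2, 2, 0, 0, -2, 2, 2, -2, 2, 0],
    [0, 2, -2, -2, 2, 0, 0, 0, 2, 2, -2, 2, 2, 0, 2, 2, 0, 0, -2, -2, 2, 2, -2, 0],
    [2, 0, 0, 0, 0, -2, -2, -2, 0, 0, 0, 0, 0, -2, 0, 0, -2, 6, 0, 0, 0, 0, 0, 2],
    [2, 0, 0, 0, 0, -2, -2, 6, 0, 0, 0, 0, 0, -2, 0, 0, -2, -2, 0, 0, 0, 0, 0, 2],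
    [2, 0, 0, 0, 0, 6, -2, -2, 0, 0, 0, 0, 0, -2, 0, 0, -2, -2, 0, 0, 0, 0, 0, 2],
    [2, 0, 0, 0, 0, -2, -2, -2, 0, 0, 0, 0, 0, 6, 0, 0, -2, -2, 0, 0, 0, 0, 0, 2],
    [0, -2, -2, 2, 2, 0, 0, 0, 2, -2, -2, 2, 2, 0, 2, -2, 0, 0, 2, 2, -2, 2, 2, 0],
    [2, 0, 0, 0, 0, -2, 6, -2, 0, 0, 0, 0, 0, -2, 0, 0, -2, -2, 0, 0, 0, 0, 0, 2],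
    [0, 2, 2, 2, 2, 0, 0, 0, 2, -2, 2, 2, -2, 0, 2, 2, 0, 0, -2, -2, -2, -2, 2, 0],
    [0, -2, 2, -2, 2, 0, 0, 0, 2, 2, 2, 2, -2, 0, 2, -2, 0, 0, 2, 2, 2, -2, -2, 0],
    [0, -2, 2, -2, -2, 0, 0, 0, 2, 2, 2, -2, 2, 0, 2, 2, 0, 0, 2, -2, -2, 2, 2, 0],
    [0, 2, 2, 2, -2, 0, 0, 0, -2, 2, -2, 2, -2, 0, 2, 2, 0, 0, 2, 2, -2, 2, -2, 0],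
    [0, 2, -2, 2, 2, 0, 0, 0, 2, 2, 2, -2, 2, 0, -2, 2, 0, 0, 2, 2, -2, -2, -2, 0],
    [0, 2, -2, -2, -2, 0, 0, 0, -2, -2, 2, 2, 2, 0, 2, 2, 0, 0, 2, 2, 2, -2, 2, 0],
    [0, 2, 2, -2, 2, 0, 0, 0, 2, -2, -2, -2, -2, 0, -2, 2, 0, 0, 2, 2, 2, 2, 2, 0],
    [0, 2, 2, 2, 2, 0, 0, 0, -2, 2, -2, -2, 2, 0, 2, -2, 0, 0, 2, -2, 2, -2, 2, 0],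
    [-2, 0, 0, 0, 0, 2, 2, 2, 0, 0, 0, 0, 0, 2, 0, 0, 2, 2, 0, 0, 0, 0, 0, 6]]

/-- first vector, product 32 -/
def seedOne : ℕ := 509180079030512128733313188413841668

/-- tree, a part -/
def certOne0 : List ℕ := [
    0]

/-- tree -/
def certOne : List ℕ :=
  certOne0

/-- first vector, product 16 -/
def seedE : ℕ := 426103411075444363617961866831339718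

/-- tree, a part -/
def certE0 : List ℕ := [
    7, 3, 3, 3, 3, 3, 3, 3, 3, 3, 3, 3, 3, 3, 3, 3, 3, 3, 3, 3, 3, 3, 3, 3, 3,
    3, 3, 3, 3, 3, 3, 0, 3, 3, 3, 3, 1, 2, 3, 3, 3, 3, 3, 3, 3, 3, 3, 3, 3, 3,
    3, 3, 3, 3, 3, 3, 3, 3, 3, 2, 3, 3, 3, 3, 3, 3, 3, 3, 3, 2, 3, 3, 3, 1, 3,
    3, 3, 3, 3, 1, 3, 3, 3, 3, 3, 2, 3, 3, 3, 3, 2, 0, 3, 3, 2, 3, 3, 3, 3, 3,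
    2, 2, 3, 1, 3, 3, 3, 1, 3, 3, 3, 2, 2, 3, 3, 3, 1, 2, 3, 3, 1, 3, 2, 1, 2,
    3, 7, 3, 2, 3, 3, 3, 3, 2, 2, 2, 3, 3, 3, 1, 3, 2, 3, 3, 3, 3, 3, 3, 3, 3,
    3, 3, 3, 3, 3, 3, 3, 3, 3, 3, 3, 2, 3, 3, 3, 3, 3, 2, 3, 2, 3, 2, 1, 1, 3,
    3, 3, 2, 2, 3, 3, 3, 1, 3, 3, 3, 2, 1, 1, 2, 3, 2, 2, 3, 3, 2, 3, 1, 2, 3]

/-- tree, a part -/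
def certE1 : List ℕ := [
    3, 3, 1, 1, 3, 0, 3, 2, 3, 1, 0, 3, 2, 3, 1, 3, 2, 2, 3, 2, 3, 1, 0, 1, 1,
    3, 2, 3, 2, 1, 2, 3, 3, 0, 0, 1, 0, 1, 0, 0, 3, 1, 1, 3, 0, 1, 2, 3, 3, 1,
    2, 1, 1, 1, 0, 1, 2, 3, 2, 3, 3, 3, 3, 3, 3, 3, 3, 3, 3, 3, 3, 3, 3, 3, 3,
    3, 3, 1, 3, 2, 3, 3, 3, 3, 2, 0, 3, 1, 3, 3, 1, 3, 3, 3, 3, 3, 3, 3, 2, 3,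
    3, 1, 3, 2, 0, 3, 3, 2, 3, 0, 3, 3, 3, 0, 1, 1, 2, 3, 2, 2, 2, 2, 3, 1, 1,
    0, 0, 1, 2, 3, 0, 3, 0, 3, 1, 0, 3, 3, 3, 1, 0, 1, 2, 1, 1, 0, 2, 3, 0, 3,
    1, 0, 0, 1, 3, 3, 3, 0, 2, 0, 2, 1, 2, 3, 0, 3, 0, 1, 0, 2, 0, 2, 1, 3, 0,
    0, 0, 1, 3, 0, 1, 2, 3, 3, 1, 3, 0, 0, 3, 0, 1, 1, 2, 2, 3, 0, 3, 0, 0, 0]

/-- tree, a part -/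
def certE2 : List ℕ := [
    2, 2, 3, 0, 2, 0, 1, 2, 3, 2, 2, 1, 1, 1, 1, 3, 3, 0, 3, 1, 2, 3, 3, 1, 1,
    3, 1, 3, 3, 3, 3, 3, 2, 3, 0, 3, 3, 3, 1, 3, 3, 3, 3, 3, 2, 0, 3, 3, 1, 1,
    1, 1, 3, 3, 3, 3, 0, 3, 3, 1, 3, 1, 3, 2, 2, 3, 3, 2, 3, 1, 2, 3, 2, 2, 2,
    2, 3, 3, 3, 1, 3, 2, 3, 0, 0, 1, 3, 3, 0, 3, 3, 1, 2, 1, 1, 1, 3, 0, 1, 1,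
    3, 1, 3, 0, 3, 2, 0, 2, 1, 3, 3, 1, 3, 3, 3, 1, 2, 0, 2, 0, 2, 0, 1, 3, 0,
    2, 2, 2, 2, 2, 0, 3, 1, 1, 0, 1, 0, 0, 1, 0, 2, 2, 2, 0, 1, 1, 0, 0, 2, 1,
    0, 2, 0, 2, 1, 0, 0, 1, 0, 0, 1, 2, 0, 0, 3, 1, 0, 0, 0, 2, 0, 0, 2, 0, 2,
    2, 0, 0, 0, 0, 1, 0, 0, 0, 0, 0, 2, 2, 1, 0, 0, 0, 1, 1, 3, 1, 0, 0, 0, 0]

/-- tree, a part -/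
def certE3 : List ℕ := [
    0, 0, 0, 0, 0, 0, 1, 0, 0, 0, 0, 0, 2, 0, 0, 1, 0, 0, 3, 0, 3, 3, 3, 3, 3,
    0, 3, 1, 3, 3, 3, 3, 0, 3, 3, 2, 2, 2, 2, 1, 1, 2, 1, 1, 3, 3, 3, 2, 3, 1,
    3, 1, 2, 2, 2, 2, 3, 1, 1, 1, 1, 3, 3, 1, 2, 1, 3, 1, 0, 3, 3, 2, 2, 3, 1,
    2, 2, 3, 0, 3, 2, 3, 3, 2, 2, 2, 3, 2, 2, 0, 1, 2, 2, 0, 3, 3, 3, 0, 0, 3,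
    2, 2, 3, 2, 2, 0, 2, 1, 2, 0, 2, 1, 3, 0, 3, 2, 1, 0, 3, 1, 0, 2, 0, 0, 1,
    2, 1, 0, 3, 0, 1, 0, 0, 0, 0, 1, 1, 1, 0, 0, 3, 2, 0, 0, 1, 1, 1, 2, 1, 2,
    2, 1, 0, 1, 0, 0, 0, 0, 0, 0, 2, 1, 2, 0, 0, 0, 0, 0, 1, 0, 0, 0, 0, 0, 0,
    0, 2, 0, 0, 0, 0, 0, 0, 0, 2, 0, 0, 0, 0, 0, 1, 0, 2, 0, 0, 0, 0, 3, 3, 1]

/-- tree, a part -/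
def certE4 : List ℕ := [
    0, 0, 0, 0, 0, 0, 2, 3, 3, 1, 3, 2, 3, 1, 3, 1, 0, 1, 0, 0, 1, 2, 2, 1, 0,
    0, 3, 2, 0, 0, 0, 2, 0, 2, 1, 1, 0, 0, 0, 1, 0, 2, 0, 3, 0, 2, 1, 0, 0, 1,
    0, 0, 0, 2, 2, 2, 0, 0, 0, 0, 3, 2, 2, 2, 2, 0, 0, 0, 0, 1, 1, 2, 1, 1, 1,
    0, 0, 0, 3, 3, 0, 0, 0, 1, 0, 0, 2, 0, 3, 0, 2, 1, 0, 2, 0, 1, 0, 0, 0, 0,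
    3, 0, 2, 0, 0, 2, 1, 2, 3, 2, 0, 1, 1, 0, 0, 0, 0, 0, 0, 0, 3, 3, 2, 2, 1,
    0, 0, 3, 0, 3, 2, 0, 1, 3, 0, 0, 0, 3, 2, 0, 0, 0, 0, 0, 3, 0, 0, 3, 1, 2,
    0, 0, 1, 0, 0, 0, 0, 0, 0, 0, 0, 3, 1, 0, 0, 1, 0, 0, 0, 1, 0, 1, 0, 3, 1,
    0, 3, 0, 0, 0, 0, 0, 0, 0, 0, 0, 2, 0, 0, 0, 2, 0, 0, 0, 2, 0, 2, 0, 0, 0]

/-- tree, a part -/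
def certE5 : List ℕ := [
    0, 1, 1, 0, 3, 0, 0, 0, 0, 1, 1, 0, 0, 0, 3, 0, 2, 0, 0, 2, 0, 2, 1, 0, 1,
    0, 0, 0, 0, 0, 0, 0, 0, 0, 0, 0, 0, 0, 0, 0, 0, 0, 0, 0, 1, 0, 0, 0, 0, 0,
    0, 2, 0, 0, 0, 1, 0, 0, 0, 0, 1, 0, 0, 1, 0, 3, 3, 0, 0, 0, 0, 0, 0, 0, 0,
    0, 0, 0, 0, 0, 0, 0, 0, 0, 0, 0, 0, 0, 0, 0, 0, 0, 0, 0, 0, 0, 0, 0, 0, 0]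

/-- tree -/
def certE : List ℕ :=
  certE0 ++ certE1 ++ certE2 ++ certE3 ++ certE4 ++ certE5

/-- first vector, product 8 -/
def seedC : ℕ := 385904902002072352501470609792015591

/-- tree, a part -/
def certC0 : List ℕ := [
    7, 3, 3, 3, 3, 3, 3, 3, 3, 3, 3, 3, 3, 3, 3, 3, 3, 3, 3, 3, 3, 3, 3, 3, 3,
    3, 3, 3, 3, 3, 7, 3, 3, 3, 3, 3, 3, 3, 3, 3, 3, 3, 3, 3, 3, 3, 3, 2, 3, 3,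
    3, 3, 3, 3, 3, 3, 3, 3, 3, 3, 3, 3, 3, 3, 3, 3, 3, 3, 3, 3, 3, 3, 3, 3, 3,
    3, 3, 3, 1, 3, 3, 3, 3, 3, 3, 3, 3, 3, 3, 3, 3, 3, 3, 3, 3, 2, 3, 3, 3, 3,
    3, 3, 3, 3, 3, 3, 3, 3, 3, 3, 3, 3, 3, 3, 1, 3, 3, 3, 3, 3, 3, 3, 3, 3, 3,
    1, 3, 3, 3, 3, 3, 3, 3, 3, 3, 3, 3, 3, 3, 3, 3, 1, 0, 3, 3, 3, 3, 3, 3, 3,
    3, 3, 3, 2, 3, 3, 3, 3, 3, 3, 3, 3, 3, 3, 3, 3, 3, 3, 3, 3, 3, 3, 3, 3, 3,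
    3, 3, 3, 3, 3, 3, 3, 3, 1, 3, 3, 3, 3, 3, 3, 1, 2, 3, 3, 3, 3, 3, 3, 1, 2]

/-- tree, a part -/
def certC1 : List ℕ := [
    3, 3, 3, 3, 3, 3, 3, 3, 3, 3, 3, 3, 3, 3, 2, 3, 3, 3, 3, 1, 3, 3, 3, 3, 3,
    3, 3, 3, 3, 3, 3, 3, 3, 3, 1, 2, 2, 3, 3, 3, 3, 2, 3, 3, 3, 3, 3, 1, 3, 2,
    2, 3, 3, 1, 3, 1, 3, 3, 3, 3, 3, 3, 2, 1, 3, 3, 3, 2, 3, 3, 3, 0, 0, 3, 3,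
    1, 3, 1, 1, 3, 3, 1, 1, 3, 2, 3, 3, 1, 3, 2, 3, 1, 1, 3, 3, 2, 1, 3, 3, 3,
    0, 3, 3, 2, 3, 3, 1, 0, 3, 3, 3, 1, 2, 3, 3, 3, 3, 3, 3, 3, 3, 3, 3, 3, 3,
    3, 3, 3, 3, 3, 3, 3, 3, 3, 3, 3, 2, 3, 3, 3, 3, 3, 3, 1, 3, 3, 3, 3, 3, 3,
    3, 3, 3, 3, 3, 3, 3, 3, 3, 3, 3, 3, 3, 3, 3, 3, 3, 3, 3, 3, 3, 3, 3, 3, 3,
    3, 1, 3, 3, 1, 2, 3, 1, 1, 3, 2, 3, 3, 3, 2, 3, 3, 2, 3, 3, 3, 1, 3, 2, 3]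

/-- tree, a part -/
def certC2 : List ℕ := [
    0, 1, 3, 3, 3, 3, 3, 3, 1, 3, 2, 3, 3, 3, 3, 1, 3, 1, 3, 1, 3, 1, 3, 3, 3,
    2, 3, 0, 3, 0, 3, 0, 3, 3, 1, 2, 3, 2, 3, 2, 3, 2, 1, 3, 3, 3, 1, 2, 3, 2,
    3, 3, 3, 3, 3, 3, 3, 3, 1, 1, 1, 1, 3, 1, 0, 3, 3, 3, 3, 3, 2, 3, 3, 1, 3,
    3, 3, 0, 0, 3, 2, 1, 1, 1, 0, 1, 2, 3, 3, 3, 1, 2, 2, 3, 3, 3, 3, 3, 3, 3,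
    3, 3, 3, 3, 1, 3, 3, 3, 2, 2, 3, 3, 3, 3, 1, 3, 3, 3, 3, 1, 3, 1, 2, 1, 0,
    1, 3, 3, 3, 2, 2, 2, 2, 1, 2, 2, 1, 2, 3, 0, 1, 1, 3, 3, 2, 1, 3, 3, 3, 3,
    3, 1, 1, 2, 1, 2, 0, 1, 1, 3, 3, 0, 3, 1, 2, 0, 3, 3, 2, 2, 3, 1, 1, 0, 3,
    1, 3, 3, 3, 3, 3, 3, 3, 3, 3, 3, 3, 3, 3, 3, 3, 3, 3, 3, 3, 3, 3, 3, 3, 2]

/-- tree, a part -/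
def certC3 : List ℕ := [
    3, 3, 3, 2, 3, 3, 1, 3, 1, 3, 3, 3, 3, 3, 3, 3, 3, 3, 3, 3, 3, 3, 3, 3, 3,
    3, 3, 3, 3, 3, 3, 3, 3, 3, 3, 3, 3, 2, 3, 3, 3, 3, 3, 3, 3, 1, 3, 1, 3, 3,
    3, 3, 3, 3, 3, 2, 2, 3, 3, 3, 3, 3, 3, 3, 3, 3, 3, 3, 1, 3, 3, 3, 3, 3, 3,
    3, 3, 3, 3, 3, 3, 3, 3, 3, 3, 3, 1, 3, 3, 3, 3, 3, 3, 3, 3, 3, 3, 1, 3, 3,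
    3, 1, 1, 3, 1, 1, 0, 3, 2, 2, 1, 3, 3, 3, 3, 0, 0, 3, 0, 1, 1, 1, 0, 3, 3,
    1, 3, 3, 3, 1, 2, 1, 1, 0, 0, 2, 1, 0, 3, 1, 2, 2, 3, 2, 1, 1, 3, 0, 3, 3,
    0, 0, 1, 3, 3, 0, 3, 2, 2, 1, 1, 3, 1, 3, 3, 2, 3, 3, 2, 0, 0, 1, 2, 3, 3,
    0, 3, 3, 2, 2, 0, 3, 3, 0, 2, 3, 0, 3, 1, 0, 0, 2, 3, 1, 1, 2, 2, 1, 1, 3]

/-- tree, a part -/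
def certC4 : List ℕ := [
    2, 3, 3, 3, 3, 0, 0, 2, 2, 0, 2, 3, 2, 1, 1, 3, 2, 2, 2, 3, 0, 0, 2, 3, 2,
    1, 1, 3, 2, 2, 2, 2, 1, 3, 1, 1, 1, 0, 3, 0, 3, 3, 0, 3, 0, 3, 3, 3, 1, 3,
    1, 1, 3, 0, 0, 3, 0, 2, 0, 0, 3, 2, 3, 3, 1, 1, 2, 0, 3, 0, 1, 0, 0, 1, 3,
    3, 2, 0, 3, 3, 3, 1, 1, 3, 3, 3, 3, 2, 3, 3, 3, 3, 3, 3, 1, 3, 0, 0, 3, 1,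
    3, 0, 0, 3, 3, 3, 1, 3, 1, 0, 0, 1, 1, 3, 2, 0, 0, 2, 2, 3, 2, 0, 3, 2, 2,
    1, 1, 3, 0, 1, 1, 2, 3, 0, 0, 1, 3, 3, 3, 0, 0, 0, 3, 0, 2, 0, 3, 1, 0, 2,
    1, 3, 3, 3, 1, 1, 1, 2, 1, 3, 0, 0, 1, 0, 1, 1, 1, 1, 0, 0, 3, 2, 1, 1, 2,
    3, 0, 0, 0, 3, 0, 3, 0, 3, 1, 3, 1, 0, 3, 3, 2, 2, 1, 0, 3, 3, 3, 1, 3, 3]

/-- tree, a part -/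
def certC5 : List ℕ := [
    3, 3, 3, 3, 3, 3, 3, 3, 3, 3, 3, 3, 3, 3, 3, 3, 3, 3, 3, 3, 1, 3, 2, 1, 3,
    3, 3, 2, 3, 3, 3, 3, 3, 3, 3, 3, 2, 2, 3, 3, 3, 3, 3, 3, 1, 1, 3, 2, 3, 3,
    3, 3, 3, 2, 3, 3, 3, 3, 2, 3, 3, 3, 2, 3, 3, 3, 3, 3, 3, 3, 3, 3, 3, 3, 3,
    1, 1, 3, 3, 3, 3, 0, 3, 1, 3, 1, 3, 3, 3, 3, 3, 3, 3, 1, 3, 3, 3, 3, 1, 3,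
    3, 3, 3, 1, 3, 3, 3, 2, 2, 3, 3, 2, 3, 3, 3, 1, 3, 3, 3, 0, 3, 3, 3, 3, 3,
    3, 2, 3, 3, 1, 3, 3, 3, 3, 3, 3, 3, 2, 3, 3, 1, 3, 1, 3, 3, 3, 3, 3, 3, 3,
    3, 3, 3, 3, 3, 3, 3, 3, 1, 3, 3, 3, 3, 1, 1, 3, 3, 3, 3, 3, 2, 0, 3, 3, 3,
    3, 3, 3, 1, 3, 2, 1, 3, 3, 3, 3, 3, 3, 3, 3, 3, 3, 3, 2, 3, 3, 3, 1, 3, 3]

/-- tree, a part -/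
def certC6 : List ℕ := [
    1, 3, 3, 3, 3, 3, 3, 3, 3, 3, 3, 1, 3, 0, 1, 1, 3, 3, 3, 3, 3, 3, 2, 1, 3,
    0, 0, 1, 1, 0, 2, 1, 3, 1, 0, 2, 0, 2, 1, 0, 0, 1, 2, 0, 1, 2, 3, 1, 0, 3,
    1, 2, 1, 1, 0, 0, 2, 2, 3, 2, 1, 0, 2, 1, 0, 0, 2, 2, 1, 1, 1, 2, 0, 2, 0,
    2, 0, 3, 0, 0, 1, 0, 3, 1, 0, 0, 3, 1, 0, 2, 0, 3, 0, 1, 1, 0, 0, 0, 0, 2,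
    1, 0, 0, 0, 3, 1, 0, 3, 0, 0, 1, 1, 0, 1, 1, 0, 0, 2, 2, 2, 0, 2, 2, 1, 1,
    0, 0, 1, 0, 0, 2, 3, 2, 0, 0, 0, 0, 1, 0, 2, 0, 0, 3, 0, 0, 3, 3, 2, 0, 3,
    3, 0, 0, 0, 3, 0, 0, 0, 1, 1, 1, 3, 2, 0, 0, 0, 0, 0, 0, 0, 3, 0, 2, 1, 0,
    2, 0, 2, 2, 0, 2, 1, 0, 0, 0, 0, 2, 0, 2, 0, 0, 0, 0, 0, 0, 1, 0, 2, 3, 0]

/-- tree, a part -/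
def certC7 : List ℕ := [
    2, 2, 0, 0, 0, 3, 0, 1, 0, 1, 1, 0, 2, 0, 0, 2, 3, 0, 0, 0, 0, 2, 0, 1, 0,
    0, 2, 0, 0, 0, 0, 2, 3, 3, 3, 3, 3, 3, 3, 3, 3, 3, 3, 3, 3, 3, 3, 3, 3, 3,
    3, 2, 3, 3, 3, 3, 2, 3, 3, 1, 1, 2, 0, 0, 0, 0, 2, 0, 0, 2, 0, 0, 0, 0, 0,
    0, 2, 0, 0, 3, 1, 0, 1, 0, 0, 3, 0, 0, 2, 1, 0, 0, 0, 0, 2, 0, 1, 0, 0, 0,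
    1, 0, 0, 0, 1, 0, 0, 2, 1, 1, 1, 2, 1, 0, 0, 1, 0, 0, 0, 0, 0, 2, 1, 0, 0,
    2, 0, 0, 1, 1, 0, 2, 2, 0, 0, 2, 1, 1, 1, 0, 0, 0, 0, 2, 0, 1, 0, 0, 0, 0,
    0, 0, 0, 0, 0, 3, 1, 2, 0, 3, 2, 2, 3, 3, 3, 3, 3, 3, 3, 1, 1, 3, 3, 1, 2,
    3, 2, 3, 3, 3, 3, 2, 3, 3, 3, 1, 3, 1, 3, 3, 3, 3, 3, 2, 1, 3, 3, 3, 3, 3]

/-- tree, a part -/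
def certC8 : List ℕ := [
    3, 3, 3, 1, 3, 3, 3, 3, 1, 3, 3, 3, 3, 3, 3, 2, 1, 3, 3, 3, 3, 3, 2, 3, 2,
    1, 3, 3, 3, 1, 3, 3, 3, 3, 3, 3, 3, 1, 2, 3, 3, 1, 2, 1, 2, 3, 1, 3, 3, 3,
    1, 3, 3, 3, 2, 1, 3, 1, 3, 2, 3, 3, 3, 3, 3, 2, 1, 3, 3, 2, 3, 2, 0, 3, 1,
    1, 1, 3, 1, 2, 3, 1, 3, 3, 3, 3, 3, 3, 3, 3, 3, 2, 3, 1, 1, 2, 2, 3, 3, 3,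
    3, 2, 3, 3, 3, 2, 2, 3, 3, 3, 3, 3, 1, 3, 3, 3, 1, 1, 3, 2, 3, 1, 3, 3, 3,
    3, 3, 2, 3, 3, 2, 2, 3, 3, 2, 3, 3, 3, 2, 3, 3, 3, 3, 2, 3, 2, 1, 3, 1, 3,
    3, 3, 1, 3, 3, 3, 3, 2, 2, 3, 2, 3, 0, 2, 3, 2, 3, 3, 3, 3, 3, 3, 3, 3, 1,
    1, 3, 3, 3, 3, 3, 1, 3, 3, 3, 3, 1, 3, 2, 3, 2, 3, 3, 1, 3, 1, 3, 3, 1, 3]

/-- tree, a part -/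
def certC9 : List ℕ := [
    3, 1, 1, 1, 2, 3, 3, 3, 3, 3, 3, 3, 3, 2, 2, 3, 3, 1, 1, 3, 1, 2, 2, 2, 3,
    3, 3, 3, 3, 3, 3, 2, 3, 0, 3, 3, 2, 3, 3, 1, 2, 3, 2, 1, 1, 3, 3, 1, 3, 2,
    1, 0, 1, 3, 3, 2, 3, 3, 3, 3, 3, 3, 1, 3, 3, 3, 3, 2, 3, 3, 3, 3, 3, 3, 1,
    2, 3, 3, 2, 3, 3, 2, 0, 3, 1, 3, 1, 3, 3, 3, 3, 1, 1, 3, 0, 3, 2, 3, 3, 1,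
    1, 3, 3, 3, 3, 2, 1, 3, 3, 3, 3, 3, 1, 1, 3, 3, 3, 0, 3, 2, 3, 3, 1, 2, 0,
    3, 3, 3, 3, 3, 3, 3, 2, 3, 3, 3, 3, 3, 1, 3, 3, 0, 2, 1, 0, 1, 2, 3, 3, 2,
    1, 3, 1, 1, 3, 3, 3, 3, 2, 3, 3, 2, 1, 2, 3, 3, 1, 2, 3, 0, 0, 0, 0, 1, 0,
    0, 0, 0, 0, 0, 0, 0, 2, 0, 0, 3, 3, 2, 2, 0, 0, 0, 0, 0, 0, 2, 0, 1, 0, 0]

/-- tree, a part -/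
def certC10 : List ℕ := [
    1, 0, 2, 1, 2, 0, 0, 0, 0, 0, 1, 0, 0, 2, 0, 0, 0, 2, 0, 1, 0, 0, 0, 0, 0,
    2, 0, 2, 0, 0, 0, 0, 0, 0, 0, 0, 0, 0, 0, 0, 0, 0, 2, 0, 0, 0, 0, 0, 0, 0,
    0, 2, 2, 2, 0, 1, 0, 2, 0, 1, 0, 0, 2, 0, 0, 2, 0, 0, 0, 0, 2, 2, 0, 1, 0,
    0, 0, 0, 0, 1, 1, 0, 0, 0, 0, 0, 0, 1, 3, 0, 0, 0, 0, 0, 0, 3, 3, 3, 3, 3,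
    3, 3, 3, 3, 3, 3, 3, 3, 3, 3, 1, 3, 3, 3, 3, 3, 3, 3, 1, 3, 2, 1, 3, 1, 3,
    3, 1, 3, 3, 3, 3, 3, 2, 1, 3, 3, 3, 3, 3, 3, 3, 2, 3, 1, 3, 3, 3, 3, 3, 0,
    1, 0, 2, 0, 0, 0, 0, 0, 0, 0, 0, 1, 1, 0, 0, 0, 0, 0, 0, 0, 0, 0, 0, 0, 0,
    0, 0, 0, 0, 2, 0, 0, 0, 0, 1, 0, 0, 0, 0, 0, 0, 1, 3, 1, 3, 1, 3, 1, 3, 2]

/-- tree, a part -/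
def certC11 : List ℕ := [
    0, 2, 2, 2, 1, 0, 3, 2, 3, 3, 2, 3, 0, 2, 3, 3, 2, 2, 3, 3, 3, 1, 3, 3, 3,
    3, 1, 0, 1, 1, 3, 0, 3, 3, 3, 2, 3, 3, 3, 3, 3, 2, 0, 3, 3, 0, 3, 1, 0, 3,
    3, 1, 3, 2, 2, 3, 0, 2, 3, 0, 1, 3, 3, 1, 3, 2, 3, 2, 3, 3, 3, 3, 3, 2, 3,
    2, 3, 2, 3, 3, 2, 3, 3, 2, 1, 3, 3, 3, 1, 3, 1, 3, 3, 3, 3, 3, 1, 3, 3, 0,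
    1, 0, 3, 2, 2, 3, 3, 3, 3, 3, 3, 3, 3, 3, 1, 3, 2, 3, 3, 3, 1, 1, 3, 3, 1,
    0, 3, 1, 1, 3, 3, 3, 3, 3, 3, 3, 1, 0, 1, 3, 0, 0, 3, 0, 1, 3, 3, 2, 3, 1,
    2, 1, 3, 2, 1, 3, 2, 1, 3, 1, 2, 3, 1, 1, 3, 3, 3, 3, 3, 2, 0, 3, 3, 2, 0,
    0, 3, 3, 3, 3, 3, 2, 2, 3, 1, 3, 3, 3, 3, 0, 3, 0, 1, 3, 3, 1, 1, 1, 2, 3]

/-- tree, a part -/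
def certC12 : List ℕ := [
    3, 3, 3, 3, 3, 2, 1, 1, 1, 3, 2, 3, 1, 3, 2, 3, 0, 1, 3, 3, 3, 0, 3, 3, 3,
    3, 2, 1, 1, 3, 0, 3, 3, 1, 3, 3, 3, 3, 3, 3, 2, 1, 3, 3, 1, 0, 3, 3, 0, 3,
    3, 1, 2, 1, 2, 2, 3, 1, 0, 2, 3, 2, 3, 1, 1, 3, 3, 1, 3, 3, 3, 2, 1, 3, 0,
    1, 1, 3, 1, 3, 1, 3, 2, 3, 3, 3, 1, 3, 3, 3, 0, 1, 2, 1, 3, 2, 1, 3, 1, 0,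
    3, 2, 1, 2, 1, 3, 3, 3, 0, 3, 3, 1, 1, 3, 2, 3, 2, 0, 1, 3, 0, 3, 2, 0, 1,
    2, 3, 2, 1, 3, 1, 0, 2, 1, 1, 2, 2, 1, 1, 0, 3, 3, 2, 3, 3, 3, 0, 3, 1, 1,
    1, 3, 1, 0, 1, 3, 3, 0, 3, 3, 1, 3, 0, 3, 0, 1, 1, 3, 3, 3, 3, 3, 3, 3, 0,
    3, 0, 1, 3, 0, 3, 1, 0, 2, 3, 3, 2, 1, 1, 3, 3, 3, 3, 3, 1, 2, 3, 1, 1, 0]

/-- tree, a part -/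
def certC13 : List ℕ := [
    0, 2, 2, 1, 1, 3, 3, 2, 3, 1, 3, 0, 2, 3, 3, 3, 2, 3, 0, 2, 2, 2, 2, 1, 0,
    1, 1, 1, 3, 1, 1, 3, 3, 2, 3, 3, 0, 3, 3, 1, 0, 3, 2, 0, 2, 3, 1, 3, 3, 2,
    0, 0, 0, 1, 1, 3, 2, 0, 2, 1, 3, 2, 2, 2, 3, 2, 3, 0, 1, 1, 1, 2, 3, 3, 2,
    0, 3, 0, 3, 3, 3, 3, 2, 3, 1, 3, 1, 3, 3, 3, 3, 2, 1, 3, 3, 2, 3, 1, 1, 0,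
    1, 3, 3, 3, 2, 0, 1, 3, 2, 3, 2, 3, 0, 3, 1, 3, 0, 2, 3, 3, 3, 3, 3, 1, 1,
    3, 3, 2, 1, 0, 3, 2, 1, 3, 0, 0, 3, 2, 2, 1, 3, 0, 3, 1, 3, 3, 3, 3, 0, 3,
    2, 3, 3, 3, 2, 3, 1, 2, 3, 0, 2, 3, 0, 3, 1, 3, 3, 1, 1, 3, 1, 3, 1, 1, 2,
    0, 1, 1, 2, 3, 1, 2, 1, 1, 1, 3, 3, 0, 2, 1, 1, 2, 3, 1, 3, 3, 3, 2, 3, 0]

/-- tree, a part -/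
def certC14 : List ℕ := [
    3, 2, 3, 3, 3, 1, 1, 2, 2, 3, 0, 1, 3, 1, 2, 3, 1, 3, 0, 0, 2, 2, 2, 3, 3,
    3, 3, 3, 0, 1, 1, 2, 3, 0, 3, 1, 3, 1, 3, 2, 1, 1, 0, 1, 3, 0, 1, 0, 3, 2,
    2, 0, 0, 0, 0, 0, 0, 0, 0, 0, 0, 0, 0, 0, 0, 0, 0, 0, 0, 0, 0, 0, 0, 0, 0,
    0, 0, 0, 0, 0, 0, 0, 0, 0, 0, 0, 0, 0, 3, 1, 3, 3, 3, 1, 2, 3, 3, 1, 3, 1,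
    3, 3, 2, 3, 3, 3, 3, 3, 3, 3, 1, 2, 0, 3, 3, 1, 2, 3, 2, 3, 3, 3, 3, 3, 3,
    3, 3, 2, 1, 3, 3, 1, 3, 3, 1, 3, 3, 2, 0, 2, 1, 2, 3, 3, 0, 3, 2, 1, 2, 1,
    0, 3, 3, 3, 1, 3, 2, 3, 3, 0, 1, 3, 1, 1, 1, 3, 1, 2, 2, 1, 1, 2, 3, 3, 1,
    3, 3, 3, 3, 3, 2, 3, 3, 3, 3, 3, 0, 0, 0, 0, 0, 0, 3, 1, 2, 1, 3, 0, 1, 1]

/-- tree, a part -/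
def certC15 : List ℕ := [
    3, 1, 1, 0, 1, 2, 0, 3, 3, 2, 1, 2, 3, 3, 0, 2, 3, 3, 2, 1, 1, 3, 3, 3, 3,
    3, 3, 2, 0, 0, 1, 0, 1, 2, 1, 2, 0, 3, 1, 1, 2, 0, 3, 0, 0, 2, 0, 1, 3, 0,
    1, 1, 0, 3, 2, 1, 3, 2, 2, 3, 3, 2, 1, 3, 2, 2, 3, 0, 3, 2, 2, 2, 1, 2, 2,
    1, 1, 0, 2, 3, 0, 1, 1, 3, 1, 1, 0, 2, 2, 2, 0, 0, 3, 2, 3, 1, 3, 0, 3, 2,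
    1, 3, 3, 1, 2, 3, 2, 1, 2, 2, 1, 3, 3, 1, 1, 0, 3, 2, 3, 2, 0, 3, 2, 2, 3,
    2, 1, 0, 0, 3, 1, 3, 1, 3, 3, 0, 1, 0, 3, 2, 0, 3, 3, 0, 1, 1, 1, 3, 3, 3,
    1, 3, 2, 1, 2, 2, 3, 2, 3, 1, 1, 1, 1, 3, 1, 3, 1, 1, 0, 0, 2, 3, 0, 3, 1,
    1, 0, 3, 0, 0, 0, 2, 3, 1, 3, 0, 3, 2, 2, 1, 2, 2, 3, 1, 1, 2, 2, 0, 3, 2]

/-- tree, a part -/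
def certC16 : List ℕ := [
    2, 3, 3, 3, 2, 3, 0, 0, 2, 3, 0, 0, 3, 3, 1, 1, 2, 1, 2, 1, 1, 1, 2, 2, 2,
    1, 1, 3, 2, 2, 2, 1, 1, 0, 3, 0, 1, 3, 1, 0, 2, 2, 0, 0, 3, 3, 3, 2, 2, 2,
    1, 3, 2, 0, 2, 0, 3, 2, 0, 3, 2, 3, 0, 1, 3, 3, 3, 3, 2, 3, 1, 1, 2, 2, 3,
    2, 3, 2, 2, 0, 2, 2, 1, 1, 0, 1, 1, 2, 3, 1, 1, 3, 0, 0, 2, 3, 3, 2, 0, 1,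
    1, 2, 1, 1, 2, 2, 1, 1, 2, 1, 0, 3, 2, 3, 2, 2, 3, 2, 1, 0, 2, 2, 0, 3, 3,
    2, 1, 1, 3, 3, 2, 1, 1, 1, 1, 0, 2, 1, 0, 1, 0, 1, 0, 2, 1, 2, 1, 3, 1, 3,
    3, 2, 0, 3, 3, 3, 0, 1, 1, 1, 2, 0, 1, 2, 2, 2, 1, 0, 0, 1, 2, 2, 2, 0, 2,
    3, 3, 3, 3, 0, 2, 2, 3, 1, 0, 0, 0, 3, 2, 2, 0, 1, 0, 2, 2, 3, 0, 1, 0, 0]

/-- tree, a part -/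
def certC17 : List ℕ := [
    2, 1, 0, 1, 1, 2, 0, 0, 3, 1, 3, 0, 2, 1, 3, 2, 0, 3, 2, 1, 2, 0, 1, 3, 0,
    0, 1, 3, 0, 3, 2, 2, 2, 0, 1, 0, 3, 0, 1, 2, 2, 0, 2, 2, 1, 0, 0, 0, 3, 3,
    0, 2, 0, 2, 3, 0, 1, 3, 0, 0, 2, 3, 3, 0, 2, 0, 1, 3, 2, 0, 2, 2, 1, 3, 1,
    2, 2, 2, 2, 2, 3, 2, 2, 1, 0, 3, 0, 1, 0, 3, 0, 2, 0, 0, 3, 1, 1, 3, 2, 1,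
    1, 0, 0, 0, 0, 2, 0, 3, 3, 1, 3, 3, 3, 1, 0, 1, 1, 0, 1, 0, 1, 0, 2, 1, 2,
    0, 3, 3, 3, 3, 1, 2, 3, 1, 0, 3, 1, 3, 0, 0, 2, 0, 2, 0, 0, 2, 2, 2, 3, 3,
    0, 0, 2, 3, 0, 2, 0, 3, 1, 0, 1, 0, 1, 2, 1, 2, 1, 1, 0, 0, 0, 3, 0, 1, 0,
    1, 0, 0, 0, 1, 1, 1, 3, 0, 2, 2, 0, 0, 1, 1, 0, 1, 0, 0, 0, 0, 3, 3, 0, 2]

/-- tree, a part -/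
def certC18 : List ℕ := [
    2, 1, 2, 2, 0, 3, 3, 2, 1, 3, 2, 1, 0, 1, 1, 1, 2, 0, 0, 0, 1, 1, 0, 2, 1,
    0, 2, 2, 3, 2, 3, 2, 0, 3, 3, 0, 1, 1, 2, 1, 0, 2, 1, 0, 1, 3, 2, 1, 0, 1,
    1, 0, 0, 1, 1, 2, 0, 0, 3, 0, 2, 0, 1, 3, 0, 0, 0, 1, 0, 3, 2, 0, 2, 3, 0,
    0, 1, 0, 0, 1, 0, 0, 0, 1, 3, 1, 2, 1, 2, 2, 3, 2, 0, 0, 3, 2, 2, 1, 0, 1,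
    0, 0, 0, 1, 2, 0, 3, 1, 1, 2, 3, 2, 1, 1, 3, 0, 1, 1, 0, 3, 0, 0, 0, 2, 0,
    2, 2, 2, 0, 2, 2, 0, 2, 3, 2, 1, 0, 0, 1, 0, 0, 3, 0, 1, 2, 1, 0, 0, 0, 3,
    3, 2, 2, 3, 0, 0, 1, 3, 2, 1, 0, 0, 2, 0, 2, 0, 2, 2, 1, 0, 1, 1, 0, 1, 2,
    1, 0, 0, 0, 0, 0, 0, 0, 0, 0, 2, 0, 0, 0, 0, 2, 0, 2, 2, 0, 1, 0, 3, 2, 0]

/-- tree, a part -/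
def certC19 : List ℕ := [
    2, 1, 0, 1, 2, 0, 0, 0, 2, 0, 0, 2, 0, 2, 0, 0, 2, 1, 3, 0, 2, 0, 0, 0, 0,
    1, 2, 0, 0, 2, 2, 2, 2, 0, 0, 3, 2, 0, 0, 1, 0, 0, 1, 2, 0, 0, 0, 2, 0, 0,
    1, 1, 1, 1, 3, 0, 1, 1, 0, 1, 0, 0, 2, 0, 0, 2, 0, 0, 1, 2, 0, 0, 0, 1, 2,
    2, 0, 2, 0, 2, 1, 1, 3, 2, 3, 2, 3, 1, 3, 1, 3, 2, 3, 1, 1, 1, 2, 3, 1, 1,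
    3, 0, 1, 0, 3, 3, 0, 3, 2, 1, 1, 1, 3, 3, 1, 3, 0, 2, 3, 3, 3, 2, 0, 0, 2,
    1, 2, 3, 1, 3, 0, 1, 2, 3, 0, 3, 1, 3, 3, 1, 2, 1, 2, 0, 3, 2, 3, 3, 0, 2,
    3, 1, 1, 0, 3, 0, 1, 0, 1, 2, 3, 2, 2, 3, 3, 0, 3, 0, 1, 1, 1, 1, 1, 2, 2,
    3, 1, 1, 2, 0, 2, 3, 2, 0, 3, 1, 3, 1, 2, 2, 0, 0, 3, 0, 0, 3, 0, 0, 2, 3]

/-- tree, a part -/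
def certC20 : List ℕ := [
    3, 1, 1, 3, 2, 1, 0, 0, 2, 2, 3, 3, 2, 0, 0, 3, 3, 2, 0, 2, 2, 3, 3, 0, 0,
    1, 2, 2, 0, 3, 2, 0, 0, 2, 2, 1, 0, 0, 0, 2, 0, 0, 3, 0, 1, 0, 0, 1, 0, 0,
    0, 0, 0, 0, 2, 0, 1, 0, 2, 2, 2, 3, 3, 0, 3, 1, 0, 1, 0, 1, 1, 2, 0, 0, 1,
    3, 0, 2, 1, 1, 3, 0, 3, 3, 0, 0, 0, 3, 0, 0, 0, 2, 2, 0, 0, 1, 2, 0, 1, 3,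
    0, 3, 0, 2, 3, 0, 1, 1, 1, 2, 3, 2, 0, 1, 3, 0, 2, 0, 0, 1, 2, 0, 2, 2, 3,
    0, 2, 3, 0, 0, 0, 3, 0, 2, 0, 2, 2, 0, 2, 3, 0, 1, 1, 0, 0, 0, 0, 1, 0, 2,
    0, 0, 2, 0, 3, 3, 0, 2, 0, 0, 1, 3, 1, 1, 1, 0, 0, 0, 1, 3, 1, 0, 0, 1, 0,
    1, 0, 0, 0, 1, 0, 2, 0, 0, 2, 0, 0, 0, 0, 0, 0, 0, 2, 0, 3, 2, 0, 1, 2, 2]

/-- tree, a part -/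
def certC21 : List ℕ := [
    2, 1, 0, 0, 0, 1, 1, 0, 2, 0, 0, 0, 2, 1, 0, 2, 0, 0, 0, 0, 1, 0, 2, 2, 2,
    3, 0, 0, 0, 3, 3, 0, 1, 0, 1, 1, 0, 0, 3, 0, 0, 1, 2, 2, 0, 0, 2, 0, 3, 2,
    1, 2, 1, 1, 1, 0, 1, 1, 1, 2, 0, 2, 2, 1, 1, 2, 1, 2, 1, 3, 3, 0, 2, 0, 1,
    0, 0, 0, 0, 2, 0, 3, 0, 1, 0, 0, 0, 0, 0, 1, 2, 0, 0, 0, 1, 0, 0, 0, 0, 0,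
    0, 0, 1, 1, 1, 0, 0, 2, 0, 1, 0, 1, 0, 0, 0, 0, 0, 1, 0, 2, 0, 0, 2, 1, 0,
    0, 0, 2, 0, 0, 0, 1, 1, 2, 0, 0, 0, 0, 2, 0, 1, 1, 1, 0, 2, 0, 2, 3, 1, 0,
    0, 1, 2, 0, 0, 0, 2, 0, 2, 2, 0, 0, 0, 1, 1, 2, 2, 3, 1, 2, 0, 0, 0, 3, 0,
    0, 1, 0, 0, 0, 2, 0, 0, 0, 0, 1, 0, 0, 0, 2, 2, 0, 1, 2, 1, 2, 0, 0, 1, 0]

/-- tree, a part -/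
def certC22 : List ℕ := [
    2, 0, 3, 0, 2, 0, 0, 1, 0, 0, 0, 0, 2, 3, 2, 2, 2, 0, 0, 0, 0, 0, 0, 1, 1,
    0, 0, 1, 0, 3, 0, 0, 2, 0, 0, 1, 1, 1, 0, 1, 0, 0, 0, 0, 0, 0, 0, 0, 0, 0,
    0, 0, 1, 0, 0, 0, 3, 0, 1, 0, 1, 0, 0, 2, 2, 0, 0, 0, 0, 0, 3, 0, 0, 2, 1,
    3, 0, 0, 1, 2, 1, 0, 1, 0, 0, 0, 0, 0, 1, 2, 3, 0, 0, 1, 1, 1, 0, 0, 1, 0,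
    2, 2, 2, 0, 1, 0, 0, 0, 0, 1, 3, 3, 0, 0, 0, 2, 2, 3, 0, 0, 0, 0, 0, 0, 0,
    2, 0, 0, 0, 0, 1, 1, 2, 0, 1, 0, 1, 0, 0, 2, 0, 0, 1, 2, 2, 0, 0, 0, 0, 0,
    0, 2, 0, 0, 1, 0, 2, 3, 0, 0, 0, 0, 0, 0, 1, 3, 1, 2, 0, 0, 0, 0, 2, 0, 0,
    1, 0, 0, 0, 1, 0, 0, 2, 0, 1, 0, 1, 0, 2, 2, 3, 2, 0, 0, 0, 0, 0, 0, 0, 2]

/-- tree, a part -/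
def certC23 : List ℕ := [
    2, 3, 0, 0, 2, 0, 0, 3, 2, 1, 1, 1, 2, 0, 2, 2, 0, 0, 0, 0, 0, 2, 0, 1, 0,
    0, 0, 2, 0, 2, 2, 0, 0, 0, 3, 0, 0, 0, 2, 0, 3, 1, 0, 1, 1, 2, 0, 0, 0, 1,
    3, 1, 0, 0, 0, 0, 0, 0, 2, 0, 2, 2, 2, 0, 2, 0, 0, 0, 0, 0, 1, 0, 0, 0, 0,
    0, 0, 0, 1, 0, 0, 0, 1, 0, 0, 0, 0, 0, 0, 0, 0, 0, 0, 0, 0, 0, 0, 0, 0, 0,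
    1, 2, 1, 0, 0, 0, 0, 0, 0, 0, 1, 1, 0, 0, 0, 2, 0, 0, 0, 1, 2, 0, 0, 1, 3,
    0, 0, 0, 2, 2, 0, 0, 0, 3, 0, 3, 0, 0, 0, 0, 0, 0, 0, 3, 2, 0, 0, 0, 2, 0,
    0, 0, 0, 0, 0, 0, 2, 0, 0, 0, 0, 0, 0, 0, 0, 2, 1, 3, 0, 0, 2, 0, 0, 0, 0,
    0, 2, 0, 0, 1, 0, 1, 0, 0, 1, 0, 0, 0, 0, 0, 1, 0, 3, 1, 0, 2, 0, 0, 0, 1]

/-- tree, a part -/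
def certC24 : List ℕ := [
    0, 1, 0, 0, 0, 0, 0, 0, 0, 0, 0, 0, 0, 0, 2, 0, 1, 2, 0, 0, 0, 2, 0, 0, 0,
    0, 0, 0, 0, 0, 0, 3, 1, 1, 3, 1, 3, 0, 2, 1, 3, 1, 1, 1, 3, 2, 0, 0, 0, 2,
    3, 0, 2, 1, 1, 0, 1, 2, 2, 2, 2, 2, 1, 1, 1, 2, 1, 3, 0, 3, 0, 1, 0, 0, 3,
    0, 3, 1, 2, 2, 1, 0, 0, 0, 2, 0, 2, 3, 1, 1, 0, 2, 2, 1, 0, 1, 1, 0, 1, 2,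
    1, 0, 0, 0, 0, 0, 0, 1, 3, 1, 3, 0, 0, 0, 0, 0, 3, 3, 2, 0, 0, 0, 0, 1, 0,
    0, 1, 0, 2, 0, 2, 1, 2, 2, 2, 0, 0, 2, 0, 0, 1, 1, 0, 1, 2, 1, 0, 2, 2, 0,
    0, 1, 0, 0, 0, 2, 1, 0, 2, 1, 0, 0, 2, 0, 2, 0, 1, 0, 0, 0, 2, 1, 2, 2, 0,
    0, 0, 1, 0, 0, 2, 0, 1, 0, 2, 2, 0, 0, 1, 2, 0, 0, 2, 0, 2, 0, 1, 1, 0, 0]

/-- tree, a part -/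
def certC25 : List ℕ := [
    0, 0, 0, 1, 2, 0, 0, 0, 0, 1, 1, 0, 2, 0, 0, 0, 2, 0, 0, 0, 0, 0, 0, 0, 0,
    0, 0, 0, 0, 2, 0, 0, 1, 3, 0, 0, 0, 0, 0, 0, 0, 0, 1, 0, 0, 0, 0, 0, 0, 0,
    2, 0, 0, 1, 1, 0, 0, 0, 0, 1, 0, 0, 0, 0, 0, 0, 0, 2, 0, 0, 0, 0, 0, 2, 0,
    0, 0, 0, 0, 0, 1, 0, 0, 0, 0, 0, 1, 0, 1, 0, 0, 2, 0, 0, 0, 2, 0, 0, 0, 0,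
    0, 0, 0, 0, 0, 0, 0, 0, 0, 2, 1, 0, 0, 0, 0, 1, 1, 0, 0, 0, 0, 1, 0, 0, 0,
    0, 0, 0, 0, 0, 0, 0, 0, 2, 0, 0, 1, 0, 0, 0, 0, 0, 2, 2, 0, 0, 0, 0, 0, 0,
    0, 0, 0, 1, 0, 0, 0, 1, 0, 0, 0, 2, 0, 0, 0, 0, 0, 0, 0, 0, 1, 0, 0, 0, 0,
    2, 0, 0, 0, 0, 0, 0, 0, 0, 0, 0, 0, 1, 1, 0, 0, 0, 0, 0, 0, 0, 0, 0, 0, 0]

/-- tree, a part -/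
def certC26 : List ℕ := [
    0, 0, 3, 0, 0, 0, 0, 0, 0, 0, 0, 0, 0, 1, 0, 0, 1, 2, 0, 0, 0, 0, 0, 0, 0,
    0, 0, 0, 0, 0, 0, 0, 0, 0, 1, 2, 0, 0, 1, 0, 0, 0, 0, 0, 0, 0, 2, 0, 0, 2,
    2, 0, 0, 0, 0, 1, 0, 0, 2, 0, 0, 0, 0, 0, 0, 2, 0, 0, 0, 0, 0, 0, 0, 0, 0,
    0, 0, 0, 0, 0, 0, 0, 0, 1, 2, 0, 0, 0, 0, 0, 1, 0, 0, 0, 0, 0, 0, 0, 0, 0,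
    0, 0, 0, 0, 1, 2, 0, 0, 1, 0, 0, 0, 0, 0, 0, 1, 0, 0, 2, 0, 0, 0, 0, 0, 0,
    0, 0, 2, 0, 0, 0, 0, 0, 0, 0, 1, 0, 0, 0, 0, 1, 0, 0, 0, 0, 0, 0, 2, 0, 0,
    0, 0, 0, 0, 0, 0, 0, 0, 0, 0, 0, 0, 0, 0, 0, 0, 0, 0, 0, 0, 0, 0, 0, 0, 0,
    0, 0, 0, 0, 0, 0, 0, 0, 0, 0, 0, 0, 0, 0, 0, 1, 0, 2, 0, 0, 0, 0, 0, 0, 1]

/-- tree, a part -/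
def certC27 : List ℕ := [
    0, 0, 0, 0, 0, 0, 2, 0, 0, 3, 3, 1, 0, 1, 0, 1, 0, 1, 0, 0, 0, 0, 1, 0, 0,
    0, 0, 0, 0, 0, 0, 1, 1, 0, 0, 0, 0, 0, 0, 0, 1, 0, 0, 3, 0, 0, 0, 0, 0, 2,
    0, 0, 0, 0, 0, 0, 0, 1, 2, 0, 0, 2, 0, 0, 0, 0, 0, 0, 0, 0, 0, 0, 0, 0, 1,
    0, 0, 0, 0, 1, 0, 0, 0, 2, 0, 2, 1, 0, 1, 1, 2, 0, 0, 0, 0, 0, 0, 2, 0, 0,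
    0, 0, 0, 0, 0, 0, 0, 0, 0, 0, 0, 0, 0, 0, 0, 0, 0, 0, 0, 0, 0, 0, 0, 0, 0,
    0, 0, 0, 0, 0, 0, 0, 0, 0, 0, 0, 0, 0, 0, 0, 0, 0, 0, 0, 0, 0, 0, 0, 0, 0,
    0, 0, 0, 0, 0, 0, 0, 0, 0, 0, 0, 0, 0, 0, 0, 0, 0, 0, 0, 0, 0, 0, 0, 0, 0,
    0, 0, 2, 0, 0, 0, 0, 2, 0, 0, 0, 0, 0, 0, 0, 0, 0, 0, 0, 0, 0, 0, 0, 0, 0]

/-- tree -/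
def certC : List ℕ :=
  certC0 ++ certC1 ++ certC2 ++ certC3 ++ certC4 ++ certC5 ++ certC6 ++ certC7 ++ certC8 ++ certC9 ++ certC10 ++ certC11 ++ certC12 ++ certC13 ++ certC14 ++ certC15 ++ certC16 ++ certC17 ++ certC18 ++ certC19 ++ certC20 ++ certC21 ++ certC22 ++ certC23 ++ certC24 ++ certC25 ++ certC26 ++ certC27

/-- first vector, product 0 -/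
def seedB : ℕ := 345625263365239204699111947357135112

/-- tree, a part -/
def certB0 : List ℕ := [
    7, 3, 3, 3, 3, 3, 3, 3, 3, 3, 7, 3, 3, 3, 3, 3, 3, 3, 3, 3, 3, 3, 3, 0, 3,
    1, 3, 3, 3, 3, 3, 3, 2, 3, 2, 3, 3, 3, 1, 3, 3, 3, 3, 3, 3, 3, 3, 3, 3, 3,
    3, 3, 3, 3, 3, 3, 3, 3, 3, 3, 2, 3, 3, 3, 2, 3, 0, 3, 3, 3, 2, 3, 3, 3, 3,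
    3, 3, 3, 3, 3, 3, 3, 3, 3, 3, 3, 3, 2, 3, 3, 3, 2, 3, 3, 3, 3, 3, 3, 3, 3,
    3, 1, 3, 3, 1, 3, 1, 1, 3, 3, 3, 3, 3, 2, 3, 3, 0, 3, 1, 1, 3, 3, 3, 1, 0,
    1, 3, 3, 1, 1, 0, 1, 0, 3, 1, 0, 3, 1, 1, 3, 2, 3, 3, 3, 3, 3, 3, 3, 3, 3,
    3, 3, 3, 3, 3, 3, 3, 3, 3, 3, 3, 1, 3, 3, 3, 3, 3, 3, 3, 3, 3, 3, 1, 3, 2,
    1, 0, 3, 3, 3, 3, 3, 3, 3, 3, 3, 3, 3, 1, 3, 2, 3, 3, 0, 3, 3, 3, 2, 1, 3]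

/-- tree, a part -/
def certB1 : List ℕ := [
    1, 3, 1, 1, 0, 1, 1, 1, 3, 1, 3, 3, 2, 3, 0, 3, 0, 3, 1, 1, 1, 0, 1, 1, 0,
    1, 2, 3, 0, 1, 1, 0, 2, 2, 1, 2, 1, 1, 3, 2, 1, 2, 3, 1, 0, 1, 0, 1, 2, 3,
    3, 3, 3, 3, 3, 3, 3, 3, 3, 3, 3, 3, 3, 3, 3, 3, 3, 3, 3, 3, 3, 3, 3, 3, 3,
    3, 2, 3, 3, 1, 3, 3, 3, 3, 3, 3, 3, 3, 3, 3, 3, 3, 3, 3, 3, 3, 3, 3, 3, 3,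
    3, 3, 3, 3, 3, 3, 3, 3, 3, 3, 3, 1, 0, 1, 0, 0, 1, 1, 3, 3, 3, 3, 3, 3, 3,
    3, 3, 3, 3, 3, 3, 3, 3, 3, 2, 2, 0, 1, 1, 2, 1, 3, 2, 0, 0, 0, 1, 0, 3, 2,
    1, 1, 3, 0, 0, 1, 2, 0, 1, 2, 1, 1, 2, 2, 1, 0, 0, 2, 1, 2, 0, 2, 3, 0, 1,
    0, 3, 2, 1, 0, 1, 2, 0, 2, 3, 3, 0, 0, 0, 2, 1, 1, 0, 2, 2, 3, 2, 0, 0, 2]

/-- tree, a part -/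
def certB2 : List ℕ := [
    0, 3, 3, 3, 3, 1, 3, 2, 3, 3, 3, 3, 3, 3, 3, 3, 3, 3, 3, 3, 3, 3, 3, 3, 3,
    3, 3, 3, 1, 3, 3, 1, 3, 1, 3, 3, 3, 3, 3, 3, 3, 3, 3, 3, 3, 3, 3, 3, 3, 3,
    3, 3, 1, 3, 3, 3, 3, 3, 3, 3, 3, 3, 2, 3, 3, 2, 3, 3, 2, 3, 2, 3, 2, 3, 3,
    3, 3, 3, 3, 3, 3, 3, 3, 3, 2, 3, 2, 3, 3, 3, 3, 1, 3, 3, 3, 3, 3, 3, 3, 3,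
    3, 3, 1, 3, 1, 3, 3, 3, 3, 3, 2, 3, 3, 1, 3, 3, 3, 3, 2, 0, 2, 0, 0, 1, 2,
    0, 0, 0, 3, 3, 3, 3, 3, 3, 3, 3, 3, 3, 3, 2, 3, 3, 3, 3, 3, 3, 3, 1, 3, 3,
    3, 3, 3, 1, 3, 3, 3, 3, 3, 1, 0, 1, 0, 0, 0, 1, 1, 1, 0, 0, 2, 0, 0, 1, 0,
    3, 0, 0, 0, 0, 1, 2, 0, 1, 0, 2, 0, 0, 0, 0, 0, 0, 2, 0, 0, 2, 0, 0, 0, 0]

/-- tree, a part -/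
def certB3 : List ℕ := [
    0, 0, 0, 0, 0, 1, 0, 0, 0, 0, 0, 0, 0, 3, 3, 2, 3, 3, 3, 3, 3, 3, 3, 1, 3,
    3, 3, 3, 2, 1, 3, 1, 3, 3, 3, 3, 3, 3, 2, 3, 1, 3, 3, 3, 1, 3, 3, 3, 3, 3,
    2, 1, 3, 3, 3, 3, 3, 3, 3, 3, 3, 3, 2, 3, 3, 3, 3, 3, 3, 3, 1, 2, 3, 3, 3,
    3, 1, 3, 3, 3, 3, 1, 1, 3, 3, 3, 3, 1, 3, 3, 3, 3, 3, 0, 3, 3, 1, 2, 3, 3,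
    2, 1, 3, 3, 3, 3, 3, 3, 3, 3, 3, 3, 3, 3, 2, 3, 3, 3, 3, 3, 3, 1, 3, 1, 3,
    3, 2, 3, 1, 0, 3, 2, 3, 3, 3, 1, 3, 3, 3, 3, 2, 3, 3, 3, 3, 3, 1, 1, 3, 3,
    3, 3, 3, 3, 3, 3, 3, 3, 3, 3, 3, 2, 1, 3, 2, 3, 3, 2, 3, 3, 3, 3, 3, 3, 3,
    3, 3, 3, 1, 3, 3, 3, 1, 3, 1, 3, 1, 3, 3, 3, 1, 2, 3, 1, 3, 1, 2, 2, 3, 3]

/-- tree, a part -/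
def certB4 : List ℕ := [
    2, 3, 3, 1, 2, 3, 3, 3, 3, 3, 3, 3, 2, 2, 3, 3, 3, 3, 3, 3, 3, 2, 3, 3, 3,
    3, 3, 3, 3, 0, 0, 0, 0, 2, 3, 3, 1, 3, 1, 3, 3, 3, 3, 3, 3, 3, 1, 2, 3, 3,
    3, 3, 3, 3, 3, 3, 3, 3, 1, 3, 2, 3, 3, 1, 3, 3, 3, 2, 3, 3, 3, 3, 3, 3, 3,
    3, 3, 3, 3, 3, 3, 3, 2, 3, 3, 3, 2, 3, 3, 3, 3, 3, 3, 0, 0, 0, 0, 0, 0, 0,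
    0, 0, 0, 0, 0, 0, 0, 0, 3, 3, 3, 3, 1, 3, 3, 2, 3, 3, 1, 3, 3, 2, 3, 2, 3,
    3, 2, 3, 3, 1, 3, 2, 3, 3, 2, 3, 3, 3, 3, 3, 3, 3, 1, 3, 1, 3, 3, 3, 3, 1,
    3, 3, 2, 1, 2, 3, 3, 0, 3, 2, 3, 3, 3, 3, 3, 3, 3, 3, 1, 3, 3, 3, 2, 3, 1,
    2, 1, 3, 3, 3, 3, 3, 3, 3, 3, 0, 3, 3, 1, 3, 3, 2, 2, 3, 3, 1, 3, 3, 1, 3]

/-- tree, a part -/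
def certB5 : List ℕ := [
    3, 2, 1, 3, 3, 2, 3, 3, 1, 3, 3, 0, 3, 3, 3, 3, 2, 3, 3, 3, 3, 2, 3, 3, 3,
    2, 3, 3, 2, 2, 1, 1, 2, 3, 2, 3, 3, 1, 3, 3, 3, 3, 1, 1, 2, 3, 3, 1, 2, 2,
    3, 3, 3, 3, 1, 3, 2, 1, 3, 3, 3, 0, 1, 0, 3, 3, 2, 1, 3, 3, 3, 3, 2, 2, 3,
    3, 3, 3, 2, 1, 1, 1, 1, 1, 0, 3, 2, 3, 1, 0, 2, 1, 3, 3, 3, 1, 1, 1, 3, 3,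
    3, 3, 3, 3, 2, 3, 3, 1, 3, 3, 2, 3, 3, 3, 3, 1, 1, 3, 2, 2, 3, 3, 0, 3, 2,
    3, 1, 0, 3, 3, 3, 2, 1, 3, 1, 0, 3, 1, 3, 3, 3, 3, 3, 1, 2, 1, 2, 3, 3, 1,
    3, 0, 3, 2, 2, 3, 3, 1, 1, 3, 3, 3, 3, 3, 3, 1, 2, 2, 3, 1, 3, 2, 2, 3, 2,
    2, 1, 1, 1, 2, 3, 1, 3, 3, 3, 3, 3, 1, 3, 3, 3, 3, 3, 3, 1, 2, 3, 3, 3, 1]

/-- tree, a part -/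
def certB6 : List ℕ := [
    1, 3, 3, 2, 3, 2, 1, 2, 3, 3, 1, 3, 3, 3, 2, 3, 0, 3, 2, 3, 3, 3, 2, 2, 3,
    2, 0, 3, 0, 3, 3, 2, 0, 3, 0, 2, 2, 2, 2, 0, 2, 2, 3, 3, 2, 2, 3, 3, 1, 3,
    3, 1, 2, 3, 3, 3, 1, 1, 2, 3, 3, 2, 0, 1, 3, 1, 3, 2, 2, 2, 1, 3, 3, 0, 0,
    2, 2, 2, 3, 2, 3, 0, 2, 3, 1, 2, 3, 2, 3, 3, 2, 3, 3, 3, 1, 2, 3, 3, 0, 3,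
    3, 3, 3, 3, 3, 3, 3, 3, 3, 3, 3, 1, 1, 3, 3, 3, 2, 3, 3, 3, 2, 3, 3, 3, 3,
    3, 3, 3, 3, 3, 3, 1, 3, 3, 3, 3, 3, 3, 2, 2, 3, 2, 2, 3, 3, 3, 3, 3, 3, 3,
    3, 2, 3, 3, 1, 3, 3, 3, 3, 2, 3, 3, 3, 3, 3, 3, 3, 1, 3, 3, 3, 1, 3, 1, 2,
    1, 3, 3, 3, 2, 3, 3, 3, 3, 3, 3, 0, 3, 1, 3, 3, 3, 2, 3, 1, 2, 0, 2, 3, 0]

/-- tree, a part -/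
def certB7 : List ℕ := [
    1, 0, 2, 3, 1, 0, 2, 3, 3, 1, 0, 2, 1, 2, 1, 0, 2, 3, 3, 2, 1, 1, 3, 2, 3,
    3, 3, 3, 3, 3, 3, 2, 3, 1, 1, 2, 3, 0, 3, 3, 2, 1, 0, 1, 1, 3, 2, 3, 1, 2,
    3, 1, 3, 3, 1, 1, 1, 1, 3, 3, 3, 3, 3, 0, 3, 1, 3, 1, 1, 1, 3, 2, 2, 3, 3,
    2, 2, 1, 3, 1, 1, 2, 1, 3, 1, 2, 2, 2, 2, 3, 0, 3, 3, 1, 3, 0, 2, 3, 3, 3,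
    2, 2, 0, 2, 2, 1, 3, 1, 2, 0, 0, 3, 2, 1, 3, 3, 3, 0, 1, 1, 3, 3, 2, 1, 3,
    0, 2, 3, 1, 2, 1, 1, 3, 1, 3, 3, 1, 3, 2, 0, 3, 3, 3, 3, 0, 1, 3, 3, 2, 1,
    2, 1, 3, 0, 1, 0, 3, 0, 3, 3, 0, 2, 3, 2, 1, 3, 1, 1, 3, 2, 1, 2, 2, 2, 2,
    3, 3, 1, 2, 1, 1, 3, 1, 2, 3, 2, 3, 0, 3, 3, 3, 1, 3, 3, 2, 3, 3, 3, 2, 2]

/-- tree, a part -/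
def certB8 : List ℕ := [
    3, 3, 3, 0, 0, 1, 2, 3, 2, 1, 0, 1, 3, 3, 3, 0, 3, 1, 3, 1, 3, 3, 3, 2, 3,
    0, 0, 2, 0, 3, 2, 1, 2, 1, 2, 2, 0, 1, 0, 3, 1, 1, 3, 1, 1, 2, 1, 2, 1, 3,
    2, 2, 2, 0, 0, 0, 3, 1, 3, 3, 2, 3, 2, 0, 1, 3, 2, 0, 1, 3, 1, 2, 3, 2, 3,
    2, 1, 1, 3, 3, 3, 3, 0, 2, 1, 1, 2, 2, 3, 2, 1, 2, 3, 2, 1, 2, 0, 2, 1, 2,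
    0, 3, 0, 3, 2, 2, 0, 3, 0, 3, 0, 2, 3, 2, 2, 3, 2, 2, 3, 3, 3, 0, 2, 1, 1,
    1, 2, 0, 3, 2, 0, 1, 1, 0, 0, 2, 3, 0, 3, 1, 1, 0, 0, 2, 3, 2, 0, 2, 2, 2,
    2, 0, 2, 1, 0, 1, 3, 1, 2, 3, 3, 3, 3, 2, 2, 2, 3, 3, 0, 0, 0, 0, 3, 1, 3,
    3, 3, 2, 2, 3, 1, 1, 3, 0, 0, 2, 2, 0, 2, 3, 1, 3, 1, 3, 3, 1, 1, 3, 0, 0]

/-- tree, a part -/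
def certB9 : List ℕ := [
    0, 1, 1, 0, 2, 2, 2, 2, 1, 3, 1, 1, 2, 3, 3, 1, 0, 1, 3, 3, 3, 2, 2, 3, 0,
    1, 3, 3, 0, 2, 3, 3, 0, 0, 1, 3, 1, 2, 3, 0, 3, 2, 0, 3, 0, 3, 2, 1, 2, 2,
    3, 2, 2, 0, 0, 1, 1, 1, 0, 1, 3, 1, 1, 2, 0, 2, 1, 1, 2, 0, 0, 2, 3, 1, 0,
    0, 0, 3, 1, 0, 2, 2, 1, 0, 3, 0, 0, 2, 2, 1, 1, 0, 3, 1, 3, 3, 2, 3, 2, 3,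
    0, 2, 0, 0, 1, 2, 2, 3, 0, 3, 1, 2, 0, 0, 2, 0, 0, 3, 0, 1, 1, 1, 2, 0, 3,
    3, 0, 2, 3, 2, 0, 1, 1, 3, 0, 1, 0, 1, 0, 1, 3, 2, 2, 1, 0, 0, 3, 2, 2, 3,
    0, 1, 3, 1, 2, 0, 3, 0, 3, 0, 0, 3, 3, 3, 1, 3, 1, 3, 3, 3, 3, 3, 0, 3, 3,
    1, 3, 1, 2, 2, 3, 1, 0, 3, 3, 3, 1, 1, 3, 3, 3, 3, 3, 3, 3, 3, 3, 1, 2, 1]

/-- tree, a part -/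
def certB10 : List ℕ := [
    2, 2, 3, 1, 3, 3, 1, 2, 3, 1, 1, 3, 0, 2, 1, 3, 1, 1, 3, 3, 1, 3, 3, 3, 3,
    3, 3, 0, 0, 3, 2, 1, 0, 0, 3, 0, 3, 3, 3, 3, 3, 3, 3, 3, 3, 3, 3, 1, 3, 1,
    3, 3, 3, 1, 1, 3, 2, 0, 1, 1, 3, 3, 3, 3, 0, 3, 0, 0, 3, 2, 3, 1, 1, 3, 2,
    0, 2, 3, 1, 2, 3, 3, 3, 1, 1, 1, 1, 0, 3, 3, 3, 2, 3, 3, 3, 2, 3, 0, 1, 3,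
    1, 0, 3, 3, 3, 3, 3, 2, 3, 0, 2, 2, 3, 3, 1, 0, 3, 3, 3, 3, 3, 1, 2, 3, 1,
    1, 2, 0, 3, 1, 3, 0, 0, 2, 3, 1, 3, 1, 0, 1, 1, 2, 2, 3, 3, 2, 1, 1, 1, 3,
    0, 0, 3, 0, 2, 0, 1, 2, 0, 0, 0, 0, 3, 0, 2, 2, 2, 0, 0, 3, 1, 2, 2, 0, 3,
    3, 3, 3, 2, 0, 2, 3, 0, 1, 2, 0, 3, 3, 1, 2, 2, 0, 1, 2, 3, 2, 0, 3, 3, 1]

/-- tree, a part -/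
def certB11 : List ℕ := [
    2, 3, 3, 0, 2, 3, 1, 0, 0, 3, 3, 0, 3, 1, 1, 0, 1, 2, 1, 2, 0, 3, 0, 2, 3,
    0, 2, 1, 0, 2, 0, 0, 0, 3, 0, 1, 3, 0, 2, 2, 1, 2, 3, 2, 0, 0, 1, 0, 3, 3,
    1, 3, 2, 1, 1, 1, 0, 3, 0, 0, 1, 2, 0, 0, 2, 0, 3, 1, 0, 0, 0, 1, 0, 0, 2,
    1, 1, 2, 2, 3, 0, 2, 2, 2, 1, 0, 1, 3, 0, 2, 1, 2, 3, 3, 0, 0, 1, 0, 0, 2,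
    1, 3, 0, 3, 3, 3, 2, 0, 1, 2, 2, 1, 0, 3, 3, 2, 3, 0, 2, 0, 0, 0, 1, 0, 0,
    2, 3, 3, 3, 0, 0, 3, 0, 0, 3, 0, 3, 0, 0, 1, 0, 2, 0, 0, 0, 2, 0, 1, 0, 2,
    2, 2, 0, 2, 0, 0, 3, 0, 2, 2, 1, 2, 1, 3, 1, 2, 0, 3, 0, 1, 2, 3, 0, 1, 2,
    1, 1, 1, 1, 2, 0, 0, 1, 1, 1, 1, 2, 1, 1, 1, 0, 1, 3, 0, 2, 0, 0, 1, 1, 0]

/-- tree, a part -/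
def certB12 : List ℕ := [
    3, 1, 2, 3, 0, 3, 2, 0, 1, 0, 2, 0, 1, 1, 2, 3, 0, 0, 2, 3, 0, 3, 2, 2, 1,
    2, 0, 2, 3, 2, 1, 0, 3, 0, 0, 1, 0, 0, 2, 2, 3, 2, 3, 2, 0, 0, 2, 0, 3, 2,
    2, 0, 2, 1, 2, 1, 2, 3, 2, 2, 1, 2, 2, 0, 3, 2, 3, 2, 0, 3, 2, 0, 0, 0, 1,
    0, 2, 0, 0, 1, 1, 0, 2, 0, 2, 0, 0, 2, 1, 2, 1, 2, 0, 0, 1, 1, 0, 0, 0, 2,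
    3, 3, 0, 0, 3, 2, 1, 0, 2, 0, 0, 1, 1, 0, 0, 2, 3, 1, 0, 0, 1, 0, 1, 1, 1,
    3, 0, 0, 1, 0, 2, 0, 0, 1, 0, 0, 3, 2, 2, 0, 0, 0, 3, 0, 1, 1, 3, 0, 0, 2,
    1, 2, 0, 2, 1, 0, 0, 0, 1, 1, 0, 0, 0, 0, 2, 1, 0, 3, 1, 0, 1, 2, 0, 0, 0,
    2, 2, 3, 0, 0, 0, 0, 2, 0, 1, 0, 0, 1, 1, 3, 0, 3, 0, 0, 0, 0, 3, 2, 0, 0]

/-- tree, a part -/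
def certB13 : List ℕ := [
    0, 0, 0, 0, 0, 1, 0, 0, 2, 0, 0, 0, 2, 0, 0, 2, 2, 1, 0, 2, 2, 2, 1, 3, 3,
    2, 0, 1, 0, 0, 0, 1, 0, 3, 0, 0, 0, 2, 3, 1, 0, 0, 0, 2, 0, 0, 0, 2, 0, 0,
    2, 0, 2, 0, 0, 2, 0, 0, 0, 0, 0, 2, 1, 0, 1, 3, 1, 0, 2, 2, 2, 0, 1, 0, 0,
    1, 0, 0, 0, 0, 1, 3, 0, 0, 2, 1, 0, 0, 0, 0, 3, 0, 1, 2, 0, 0, 2, 0, 0, 1,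
    1, 0, 1, 0, 3, 1, 0, 2, 0, 0, 2, 0, 0, 1, 2, 0, 2, 0, 0, 1, 0, 0, 2, 0, 0,
    0, 2, 0, 0, 3, 0, 1, 1, 0, 0, 0, 0, 2, 0, 3, 2, 0, 0, 0, 0, 0, 0, 1, 3, 2,
    0, 2, 1, 0, 0, 0, 2, 2, 0, 2, 0, 0, 0, 0, 2, 0, 0, 1, 0, 0, 0, 0, 0, 2, 2,
    0, 2, 0, 1, 2, 0, 0, 0, 0, 3, 2, 1, 0, 0, 0, 1, 1, 2, 1, 3, 3, 3, 1, 2, 2]

/-- tree, a part -/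
def certB14 : List ℕ := [
    1, 0, 0, 1, 3, 2, 3, 1, 2, 0, 3, 2, 3, 3, 3, 1, 2, 2, 1, 2, 0, 0, 1, 1, 2,
    2, 1, 3, 2, 3, 0, 0, 1, 2, 3, 3, 3, 3, 3, 1, 3, 3, 0, 0, 0, 1, 2, 1, 3, 3,
    3, 2, 1, 3, 1, 3, 2, 2, 2, 2, 1, 0, 0, 3, 3, 1, 3, 3, 1, 0, 3, 3, 2, 1, 2,
    2, 0, 2, 1, 1, 2, 3, 1, 0, 3, 0, 3, 2, 1, 3, 3, 0, 1, 1, 1, 3, 1, 3, 0, 3,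
    2, 2, 0, 3, 2, 0, 1, 0, 0, 1, 0, 1, 1, 0, 0, 3, 2, 3, 0, 2, 3, 1, 0, 2, 3,
    1, 3, 0, 1, 1, 0, 0, 2, 3, 1, 3, 2, 1, 3, 0, 3, 1, 0, 0, 2, 0, 0, 3, 1, 2,
    2, 3, 2, 2, 0, 3, 1, 0, 3, 0, 0, 1, 3, 0, 3, 3, 1, 1, 1, 2, 3, 1, 2, 0, 3,
    0, 2, 0, 2, 0, 2, 0, 1, 1, 3, 1, 3, 3, 0, 0, 3, 0, 1, 0, 3, 0, 0, 1, 3, 2]

/-- tree, a part -/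
def certB15 : List ℕ := [
    0, 0, 1, 2, 3, 0, 1, 0, 1, 3, 0, 0, 3, 3, 1, 0, 2, 2, 2, 3, 3, 0, 1, 1, 1,
    2, 3, 0, 2, 3, 2, 3, 3, 0, 0, 0, 3, 0, 1, 2, 1, 1, 3, 1, 0, 0, 1, 2, 3, 3,
    3, 2, 1, 0, 1, 2, 0, 0, 2, 0, 0, 0, 1, 2, 1, 0, 3, 0, 0, 0, 1, 0, 0, 2, 0,
    1, 0, 1, 0, 2, 1, 0, 0, 0, 2, 2, 2, 0, 0, 0, 1, 0, 0, 0, 0, 0, 0, 2, 0, 1,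
    0, 1, 0, 1, 1, 0, 0, 2, 0, 0, 2, 1, 1, 0, 2, 0, 2, 1, 0, 0, 0, 1, 0, 0, 0,
    0, 1, 0, 0, 1, 2, 0, 0, 0, 0, 0, 3, 0, 1, 0, 0, 0, 2, 0, 1, 1, 0, 3, 2, 0,
    0, 2, 0, 1, 0, 2, 0, 1, 0, 0, 1, 0, 0, 1, 2, 3, 0, 0, 2, 1, 0, 0, 0, 2, 2,
    2, 0, 0, 0, 2, 0, 0, 0, 0, 0, 2, 2, 0, 2, 0, 0, 0, 1, 1, 3, 3, 0, 0, 2, 0]

/-- tree, a part -/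
def certB16 : List ℕ := [
    0, 0, 0, 2, 0, 0, 1, 0, 0, 1, 0, 0, 0, 0, 0, 0, 0, 3, 1, 2, 0, 2, 0, 0, 0,
    1, 2, 0, 2, 0, 0, 0, 0, 0, 0, 0, 0, 2, 0, 0, 2, 0, 0, 0, 3, 0, 1, 1, 2, 0,
    2, 0, 0, 0, 0, 0, 0, 0, 1, 0, 3, 2, 0, 1, 1, 0, 2, 1, 0, 0, 2, 1, 1, 1, 0,
    0, 0, 0, 0, 0, 0, 0, 0, 0, 0, 0, 0, 0, 0, 0, 0, 0, 0, 0, 0, 0, 1, 0, 0, 0,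
    0, 3, 0, 0, 0, 2, 0, 0, 1, 0, 0, 0, 0, 0, 0, 0, 0, 1, 1, 2, 2, 0, 0, 0, 0,
    3, 0, 0, 2, 0, 0, 2, 0, 0, 0, 0, 2, 0, 0, 0, 0, 0, 0, 0, 2, 1, 0, 0, 2, 0,
    0, 0, 0, 1, 1, 0, 0, 2, 0, 0, 0, 2, 0, 0, 0, 1, 0, 1, 0, 2, 0, 0, 0, 0, 0,
    2, 0, 0, 2, 0, 1, 0, 0, 0, 0, 0, 0, 0, 0, 1, 0, 0, 0, 0, 0, 0, 0, 0, 0, 0]

/-- tree, a part -/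
def certB17 : List ℕ := [
    2, 0, 1, 0, 0, 0, 0, 0, 0, 0, 0, 0, 0, 0, 1, 0, 0, 0, 0, 0, 0, 0, 0, 0, 0,
    2, 0, 0, 0, 0, 3, 0, 0, 0, 1, 2, 0, 0, 1, 0, 0, 0, 1, 0, 0, 0, 0, 0, 0, 0,
    2, 0, 0, 0, 0, 0, 0, 1, 0, 0, 0, 2, 0, 1, 3, 0, 0, 0, 1, 0, 0, 0, 0, 0, 0,
    0, 0, 1, 0, 0, 0, 0, 0, 0, 0, 0, 0, 0, 1, 0, 0, 0, 0, 0, 0, 0, 0, 0, 0, 0,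
    0, 1, 0, 2, 1, 3, 2, 0, 3, 3, 1, 2, 3, 0, 2, 0, 1, 1, 3, 1, 3, 1, 0, 3, 1,
    2, 2, 1, 1, 1, 0, 3, 3, 3, 2, 1, 2, 0, 0, 0, 2, 2, 1, 0, 0, 0, 2, 0, 0, 0,
    0, 0, 2, 0, 3, 1, 3, 0, 3, 0, 0, 0, 0, 0, 2, 2, 0, 2, 1, 0, 2, 1, 1, 2, 0,
    0, 2, 0, 3, 3, 0, 1, 0, 0, 0, 2, 0, 0, 0, 0, 0, 2, 0, 1, 0, 0, 3, 2, 1, 0]

/-- tree, a part -/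
def certB18 : List ℕ := [
    2, 3, 1, 0, 2, 0, 0, 0, 2, 0, 2, 3, 1, 2, 0, 0, 1, 0, 1, 1, 0, 3, 2, 2, 0,
    2, 1, 3, 0, 3, 3, 3, 2, 3, 1, 1, 1, 0, 1, 0, 2, 3, 0, 0, 2, 2, 0, 0, 2, 0,
    1, 1, 0, 1, 0, 2, 0, 0, 1, 0, 0, 1, 2, 2, 0, 1, 0, 1, 1, 0, 0, 0, 0, 1, 2,
    1, 0, 1, 0, 1, 0, 0, 0, 2, 1, 0, 1, 0, 1, 1, 0, 0, 1, 0, 0, 0, 0, 0, 0, 0,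
    2, 0, 0, 1, 0, 2, 0, 0, 2, 0, 2, 1, 2, 0, 0, 0, 0, 1, 0, 1, 0, 1, 0, 1, 0,
    0, 0, 0, 0, 0, 2, 2, 0, 2, 0, 3, 0, 0, 0, 0, 0, 0, 0, 0, 3, 0, 2, 0, 0, 0,
    0, 2, 1, 0, 0, 0, 0, 0, 1, 0, 0, 0, 2, 2, 0, 2, 0, 0, 0, 2, 0, 0, 1, 3, 0,
    1, 0, 0, 0, 0, 0, 0, 0, 0, 2, 0, 0, 0, 0, 2, 1, 0, 0, 0, 0, 0, 1, 0, 0, 0]

/-- tree, a part -/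
def certB19 : List ℕ := [
    0, 0, 0, 0, 0, 0, 0, 0, 2, 0, 0, 0, 0, 0, 0, 0, 0, 0, 0, 0, 0, 0, 0, 0, 0,
    0, 0, 0, 0, 0, 0, 0, 0, 0, 0, 0, 0, 0, 0, 2, 0, 0, 0, 0, 0, 0, 0, 0, 0, 2,
    0, 0, 0, 0, 0, 0, 0, 0, 0, 0, 0, 0, 0, 0, 0, 0, 0, 0, 0, 0, 0, 0, 0, 0, 0,
    0, 0, 0, 0, 0, 0, 0, 0, 0, 0, 0, 0, 0, 0, 0, 0, 0, 0, 0, 0, 0, 0, 0, 0, 0,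
    0, 0, 0, 0, 0, 0, 0, 0, 0, 0, 0, 0, 0, 0, 0, 0, 0, 0, 0, 0, 0, 0, 0, 2, 0,
    0, 2, 0, 0, 0, 0, 0, 0, 0, 0, 2, 2, 1, 0, 0, 1, 0, 0, 0, 0, 0, 0, 2, 0, 0,
    0, 0, 0, 0, 0, 0, 2, 0, 1, 0, 0, 0, 0, 0, 1, 1, 0, 0, 2, 0, 0, 0, 1, 0, 0,
    1, 0, 0, 2, 2, 0, 0, 0, 0, 2, 0, 0, 0, 1, 2, 0, 0, 0, 0, 0, 0, 0, 2, 0, 0]

/-- tree, a part -/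
def certB20 : List ℕ := [
    0, 0, 0, 0, 0, 0, 0, 0, 0, 0, 0, 1, 0, 0, 0, 1, 0, 1, 0, 0, 0, 0, 0, 0, 0,
    0, 0, 2, 0, 2, 0, 1, 0, 0, 0, 0, 0, 0, 0, 0, 0, 0, 0, 0, 0, 0, 0, 0, 0, 0,
    0, 0, 0, 2, 0, 1, 0, 0, 0, 0, 0, 0, 0, 0, 0, 0, 0, 0, 0, 0, 0, 0, 0, 0, 0,
    0, 0, 0, 0, 0, 0, 0, 0, 0, 0, 0, 0, 0, 0, 0, 0, 0, 0, 0, 0, 0, 0, 0, 0, 0,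
    0, 0, 0, 0, 0, 2, 0, 0, 0, 1, 0, 0, 0, 0, 0, 0, 0, 0, 0, 0, 0, 0, 0, 0, 0]

/-- tree -/
def certB : List ℕ :=
  certB0 ++ certB1 ++ certB2 ++ certB3 ++ certB4 ++ certB5 ++ certB6 ++ certB7 ++ certB8 ++ certB9 ++ certB10 ++ certB11 ++ certB12 ++ certB13 ++ certB14 ++ certB15 ++ certB16 ++ certB17 ++ certB18 ++ certB19 ++ certB20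

/-- first vector, product -8 -/
def seedA : ℕ := 343107711671770325084637891918045450

/-- tree, a part -/
def certA0 : List ℕ := [
    3, 3, 3, 3, 3, 3, 7, 3, 3, 3, 1, 3, 1, 3, 3, 3, 3, 1, 3, 3, 3, 1, 3, 1, 2,
    3, 3, 1, 3, 3, 3, 1, 2, 3, 3, 3, 3, 3, 1, 3, 3, 1, 3, 2, 0, 3, 3, 3, 3, 2,
    3, 2, 2, 1, 0, 3, 3, 3, 2, 0, 1, 3, 3, 2, 0, 2, 3, 2, 2, 0, 3, 3, 2, 1, 2,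
    1, 0, 3, 1, 2, 3, 1, 3, 3, 1, 0, 2, 3, 1, 1, 3, 3, 1, 3, 3, 3, 3, 3, 1, 3,
    2, 0, 1, 0, 1, 0, 0, 2, 3, 3, 3, 0, 0, 1, 0, 2, 3, 3, 0, 3, 0, 2, 1, 0, 3,
    0, 2, 0, 0, 0, 2, 0, 0, 3, 1, 2, 1, 0, 0, 3, 3, 3, 3, 3, 3, 1, 3, 1, 3, 1,
    3, 2, 2, 1, 0, 1, 2, 1, 0, 1, 0, 2, 0, 2, 1, 0, 1, 0, 0, 0, 0, 0, 0, 0, 0,
    0, 0, 0, 1, 0, 0, 1, 3, 3, 3, 3, 3, 3, 3, 3, 3, 3, 3, 3, 3, 1, 2, 3, 2, 3]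

/-- tree, a part -/
def certA1 : List ℕ := [
    3, 0, 0, 0, 0, 0, 2, 0, 2, 0, 0, 0, 0, 0, 0, 0, 2, 3, 1, 3, 3, 1, 3, 3, 2,
    0, 1, 1, 3, 3, 3, 1, 3, 3, 3, 3, 1, 0, 1, 1, 3, 0, 0, 0, 2, 1, 2, 3, 3, 3,
    0, 0, 0, 2, 0, 0, 0, 0, 3, 3, 1, 2, 0, 0, 3, 0, 0, 3, 3, 3, 0, 2, 2, 0, 0,
    1, 1, 1, 2, 3, 2, 0, 3, 1, 1, 3, 1, 1, 0, 0, 1, 2, 0, 0, 3, 1, 3, 0, 1, 0,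
    1, 0, 1, 2, 0, 0, 0, 1, 0, 2, 0, 0, 0, 0, 1, 0, 0, 0, 0, 0, 0, 0, 1, 1, 2,
    0, 2, 1, 0, 0, 2, 0, 0, 0, 0, 0, 0, 1, 0, 0, 0, 0, 0, 0, 0, 2, 0, 0, 0, 0,
    0, 0]

/-- tree -/
def certA : List ℕ :=
  certA0 ++ certA1

end Rank5
end H96
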