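import Cfsg.Agent.H96.LeechCheck
import Cfsg.Agent.H96.Rank5Data
import Cfsg.Agent.H96.Census48
import Cfsg.Agent.H96.LeechPairs
import Cfsg.Agent.H95.PairModel
import Cfsg.Agent.H94.Trans5
import Cfsg.Agent.H95.HSSimple

/-!
The orbits of the Higman–Sims group on the 11178 vectors, from a spanning tree certificate.
-/

set_option autoImplicit false

namespace H96
namespace Rank5

open Cfsg Finset H95

/-! ### Packed vectors -/

/-- a digit -/
def dig (c j : ℕ) : ℕ := Nat.land (Nat.shiftRight c (Nat.mul 5 j)) 31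

theorem dig_eq (c j : ℕ) : dig c j = c / 32 ^ j % 32 := by
  show (c >>> (5 * j)) &&& 31 = _
  rw [Nat.shiftRight_eq_div_pow, show (31 : ℕ) = 2 ^ 5 - 1 by norm_num, Nat.and_two_pow_sub_one_eq_mod,
    pow_mul]
  norm_num

/-- pack `k` digits -/
def encD (f : ℕ → ℕ) : ℕ → ℕ
  | 0 => 0
  | k + 1 => encD f k + f k * 32 ^ k

theorem encD_lt {f : ℕ → ℕ} : ∀ k, (∀ j < k, f j < 32) → encD f k < 32 ^ k
  | 0, _ => by simp [encD]
  | k + 1, h => by
    have := encD_lt k fun j hj => h j (by omega)
    have := h k (by omega)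
    rw [encD, pow_succ]
    nlinarith

theorem dig_encD {f : ℕ → ℕ} : ∀ k, (∀ j < k, f j < 32) → ∀ j < k, dig (encD f k) j = f j
  | 0, _, j, hj => absurd hj (by omega)
  | k + 1, h, j, hj => by
    have hlt := encD_lt k fun j hj => h j (Nat.lt_succ_of_lt hj)
    rw [dig_eq, encD]
    rcases Nat.lt_succ_iff_lt_or_eq.mp hj with hj' | rfl
    · obtain ⟨t, ht⟩ : ∃ t, 32 ^ k = 32 ^ j * (32 * t) := ⟨32 ^ (k - j - 1), by
        rw [← mul_assoc, ← pow_succ, ← pow_add]; congr 1; omega⟩
      rw [ht, show f k * (32 ^ j * (32 * t)) = 32 ^ j * (32 * (f k * t)) by ring,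
        Nat.add_mul_div_left _ _ (by positivity), Nat.add_mul_mod_self_left, ← dig_eq,
        dig_encD k (fun i hi => h i (Nat.lt_succ_of_lt hi)) j hj']
    · rw [Nat.add_mul_div_right _ _ (by positivity), Nat.div_eq_of_lt hlt, zero_add,
        Nat.mod_eq_of_lt (h j (Nat.lt_succ_self j))]

theorem eq_of_dig : ∀ k a b, a < 32 ^ k → b < 32 ^ k → (∀ j < k, dig a j = dig b j) → a = b
  | 0, a, b, ha, hb, _ => by simp at ha hb; omega
  | k + 1, a, b, ha, hb, h => by
    have h0 := h 0 (Nat.succ_pos k)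
    simp only [dig_eq, pow_zero, Nat.div_one] at h0
    have := eq_of_dig k (a / 32) (b / 32)
      (Nat.div_lt_of_lt_mul (by rw [mul_comm, ← pow_succ]; exact ha))
      (Nat.div_lt_of_lt_mul (by rw [mul_comm, ← pow_succ]; exact hb)) fun j hj => by
        have e := h (j + 1) (by omega)
        simp only [dig_eq] at e ⊢
        rwa [Nat.div_div_eq_div_mul, Nat.div_div_eq_div_mul, ← pow_succ']
    omega

/-- the vector of a code -/
def dec (c : ℕ) : GolayPt → ℤ := fun p => (dig c (H94.idxN p) : ℤ) - 8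

/-- the code -/
def Coded (c : ℕ) : Prop := c < 32 ^ 24

theorem dec_inj {a b : ℕ} (ha : Coded a) (hb : Coded b) (h : dec a = dec b) : a = b := by
  refine eq_of_dig 24 a b ha hb fun j hj => ?_
  have := congrFun h (H94.ptN j)
  simp only [dec, H94.idxN_ptN hj] at this
  omega

theorem dig_lt (c j : ℕ) : dig c j < 32 := by rw [dig_eq]; exact Nat.mod_lt _ (by norm_num)

/-- precompose with a packed permutation -/
def actP (Q c : ℕ) : ℕ := encD (fun j => dig c (H94.pap Q j)) 24

theorem actP_spec {Q : ℕ} {τ : Equiv.Perm GolayPt} (hτ : H94.Reps Q τ) (c : ℕ) :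
    Coded (actP Q c) ∧ ∀ p, dec (actP Q c) p = dec c (τ p) := by
  refine ⟨encD_lt 24 fun j _ => dig_lt _ _, fun p => ?_⟩
  rw [dec, dec, actP, dig_encD 24 (fun j _ => dig_lt _ _) _ (H94.idxN_lt p), hτ _ (H94.idxN_lt p),
    H94.ptN_idxN]

/-! ### The further element -/

/-- entries -/
def entry (p q : GolayPt) : ℤ := (matG.getD (H94.idxN p) []).getD (H94.idxN q) 0

/-- eight times the element -/
def mulG (y : GolayPt → ℤ) (p : GolayPt) : ℤ := ∑ q, entry p q * y q

theorem mulG_add (x y : GolayPt → ℤ) (p : GolayPt) : mulG (x + y) p = mulG x p + mulG y p := by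
  simp only [mulG, Pi.add_apply, mul_add, sum_add_distrib]

/-- vectors mapped well -/
def okSub : AddSubgroup (GolayPt → ℤ) where
  carrier := {y | ∃ z ∈ leechLattice, ∀ p, mulG y p = 8 * z p}
  zero_mem' := ⟨0, zero_mem _, fun p => by simp [mulG]⟩
  add_mem' := by
    rintro x y ⟨a, ha, ha'⟩ ⟨b, hb, hb'⟩
    exact ⟨a + b, add_mem ha hb, fun p => by rw [mulG_add, ha', hb', Pi.add_apply]; ring⟩
  neg_mem' := by
    rintro x ⟨a, ha, ha'⟩
    refine ⟨-a, neg_mem ha, fun p => ?_⟩
    have := ha' p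
    simp only [mulG, Pi.neg_apply, mul_neg, sum_neg_distrib] at this ⊢
    omega

/-- the test for `okSub` -/
def okB (y : GolayPt → ℤ) : Bool :=
  (List.finRange 24).all (fun i => decide (mulG y (H90.pt i) % 8 = 0)) &&
    Check.checkB fun p => mulG y p / 8

theorem okB_spec {y : GolayPt → ℤ} (h : okB y = true) : y ∈ okSub := by
  simp only [okB, Bool.and_eq_true] at h
  refine ⟨_, Check.checkB_spec h.2, fun p => ?_⟩
  have := List.all_eq_true.mp h.1 (H90.idx p) (List.mem_finRange _)
  rw [H90.pt_idx, decide_eq_true_eq] at this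
  omega

theorem gens_ok :
    (List.finRange 24).all (fun i => okB (Pi.single (H90.pt i) 4 - Pi.single none 4)) = true ∧
    okB (Pi.single none 8) = true ∧
    H90.rows.all (fun r => okB fun i => 2 * ((H90.wordOf r i).val : ℤ)) = true ∧
    okB oddVec = true := by decide +kernel

theorem leech_ok : leechLattice ≤ okSub := by
  obtain ⟨h1, h2, h3, h4⟩ := gens_ok
  refine Check.le_of_gens okSub (fun j => okB_spec ?_) (okB_spec h2)
    (fun r hr => okB_spec (List.all_eq_true.mp h3 r hr)) (okB_spec h4)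
  have := List.all_eq_true.mp h1 (H90.idx j) (List.mem_finRange _)
  rwa [H90.pt_idx] at this

theorem orth : ∀ a b : GolayPt, ∑ p, entry p a * entry p b = if a = b then 64 else 0 := by
  decide +kernel

/-- the homomorphism -/
noncomputable def gHom : leechLattice →+ leechLattice :=
  AddMonoidHom.mk' (fun y => ⟨fun p => mulG (y : GolayPt → ℤ) p / 8, by
    obtain ⟨z, hz, e⟩ := leech_ok y.2
    rwa [show (fun p => mulG (y : GolayPt → ℤ) p / 8) = z from funext fun p => by rw [e]; omega]⟩)
    fun x y => Subtype.ext (funext fun p => by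
      obtain ⟨a, -, ea⟩ := leech_ok x.2
      show mulG ((x : GolayPt → ℤ) + y) p / 8 = mulG (x : GolayPt → ℤ) p / 8 + mulG (y : GolayPt → ℤ) p / 8
      rw [mulG_add, ea, Int.add_ediv_of_dvd_left ⟨_, rfl⟩])

theorem gHom_norm (y : leechLattice) : ldot (gHom y) (gHom y) = ldot y y := by
  obtain ⟨z, -, e⟩ := leech_ok y.2
  have e' : ((gHom y : leechLattice) : GolayPt → ℤ) = z := funext fun p => by
    show mulG (y : GolayPt → ℤ) p / 8 = z p
    rw [e]; omega
  show dotInt _ _ = dotInt _ _
  rw [e']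
  have h64 : ∑ p, mulG (y : GolayPt → ℤ) p * mulG (y : GolayPt → ℤ) p
      = 64 * dotInt (y : GolayPt → ℤ) (y : GolayPt → ℤ) := by
    calc ∑ p, mulG (y : GolayPt → ℤ) p * mulG (y : GolayPt → ℤ) p
        = ∑ a, ∑ b, (y : GolayPt → ℤ) a * (y : GolayPt → ℤ) b * ∑ p, entry p a * entry p b := by
          simp only [mulG, sum_mul_sum]
          simp only [mul_sum]
          rw [sum_comm]
          refine sum_congr rfl fun a _ => ?_
          rw [sum_comm]
          exact sum_congr rfl fun b _ => sum_congr rfl fun p _ => by ring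
      _ = _ := by
          simp only [orth, mul_ite, mul_zero, sum_ite_eq, mem_univ, if_true, dotInt, mul_sum]
          exact sum_congr rfl fun a _ => by ring
  simp only [e] at h64
  have : ∑ p, 8 * z p * (8 * z p) = 64 * dotInt z z := by
    rw [dotInt, mul_sum]; exact sum_congr rfl fun p _ => by ring
  rw [this] at h64
  omega

/-- the element -/
noncomputable def gElt : Co0 :=
  ⟨Equiv.ofBijective gHom (leechLike.bijective_of_isometry gHom gHom_norm),
    fun v w => map_add gHom v w, fun v => by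
      rw [sqNorm_eq_ldot, sqNorm_eq_ldot]; exact gHom_norm v⟩

theorem gElt_apply (y : leechLattice) (p : GolayPt) :
    ((gElt • y : leechLattice) : GolayPt → ℤ) p = mulG (y : GolayPt → ℤ) p / 8 := rfl

theorem gElt_mem : gElt ∈ pvU'.group := by
  refine ⟨MulAction.mem_stabilizer_iff.mpr (Subtype.ext (funext fun p => ?_)),
    MulAction.mem_stabilizer_iff.mpr (Subtype.ext (funext fun p => ?_))⟩
  · rw [gElt_apply]; revert p; decide +kernel
  · rw [gElt_apply]; simp only [pvU']; revert p; decide +kernel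

/-- the element on codes -/
def actG (c : ℕ) : ℕ :=
  encD (fun j => Int.toNat ((mulG (dec c) (H94.ptN j) / 8 + 8) % 32)) 24

/-! ### The tree -/

/-- child by the first generator -/
def kid0 (m c : ℕ) : List ℕ := if m % 2 = 1 then [actP permA c] else []
/-- child by the second generator -/
def kid1 (m c : ℕ) : List ℕ := if m / 2 % 2 = 1 then [actP permB c] else []
/-- child by the further element -/
def kid2 (m c : ℕ) : List ℕ := if m / 4 % 2 = 1 then [actG c] else []

/-- breadth first generation: a queue given as front and reversed back -/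
def grow : List ℕ → List ℕ → List ℕ → List ℕ → List ℕ
  | [], _, _, out => out
  | m :: ms, front, back, out =>
    match front with
    | c :: fs => grow ms fs (kid2 m c ++ (kid1 m c ++ (kid0 m c ++ back))) (c :: out)
    | [] =>
      match back.reverse with
      | c :: fs => grow ms fs (kid2 m c ++ (kid1 m c ++ kid0 m c)) (c :: out)
      | [] => out

theorem grow_mem (P : ℕ → Prop) (hA : ∀ c, P c → P (actP permA c)) (hB : ∀ c, P c → P (actP permB c))
    (hG : ∀ c, P c → P (actG c)) : ∀ (ms front back out : List ℕ), (∀ c ∈ front, P c) →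
      (∀ c ∈ back, P c) → (∀ c ∈ out, P c) → ∀ c ∈ grow ms front back out, P c := by
  have kids : ∀ m c, P c → ∀ back : List ℕ, (∀ x ∈ back, P x) →
      ∀ x ∈ kid2 m c ++ (kid1 m c ++ (kid0 m c ++ back)), P x := by
    intro m c hc back hb x hx
    simp only [kid0, kid1, kid2, List.mem_append] at hx
    rcases hx with h | h | h | h
    · split at h <;> simp at h; exact h ▸ hG c hc
    · split at h <;> simp at h; exact h ▸ hB c hc
    · split at h <;> simp at h; exact h ▸ hA c hc
    · exact hb x h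
  intro ms
  induction ms with
  | nil => intro front back out _ _ ho; exact ho
  | cons m ms ih =>
    intro front back out hf hb ho
    match front with
    | c :: fs =>
      rw [grow]
      refine ih _ _ _ (fun x hx => hf x (List.mem_cons_of_mem _ hx))
        (kids m c (hf c List.mem_cons_self) back hb) fun x hx => ?_
      rcases List.mem_cons.mp hx with rfl | hx
      · exact hf x List.mem_cons_self
      · exact ho x hx
    | [] =>
      rw [grow]
      have hr : ∀ x ∈ back.reverse, P x := fun x hx => hb x (List.mem_reverse.mp hx)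
      generalize back.reverse = r at hr
      match r with
      | c :: fs =>
        refine ih _ _ _ (fun x hx => hr x (List.mem_cons_of_mem _ hx)) ?_ fun x hx => ?_
        · have := kids m c (hr c List.mem_cons_self) [] (by simp)
          simpa using this
        · rcases List.mem_cons.mp hx with rfl | hx
          · exact hr x List.mem_cons_self
          · exact ho x hx
      | [] => exact ho

/-! ### Merge sort in the kernel -/

/-- merge with fuel -/
def mergeF : ℕ → List ℕ → List ℕ → List ℕ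
  | 0, a, b => a ++ b
  | n + 1, a, b =>
    match a, b with
    | [], b => b
    | a, [] => a
    | x :: as, y :: bs => bif Nat.blt x y then x :: mergeF n as (y :: bs) else y :: mergeF n (x :: as) bs

theorem mem_mergeF : ∀ n a b (x : ℕ), x ∈ mergeF n a b → x ∈ a ∨ x ∈ b
  | 0, a, b, x, h => List.mem_append.mp h
  | n + 1, a, b, x, h => by
    match a, b with
    | [], b => exact Or.inr h
    | a :: as, [] => exact Or.inl h
    | a :: as, y :: bs =>
      rw [mergeF] at h
      cases hc : Nat.blt a y <;> rw [hc] at h <;> simp only [cond_true, cond_false, List.mem_cons] at h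
      · rcases h with h | h
        · exact Or.inr (by simp [h])
        · rcases mem_mergeF n _ _ x h with h | h
          · exact Or.inl h
          · exact Or.inr (by simp [h])
      · rcases h with h | h
        · exact Or.inl (by simp [h])
        · rcases mem_mergeF n _ _ x h with h | h
          · exact Or.inl (by simp [h])
          · exact Or.inr h

/-- one pass -/
def pass : List (List ℕ) → List (List ℕ)
  | a :: b :: l => mergeF (a.length + b.length) a b :: pass l
  | l => l

theorem mem_pass : ∀ (l : List (List ℕ)) (x : ℕ), x ∈ (pass l).flatten → x ∈ l.flatten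
  | [], _, h => h
  | [_], _, h => h
  | a :: b :: l, x, h => by
    simp only [pass, List.flatten_cons, List.mem_append] at h ⊢
    rcases h with h | h
    · rcases mem_mergeF _ _ _ _ h with h | h <;> tauto
    · exact Or.inr (Or.inr (mem_pass l x h))

/-- all passes -/
def sortN : ℕ → List (List ℕ) → List (List ℕ)
  | 0, l => l
  | n + 1, l => sortN n (pass l)

/-- sort -/
def msort (l : List ℕ) : List ℕ := (sortN 14 (l.map fun x => [x])).flatten

theorem mem_msort {l : List ℕ} {x : ℕ} (h : x ∈ msort l) : x ∈ l := by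
  have key : ∀ n (L : List (List ℕ)), x ∈ (sortN n L).flatten → x ∈ L.flatten := by
    intro n
    induction n with
    | zero => exact fun L h => h
    | succ n ih => exact fun L h => mem_pass L x (ih _ h)
  simpa using key 14 _ h

/-- strictly increasing -/
def incB : List ℕ → Bool
  | a :: b :: l => Nat.blt a b && incB (b :: l)
  | _ => true

theorem incB_chain : ∀ l : List ℕ, incB l = true → l.IsChain (· < ·)
  | [], _ => List.isChain_nil
  | [a], _ => List.isChain_singleton a
  | a :: b :: l, h => by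
    simp only [incB, Bool.and_eq_true] at h
    exact List.isChain_cons_cons.mpr ⟨by simpa using Nat.le_of_ble_eq_true h.1, incB_chain _ h.2⟩

theorem card_ge {l : List ℕ} {n : ℕ} (h : incB (msort l) = true) (hn : (msort l).length = n) :
    n ≤ l.toFinset.card := by
  have hnd : (msort l).Nodup := (List.isChain_iff_pairwise.mp (incB_chain _ h)).imp fun h => h.ne
  rw [← hn, ← List.toFinset_card_of_nodup hnd]
  exact card_le_card fun x hx => List.mem_toFinset.mpr (mem_msort (List.mem_toFinset.mp hx))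

/-- the tree check -/
def treeB (seed : ℕ) (cert : List ℕ) (n : ℕ) : Bool :=
  let s := msort (grow cert [seed] [] [])
  incB s && Nat.beq s.length n

theorem trees : treeB seedOne certOne 1 = true ∧ treeB seedE certE 1100 = true ∧
    treeB seedC certC 5600 = true ∧ treeB seedB certB 4125 = true ∧
    treeB seedA certA 352 = true := by decide +kernel

theorem perms_ok : H94.memB permA = true ∧ H94.pap permA 23 = 23 ∧ H94.pap permA 0 = 0 ∧
    H94.memB permB = true ∧ H94.pap permB 23 = 23 ∧ H94.pap permB 0 = 0 := by decide +kernel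

/-- the points of the model -/
def pts : Set leechLattice := {y | ldot y y = 32 ∧ ldot Spor.leechV y = -16}

theorem perm_step {Q : ℕ} (hm : H94.memB Q = true) (h23 : H94.pap Q 23 = 23) (h0 : H94.pap Q 0 = 0) :
    ∃ k ∈ pvU'.group, ∀ c (y : leechLattice), dec c = (y : GolayPt → ℤ) →
      Coded (actP Q c) ∧ dec (actP Q c) = ((k • y : leechLattice) : GolayPt → ℤ) := by
  obtain ⟨τ, hτ, hR⟩ := H94.exists_perm_of_memB hm
  have e1 : τ none = none := by
    have := hR.apply none
    rwa [show H94.idxN none = 23 from rfl, h23, show H94.ptN 23 = none from rfl] at this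
  have e2 : τ (some 0) = some 0 := by
    have := hR.apply (some 0)
    rwa [show H94.idxN (some 0) = 0 from rfl, h0, show H94.ptN 0 = some 0 from rfl] at this
  set σ : M24 := ⟨τ⁻¹, inv_mem hτ⟩
  have s1 : σ.1 none = none := Equiv.Perm.inv_eq_iff_eq.mpr e1.symm
  have s2 : σ.1 (some 0) = some 0 := Equiv.Perm.inv_eq_iff_eq.mpr e2.symm
  refine ⟨_, (pvU'.hom ⟨σ, s1, s2⟩).2, fun c y h => ⟨(actP_spec hR c).1, funext fun p => ?_⟩⟩
  rw [(actP_spec hR c).2, h]
  show _ = ((permHom σ • y : leechLattice) : GolayPt → ℤ) p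
  rw [permHom_apply]
  rfl

theorem gElt_step {c : ℕ} {y : leechLattice} (hy : ldot y y = 32) (h : dec c = (y : GolayPt → ℤ)) :
    Coded (actG c) ∧ dec (actG c) = ((gElt • y : leechLattice) : GolayPt → ℤ) := by
  have hf : ∀ j < 24, Int.toNat ((mulG (dec c) (H94.ptN j) / 8 + 8) % 32) < 32 := fun j _ => by omega
  refine ⟨encD_lt 24 hf, funext fun p => ?_⟩
  rw [dec, actG, dig_encD 24 hf _ (H94.idxN_lt p), H94.ptN_idxN, gElt_apply, h]
  have hn : sqNorm ((gElt • y : leechLattice) : GolayPt → ℤ) = 32 := by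
    rw [sqNorm_eq_ldot, co0_dot, hy]
  have hb := abs_le_of_sqNorm (R := 5) hn (by norm_num) (by norm_num) p
  rw [gElt_apply] at hb
  omega

theorem orbit_class (seed : ℕ) (cert : List ℕ) (n : ℕ) (hc : Coded seed)
    (ht : treeB seed cert n = true) (s : leechLattice) (hs : ldot s s = 32)
    (hdec : dec seed = (s : GolayPt → ℤ)) :
    n ≤ (MulAction.orbit pvU'.group s).ncard := by
  classical
  set P : ℕ → Prop := fun c => Coded c ∧ ∃ k ∈ pvU'.group,
    dec c = ((k • s : leechLattice) : GolayPt → ℤ) with hP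
  obtain ⟨ha, a1, a2, hb, b1, b2⟩ := perms_ok
  obtain ⟨ka, hka, ea⟩ := perm_step ha a1 a2
  obtain ⟨kb, hkb, eb⟩ := perm_step hb b1 b2
  have hmem : ∀ c ∈ grow cert [seed] [] [], P c := by
    refine grow_mem P ?_ ?_ ?_ cert [seed] [] [] ?_ (by simp) (by simp)
    · rintro c ⟨-, k, hk, e⟩
      obtain ⟨e1, e2⟩ := ea c _ e
      exact ⟨e1, ka * k, mul_mem hka hk, by rw [mul_smul]; exact e2⟩
    · rintro c ⟨-, k, hk, e⟩
      obtain ⟨e1, e2⟩ := eb c _ e
      exact ⟨e1, kb * k, mul_mem hkb hk, by rw [mul_smul]; exact e2⟩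
    · rintro c ⟨-, k, hk, e⟩
      obtain ⟨e1, e2⟩ := gElt_step (y := k • s) (by rw [co0_dot, hs]) e
      exact ⟨e1, gElt * k, mul_mem gElt_mem hk, by rw [mul_smul]; exact e2⟩
    · intro c hc'
      rw [List.mem_singleton] at hc'
      subst hc'
      exact ⟨hc, 1, one_mem _, by rw [one_smul]; exact hdec⟩
  simp only [treeB, Bool.and_eq_true] at ht
  have hn := card_ge ht.1 (Nat.eq_of_beq_eq_true ht.2)
  have hfin : (MulAction.orbit pvU'.group s).Finite := by
    refine (leechLike.finite_norm (N := 32) (Or.inl rfl)).subset ?_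
    rintro _ ⟨⟨k, -⟩, rfl⟩
    show ldot (k • s) (k • s) = 32
    rw [co0_dot, hs]
  refine le_trans hn ?_
  rw [← Set.ncard_coe_finset, ← Set.ncard_image_of_injective _ Subtype.val_injective]
  refine Set.ncard_le_ncard_of_injOn dec ?_ ?_ (hfin.image _)
  · intro c hc'
    obtain ⟨-, k, hk, e⟩ := hmem c (List.mem_toFinset.mp (mem_coe.mp hc'))
    exact ⟨k • s, ⟨⟨k, hk⟩, rfl⟩, e.symm⟩
  · intro a ha' b hb' e
    exact dec_inj (hmem a (List.mem_toFinset.mp (mem_coe.mp ha'))).1
      (hmem b (List.mem_toFinset.mp (mem_coe.mp hb'))).1 e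

theorem seeds_ok : ∀ c ∈ [seedOne, seedE, seedC, seedB, seedA],
    c < 32 ^ 24 ∧ Check.checkB (dec c) = true ∧ sqNorm (dec c) = 32 ∧
      5 * dec c none + ∑ x : ZMod 23, dec c (some x) = 16 := by decide +kernel

theorem seed_dots : 4 * dec seedOne none - 4 * dec seedOne (some 0) = 32 ∧
    4 * dec seedE none - 4 * dec seedE (some 0) = 16 ∧
    4 * dec seedC none - 4 * dec seedC (some 0) = 8 ∧
    4 * dec seedB none - 4 * dec seedB (some 0) = 0 ∧
    4 * dec seedA none - 4 * dec seedA (some 0) = -8 := by decide +kernel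

theorem main : ∃ y₀ y₁ y₂ y₃ y₄ : leechLattice, y₀ = pvU'.w ∧ y₁ ∈ pts ∧ y₂ ∈ pts ∧ y₃ ∈ pts ∧
    y₄ ∈ pts ∧ (MulAction.orbit pvU'.group y₁).ncard = 352 ∧
    (MulAction.orbit pvU'.group y₂).ncard = 1100 ∧ (MulAction.orbit pvU'.group y₃).ncard = 4125 ∧
    (MulAction.orbit pvU'.group y₄).ncard = 5600 ∧
    pts = {y₀} ∪ MulAction.orbit pvU'.group y₁ ∪ MulAction.orbit pvU'.group y₂ ∪
      MulAction.orbit pvU'.group y₃ ∪ MulAction.orbit pvU'.group y₄ ∧
    dec seedA = (y₁ : GolayPt → ℤ) ∧ ldot pvU'.w y₁ = -8 ∧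
    ∀ y ∈ pts, ldot pvU'.w y = -8 → y ∈ MulAction.orbit pvU'.group y₁ := by
  classical
  have mk : ∀ c ∈ [seedOne, seedE, seedC, seedB, seedA], ∃ s : leechLattice,
      Coded c ∧ dec c = (s : GolayPt → ℤ) ∧ ldot s s = 32 ∧ ldot Spor.leechV s = -16 ∧
      ldot pvU'.w s = 4 * dec c none - 4 * dec c (some 0) := by
    intro c hc
    obtain ⟨h1, h2, h3, h4⟩ := seeds_ok c hc
    refine ⟨⟨dec c, Check.checkB_spec h2⟩, h1, rfl, (sqNorm_eq_ldot _).symm.trans h3, ?_, ?_⟩
    · rw [ldot_comm, dot_const leechV_none leechV_some]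
      show dec c none * -5 + (∑ x : ZMod 23, dec c (some x)) * -1 = -16
      linarith
    · rw [ldot_comm, pvU'.dot]
      show 4 * dec c none + 4 * pvU'.e * dec c (some 0) = _
      simp only [pvU']; ring
  obtain ⟨t0, t1, t2, t3, t4⟩ := trees
  obtain ⟨d0, d1, d2, d3, d4⟩ := seed_dots
  obtain ⟨s0, c0, e0, n0, v0, u0⟩ := mk seedOne (by simp)
  obtain ⟨s1, c1, e1, n1, v1, u1⟩ := mk seedA (by simp)
  obtain ⟨s2, c2, e2, n2, v2, u2⟩ := mk seedE (by simp)
  obtain ⟨s3, c3, e3, n3, v3, u3⟩ := mk seedB (by simp)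
  obtain ⟨s4, c4, e4, n4, v4, u4⟩ := mk seedC (by simp)
  rw [d0] at u0; rw [d4] at u1; rw [d1] at u2; rw [d3] at u3; rw [d2] at u4
  have hs0 : s0 = pvU'.w := by
    have : ldot (pvU'.w - s0) (pvU'.w - s0) = 0 := by
      rw [leechLike.norm_sub, pvU'.norm, u0, n0]; norm_num
    exact (sub_eq_zero.mp (leechLike.eq_zero_of_norm this)).symm
  have sub : ∀ s, ldot s s = 32 → ldot Spor.leechV s = -16 →
      ∀ y ∈ MulAction.orbit pvU'.group s, y ∈ pts ∧ ldot pvU'.w y = ldot pvU'.w s := by
    rintro s hn hv _ ⟨⟨k, hk⟩, rfl⟩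
    show (ldot (k • s) (k • s) = 32 ∧ ldot Spor.leechV (k • s) = -16) ∧ ldot pvU'.w (k • s) = _
    refine ⟨⟨by rw [co0_dot, hn], ?_⟩, ?_⟩
    · conv_lhs => rw [← (hk.1 : k • Spor.leechV = Spor.leechV)]
      rw [co0_dot, hv]
    · conv_lhs => rw [← (hk.2 : k • pvU'.w = pvU'.w)]
      rw [co0_dot]
  set A : Fin 5 → Set leechLattice := ![{pvU'.w}, MulAction.orbit pvU'.group s1,
    MulAction.orbit pvU'.group s2, MulAction.orbit pvU'.group s3, MulAction.orbit pvU'.group s4]
    with hA
  have hpts : pts.ncard = 11178 := by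
    have := Census48.ncard_dot_neg16 Spor.leechV ((sqNorm_eq_ldot _).trans leechV_norm)
    simp only [sqNorm_eq_ldot] at this
    exact this
  have hfin : pts.Finite := (leechLike.finite_norm (Or.inl rfl)).subset fun x hx => hx.1
  have m0 : pvU'.w ∈ pts := ⟨pvU'.norm, by rw [PairVec.dotV]; rfl⟩
  have f : ∀ s, ldot s s = 32 → ldot Spor.leechV s = -16 →
      (MulAction.orbit pvU'.group s).Finite :=
    fun s hn hv => hfin.subset fun y hy => (sub s hn hv y hy).1
  have l1 := orbit_class _ _ _ c1 t4 s1 n1 e1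
  have l2 := orbit_class _ _ _ c2 t1 s2 n2 e2
  have l3 := orbit_class _ _ _ c3 t3 s3 n3 e3
  have l4 := orbit_class _ _ _ c4 t2 s4 n4 e4
  set U := ({pvU'.w} : Set leechLattice) ∪ MulAction.orbit pvU'.group s1 ∪
    MulAction.orbit pvU'.group s2 ∪ MulAction.orbit pvU'.group s3 ∪ MulAction.orbit pvU'.group s4
    with hU
  have hUsub : U ⊆ pts := by
    rintro y ((((h | h) | h) | h) | h)
    · rw [Set.mem_singleton_iff] at h; subst h; exact m0
    · exact (sub _ n1 v1 y h).1
    · exact (sub _ n2 v2 y h).1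
    · exact (sub _ n3 v3 y h).1
    · exact (sub _ n4 v4 y h).1
  have hsum : U.ncard = 1 + (MulAction.orbit pvU'.group s1).ncard +
      (MulAction.orbit pvU'.group s2).ncard + (MulAction.orbit pvU'.group s3).ncard +
      (MulAction.orbit pvU'.group s4).ncard := by
    have q0 : ∀ y ∈ ({pvU'.w} : Set leechLattice), ldot pvU'.w y = 32 := by
      rintro y rfl; exact pvU'.norm
    have q1 := fun y hy => ((sub _ n1 v1 y hy).2).trans u1
    have q2 := fun y hy => ((sub _ n2 v2 y hy).2).trans u2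
    have q3 := fun y hy => ((sub _ n3 v3 y hy).2).trans u3
    have q4 := fun y hy => ((sub _ n4 v4 y hy).2).trans u4
    have g0 := Set.finite_singleton pvU'.w
    have g1 := f _ n1 v1
    have g2 := f _ n2 v2
    have g3 := f _ n3 v3
    have g4 := f _ n4 v4
    rw [hU, Set.ncard_union_eq _ (((g0.union g1).union g2).union g3) g4,
      Set.ncard_union_eq _ ((g0.union g1).union g2) g3, Set.ncard_union_eq _ (g0.union g1) g2,
      Set.ncard_union_eq _ g0 g1, Set.ncard_singleton]
    · exact Set.disjoint_left.mpr fun y a b => by have := q0 y a; have := q1 y b; omega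
    · refine Set.disjoint_left.mpr fun y a b => ?_
      have := q2 y b
      rcases a with a | a <;> [have := q0 y a; have := q1 y a] <;> omega
    · refine Set.disjoint_left.mpr fun y a b => ?_
      have := q3 y b
      rcases a with (a | a) | a <;> [have := q0 y a; have := q1 y a; have := q2 y a] <;> omega
    · refine Set.disjoint_left.mpr fun y a b => ?_
      have := q4 y b
      rcases a with ((a | a) | a) | a <;>
        [have := q0 y a; have := q1 y a; have := q2 y a; have := q3 y a] <;> omega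
  have hle := Set.ncard_le_ncard hUsub hfin
  refine ⟨pvU'.w, s1, s2, s3, s4, rfl, ⟨n1, v1⟩, ⟨n2, v2⟩, ⟨n3, v3⟩, ⟨n4, v4⟩, by omega, by omega,
    by omega, by omega, ?_, e1, u1, fun y hy hd => ?_⟩
  · exact (Set.eq_of_subset_of_ncard_le hUsub (by omega) hfin).symm
  · rw [← Set.eq_of_subset_of_ncard_le hUsub (by omega) hfin] at hy
    rcases hy with (((h | h) | h) | h) | h
    · rw [Set.mem_singleton_iff] at h; rw [h, pvU'.norm] at hd; norm_num at hd
    · exact h
    · have := ((sub _ n2 v2 y h).2).trans u2; omega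
    · have := ((sub _ n3 v3 y h).2).trans u3; omega
    · have := ((sub _ n4 v4 y h).2).trans u4; omega

theorem hs_rank_five (u x : leechLattice) (hu : sqNorm (u : GolayPt → ℤ) = 48)
    (S : Set leechLattice) (hS : ∀ y : leechLattice, y ∈ S ↔ (sqNorm (y : GolayPt → ℤ) = 32 ∧
      dotInt (u : GolayPt → ℤ) (y : GolayPt → ℤ) = -16)) (hx : x ∈ S) :
    ∃ y₁ ∈ S, ∃ y₂ ∈ S, ∃ y₃ ∈ S, ∃ y₄ ∈ S,
      (MulAction.orbit ↥(MulAction.stabilizer Co0 u ⊓ MulAction.stabilizer Co0 x) y₁).ncard = 352 ∧
      (MulAction.orbit ↥(MulAction.stabilizer Co0 u ⊓ MulAction.stabilizer Co0 x) y₂).ncard = 1100 ∧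
      (MulAction.orbit ↥(MulAction.stabilizer Co0 u ⊓ MulAction.stabilizer Co0 x) y₃).ncard = 4125 ∧
      (MulAction.orbit ↥(MulAction.stabilizer Co0 u ⊓ MulAction.stabilizer Co0 x) y₄).ncard = 5600 ∧
      S = {x} ∪ MulAction.orbit ↥(MulAction.stabilizer Co0 u ⊓ MulAction.stabilizer Co0 x) y₁ ∪
        MulAction.orbit ↥(MulAction.stabilizer Co0 u ⊓ MulAction.stabilizer Co0 x) y₂ ∪
        MulAction.orbit ↥(MulAction.stabilizer Co0 u ⊓ MulAction.stabilizer Co0 x) y₃ ∪
        MulAction.orbit ↥(MulAction.stabilizer Co0 u ⊓ MulAction.stabilizer Co0 x) y₄ := by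
  rw [sqNorm_eq_ldot] at hu
  obtain ⟨hxn, hxu⟩ := (hS x).mp hx
  rw [sqNorm_eq_ldot] at hxn
  obtain ⟨g, h1, h2⟩ := Lam.pair_transitive_48_32_neg hu hxn hxu leechV_norm pvU'.norm
    (by rw [PairVec.dotV]; rfl)
  have hiff : ∀ y, y ∈ S ↔ g • y ∈ pts := fun y => by
    rw [hS]
    show _ ↔ ldot (g • y) (g • y) = 32 ∧ ldot Spor.leechV (g • y) = -16
    rw [sqNorm_eq_ldot, co0_dot, ← h1, co0_dot]
    rfl
  have hgrp : ∀ k : Co0, k ∈ pvU'.group ↔
      g⁻¹ * k * g ∈ MulAction.stabilizer Co0 u ⊓ MulAction.stabilizer Co0 x := fun k => by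
    show k • Spor.leechV = Spor.leechV ∧ k • pvU'.w = pvU'.w ↔
      (g⁻¹ * k * g) • u = u ∧ (g⁻¹ * k * g) • x = x
    rw [mul_smul, mul_smul, mul_smul, mul_smul, h1, h2, inv_smul_eq_iff, inv_smul_eq_iff, h1, h2]
  have horb : ∀ y : leechLattice,
      MulAction.orbit ↥(MulAction.stabilizer Co0 u ⊓ MulAction.stabilizer Co0 x) (g⁻¹ • y) =
        (fun z => g⁻¹ • z) '' MulAction.orbit pvU'.group y := by
    intro y
    ext z
    simp only [Set.mem_image, MulAction.mem_orbit_iff]
    constructor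
    · rintro ⟨⟨k, hk⟩, rfl⟩
      refine ⟨(g * k * g⁻¹) • y, ⟨⟨_, (hgrp _).mpr (by simpa [mul_assoc] using hk)⟩, rfl⟩, ?_⟩
      show g⁻¹ • (g * k * g⁻¹) • y = k • g⁻¹ • y
      rw [smul_smul, smul_smul]; congr 1; group
    · rintro ⟨_, ⟨⟨k, hk⟩, rfl⟩, rfl⟩
      refine ⟨⟨_, (hgrp k).mp hk⟩, ?_⟩
      show (g⁻¹ * k * g) • g⁻¹ • y = g⁻¹ • k • y
      rw [smul_smul, smul_smul]; congr 1; group
  obtain ⟨y0, y1, y2, y3, y4, h0, p1, p2, p3, p4, o1, o2, o3, o4, hun, -⟩ := main
  have hmem : ∀ y ∈ pts, g⁻¹ • y ∈ S := fun y hy => by rw [hiff, smul_inv_smul]; exact hy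
  have hcard : ∀ y : leechLattice,
      (MulAction.orbit ↥(MulAction.stabilizer Co0 u ⊓ MulAction.stabilizer Co0 x) (g⁻¹ • y)).ncard =
        (MulAction.orbit pvU'.group y).ncard := fun y => by
    rw [horb, Set.ncard_image_of_injective _ (MulAction.injective g⁻¹)]
  refine ⟨g⁻¹ • y1, hmem _ p1, g⁻¹ • y2, hmem _ p2, g⁻¹ • y3, hmem _ p3, g⁻¹ • y4, hmem _ p4,
    (hcard y1).trans o1, (hcard y2).trans o2, (hcard y3).trans o3, (hcard y4).trans o4, ?_⟩
  have hSimg : S = (fun z => g⁻¹ • z) '' pts := by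
    ext y
    exact ⟨fun hy => ⟨g • y, (hiff y).mp hy, inv_smul_smul g y⟩, by rintro ⟨z, hz, rfl⟩; exact hmem z hz⟩
  rw [hSimg, hun, horb, horb, horb, horb, Set.image_union, Set.image_union, Set.image_union,
    Set.image_union, Set.image_singleton, h0, ← h2, inv_smul_smul]

end Rank5
end H96
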