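import Cfsg.Agent.H96.Rank5
import Cfsg.Agent.H96.U35Data
import Cfsg.Agent.H64.SUTransport
import Cfsg.Agent.H50.Simple
import Cfsg.Agent.H50.DetCentralizer
import Cfsg.Agent.H51.Herm
import Cfsg.Agent.H90.Orbits

/-!
The stabiliser of one of the 352 points in the Higman–Sims group is `PSU₃(5)`: both act on 126
objects by the same pair of permutations, generating a group of order 126000.
-/

set_option autoImplicit false

namespace H96
namespace U35

open Cfsg Finset H95
open Rank5 (dec Coded actP actG pts dig permA permB seedA)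
open Matrix (mulVec)

/-! ### The permutation group -/

/-- image under a permutation packed seven bits a point -/
def pap7 (P i : ℕ) : ℕ := Nat.land (Nat.shiftRight P (Nat.mul 7 i)) 127

/-- the map of a packed permutation -/
def pFun (P : ℕ) (i : Fin 126) : Fin 126 := ⟨pap7 P i.val % 126, Nat.mod_lt _ (by norm_num)⟩

theorem inv_ok : ∀ i : Fin 126, pFun permOneInv (pFun permOne i) = i ∧
    pFun permOne (pFun permOneInv i) = i ∧ pFun permTwoInv (pFun permTwo i) = i ∧
    pFun permTwo (pFun permTwoInv i) = i := by decide +kernel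

/-- the first permutation -/
def one' : Equiv.Perm (Fin 126) :=
  ⟨pFun permOne, pFun permOneInv, fun i => (inv_ok i).1, fun i => (inv_ok i).2.1⟩

/-- the second permutation -/
def two' : Equiv.Perm (Fin 126) :=
  ⟨pFun permTwo, pFun permTwoInv, fun i => (inv_ok i).2.2.1, fun i => (inv_ok i).2.2.2⟩

/-- the group they generate -/
def P126 : Subgroup (Equiv.Perm (Fin 126)) := Subgroup.closure {one', two'}

/-- a letter -/
def letterFun : ℕ → Fin 126 → Fin 126
  | 0 => pFun permOne
  | 1 => pFun permTwo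
  | 2 => pFun permOneInv
  | _ => pFun permTwoInv

/-- a letter as an element -/
def letterPerm : ℕ → Equiv.Perm (Fin 126)
  | 0 => one'
  | 1 => two'
  | 2 => one'⁻¹
  | _ => two'⁻¹

/-- act by a word, first letter first -/
def runW (w : List ℕ) (i : Fin 126) : Fin 126 := w.foldl (fun x l => letterFun l x) i

theorem exists_word (w : List ℕ) : ∃ g ∈ P126, ∀ i, g i = runW w i := by
  induction w using List.reverseRecOn with
  | nil => exact ⟨1, one_mem _, fun i => rfl⟩
  | append_singleton w l ih =>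
    obtain ⟨g, hg, h⟩ := ih
    have hl : letterPerm l ∈ P126 ∧ ∀ i, letterPerm l i = letterFun l i := by
      have h1 : one' ∈ P126 := Subgroup.subset_closure (by simp)
      have h2 : two' ∈ P126 := Subgroup.subset_closure (by simp)
      match l with
      | 0 => exact ⟨h1, fun i => rfl⟩
      | 1 => exact ⟨h2, fun i => rfl⟩
      | 2 => exact ⟨inv_mem h1, fun i => rfl⟩
      | n + 3 => exact ⟨inv_mem h2, fun i => rfl⟩
    refine ⟨letterPerm l * g, mul_mem hl.1 hg, fun i => ?_⟩
    rw [Equiv.Perm.mul_apply, h, hl.2, runW, runW, List.foldl_append]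
    rfl

/-- orbit of a point along a tree -/
def orbList (f : ℕ → Fin 126 → Fin 126) (p : Fin 126) (T : List (ℕ × ℕ)) : List (Fin 126) :=
  T.foldl (fun L e => L ++ [f e.2 (L.getD e.1 p)]) [p]

theorem orbList_mem {G : Subgroup (Equiv.Perm (Fin 126))} (f : ℕ → Fin 126 → Fin 126)
    (hf : ∀ j, ∃ g ∈ G, ∀ i, g i = f j i) (p : Fin 126) (T : List (ℕ × ℕ)) :
    ∀ q ∈ orbList f p T, ∃ g ∈ G, g • p = q := by
  induction T using List.reverseRecOn with
  | nil => intro q hq; rw [List.mem_singleton.mp hq]; exact ⟨1, one_mem _, one_smul _ _⟩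
  | append_singleton T e ih =>
    intro q hq
    simp only [orbList, List.foldl_append, List.foldl_cons, List.foldl_nil] at hq ih
    rcases List.mem_append.mp hq with hq | hq
    · exact ih q hq
    · rw [List.mem_singleton.mp hq]
      generalize hL : List.foldl (fun L e => L ++ [f e.2 (L.getD e.1 p)]) [p] T = L at ih ⊢
      have hmem : ∃ g ∈ G, g • p = L.getD e.1 p := by
        by_cases hlt : e.1 < L.length
        · rw [List.getD_eq_getElem _ _ hlt]; exact ih _ (List.getElem_mem hlt)
        · rw [List.getD_eq_default _ _ (Nat.le_of_not_lt hlt)]; exact ⟨1, one_mem _, one_smul _ _⟩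
      obtain ⟨g, hg, e'⟩ := hmem
      obtain ⟨h, hh, hi⟩ := hf e.2
      refine ⟨h * g, mul_mem hh hg, ?_⟩
      rw [mul_smul, e']
      exact hi _

/-- first point -/
def pZero : Fin 126 := 0
/-- second point -/
def pOne : Fin 126 := ⟨secondPt % 126, Nat.mod_lt _ (by norm_num)⟩
/-- stabiliser letters -/
def stabFun (j : ℕ) : Fin 126 → Fin 126 := runW (stabWords.getD j [])

theorem covers : (List.finRange 126).all (fun q => (orbList letterFun pZero treeOne).elem q) = true ∧
    (List.finRange 126).all (fun q => q == pZero || (orbList stabFun pOne treeTwo).elem q) = true := by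
  decide +kernel

theorem fixes : stabWords.all (fun w => runW w pZero == pZero) = true ∧
    runW twoWord pZero = pZero ∧ runW twoWord pOne = pOne ∧
    (∀ i, (runW twoWord)^[8] i = i) ∧ ¬ (∀ i, (runW twoWord)^[4] i = i) ∧ pOne ≠ pZero := by
  decide +kernel

theorem card_ge : 126000 ≤ Nat.card P126 := by
  obtain ⟨c1, c2⟩ := covers
  obtain ⟨f1, f2, f3, f8, f4, hne⟩ := fixes
  set S := P126 ⊓ MulAction.stabilizer (Equiv.Perm (Fin 126)) pZero with hS
  have o1 : ∀ q, ∃ g ∈ P126, g • pZero = q := fun q => by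
    refine orbList_mem letterFun (fun j => ?_) pZero treeOne q
      (List.elem_iff.mp (List.all_eq_true.mp c1 q (List.mem_finRange q)))
    obtain ⟨g, hg, e⟩ := exists_word [j]
    exact ⟨g, hg, e⟩
  have o2 : ∀ q, q ≠ pZero → ∃ g ∈ S, g • pOne = q := fun q hq => by
    refine orbList_mem stabFun (fun j => ?_) pOne treeTwo q ?_
    · obtain ⟨g, hg, e⟩ := exists_word (stabWords.getD j [])
      refine ⟨g, ⟨hg, ?_⟩, e⟩
      show g pZero = pZero
      rw [e]
      by_cases hj : j < stabWords.length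
      · rw [List.getD_eq_getElem _ _ hj]
        simpa using List.all_eq_true.mp f1 _ (List.getElem_mem hj)
      · rw [List.getD_eq_default _ _ (Nat.le_of_not_lt hj)]; rfl
    · have := List.all_eq_true.mp c2 q (List.mem_finRange q)
      simpa [hq] using this
  have k1 := H90.natCard_inf_stabilizer P126 pZero Set.univ fun q => iff_of_true trivial (o1 q)
  have k2 := H90.natCard_inf_stabilizer S pOne {pZero}ᶜ fun q => by
    refine ⟨fun hq => o2 q (by simpa using hq), ?_⟩
    rintro ⟨g, hg, rfl⟩ h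
    rw [Set.mem_singleton_iff] at h
    exact hne (MulAction.injective g (h.trans hg.2.symm))
  rw [Set.ncard_univ, Nat.card_eq_fintype_card (α := Fin 126), Fintype.card_fin] at k1
  rw [Set.ncard_compl, Set.ncard_singleton, Nat.card_eq_fintype_card (α := Fin 126),
    Fintype.card_fin] at k2
  obtain ⟨u, hu, hue⟩ := exists_word twoWord
  have hu8 : orderOf u = 8 := by
    have hit : ∀ n : ℕ, ∀ i, (u ^ n) i = (runW twoWord)^[n] i := fun n i => by
      rw [Equiv.Perm.coe_pow, show (⇑u : Fin 126 → Fin 126) = runW twoWord from funext hue]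
    haveI : Fact (Nat.Prime 2) := ⟨Nat.prime_two⟩
    refine orderOf_eq_prime_pow (p := 2) (n := 2) (fun h => f4 fun i => ?_) ?_
    · rw [← hit, show (4 : ℕ) = 2 ^ 2 by norm_num, h]; rfl
    · ext i; rw [hit]; exact congrArg Fin.val (f8 i)
  have hmem : u ∈ S ⊓ MulAction.stabilizer (Equiv.Perm (Fin 126)) pOne :=
    ⟨⟨hu, show u pZero = pZero by rw [hue, f2]⟩, show u pOne = pOne by rw [hue, f3]⟩
  have k3 : 8 ≤ Nat.card ↥(S ⊓ MulAction.stabilizer (Equiv.Perm (Fin 126)) pOne) := by
    refine Nat.le_of_dvd Nat.card_pos ?_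
    rw [← hu8, ← Subgroup.orderOf_mk u hmem]
    exact orderOf_dvd_natCard _
  have : 8 * 125 ≤ Nat.card S := by rw [← k2]; exact Nat.mul_le_mul_right _ k3
  rw [← k1]
  calc 126000 = 8 * 125 * 126 := by norm_num
    _ ≤ _ := Nat.mul_le_mul_right _ this

/-! ### The 126 pairs -/

/-- the partner in a pair -/
def partner (c : ℕ) : ℕ :=
  Rank5.encD (fun j => Int.toNat ((-((Spor.leechV : GolayPt → ℤ) (H94.ptN j)) - dec c (H94.ptN j) + 8) % 32)) 24

/-- act by a word of the Higman–Sims letters, first letter first -/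
def runK (w : List ℕ) (c : ℕ) : ℕ :=
  w.foldl (fun x l => if l = 0 then actP permA x else if l = 1 then actP permB x else actG x) c

/-- code of a pair -/
def pairCode (i : Fin 126) : ℕ := pairCodes.getD i.val 0

/-- one member of a pair -/
def pairFun (i : Fin 126) : GolayPt → ℤ := dec (pairCode i)

theorem pairs_ok : ∀ i, pairCode i < 32 ^ 24 ∧ Check.checkB (pairFun i) = true ∧
    sqNorm (pairFun i) = 32 := by decide +kernel

/-- one member, in the lattice -/
def pairVec (i : Fin 126) : leechLattice := ⟨pairFun i, Check.checkB_spec (pairs_ok i).2.1⟩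

theorem partner_dec : ∀ i, dec (partner (pairCode i)) =
    -(Spor.leechV : GolayPt → ℤ) - pairFun i := by decide +kernel

theorem pairs_distinct :
    (Rank5.incB (Rank5.msort (pairCodes ++ pairCodes.map partner)) &&
      Nat.beq (Rank5.msort (pairCodes ++ pairCodes.map partner)).length 252) = true := by
  decide +kernel

theorem kmaps : ∀ i, (runK wordA (pairCode i) = pairCode (pFun permOne i) ∨
      runK wordA (pairCode i) = partner (pairCode (pFun permOne i))) ∧
    (runK wordB (pairCode i) = pairCode (pFun permTwo i) ∨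
      runK wordB (pairCode i) = partner (pairCode (pFun permTwo i))) := by decide +kernel

theorem kfix : runK wordA seedA = seedA ∧ runK wordB seedA = seedA := by decide +kernel

theorem exists_kword (w : List ℕ) : ∃ k ∈ pvU'.group, ∀ c (y : leechLattice), ldot y y = 32 →
    dec c = (y : GolayPt → ℤ) → dec (runK w c) = ((k • y : leechLattice) : GolayPt → ℤ) := by
  obtain ⟨ha, a1, a2, hb, b1, b2⟩ := Rank5.perms_ok
  obtain ⟨ka, hka, ea⟩ := Rank5.perm_step ha a1 a2
  obtain ⟨kb, hkb, eb⟩ := Rank5.perm_step hb b1 b2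
  induction w using List.reverseRecOn with
  | nil => exact ⟨1, one_mem _, fun c y _ h => by rw [one_smul]; exact h⟩
  | append_singleton w l ih =>
    obtain ⟨k, hk, e⟩ := ih
    have hrun : ∀ c, runK (w ++ [l]) c = if l = 0 then actP permA (runK w c) else
        if l = 1 then actP permB (runK w c) else actG (runK w c) := fun c => by
      simp only [runK, List.foldl_append, List.foldl_cons, List.foldl_nil]
    simp only [hrun]
    by_cases h0 : l = 0
    · exact ⟨ka * k, mul_mem hka hk, fun c y hy h => by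
        rw [if_pos h0, mul_smul]; exact (ea _ _ (e c y hy h)).2⟩
    · by_cases h1 : l = 1
      · exact ⟨kb * k, mul_mem hkb hk, fun c y hy h => by
          rw [if_neg h0, if_pos h1, mul_smul]; exact (eb _ _ (e c y hy h)).2⟩
      · exact ⟨Rank5.gElt * k, mul_mem Rank5.gElt_mem hk, fun c y hy h => by
          rw [if_neg h0, if_neg h1, mul_smul]
          exact (Rank5.gElt_step (by rw [co0_dot, hy]) (e c y hy h)).2⟩

theorem pairVec_norm (i : Fin 126) : ldot (pairVec i) (pairVec i) = 32 :=
  (sqNorm_eq_ldot _).symm.trans (pairs_ok i).2.2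

theorem pairVec_inj {i j : Fin 126}
    (h : pairVec i = pairVec j ∨ pairVec i = -Spor.leechV - pairVec j) : i = j := by
  classical
  have hcert := pairs_distinct
  rw [Bool.and_eq_true] at hcert
  set L := pairCodes ++ pairCodes.map partner with hL
  have hge := Rank5.card_ge hcert.1 (Nat.eq_of_beq_eq_true hcert.2)
  have hlen : pairCodes.length = 126 := rfl
  have hnd : L.Nodup := by
    by_contra hnd
    have h1 : L.dedup.length < L.length := by
      refine lt_of_le_of_ne (List.dedup_sublist L).length_le fun he => hnd ?_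
      rw [← (List.dedup_sublist L).eq_of_length he]; exact List.nodup_dedup L
    have h2 : L.length = 252 := by rw [hL]; simp [hlen]
    rw [List.card_toFinset] at hge
    omega
  rw [hL, List.nodup_append'] at hnd
  obtain ⟨n1, -, n3⟩ := hnd
  have hget : ∀ i : Fin 126, pairCode i = pairCodes[i.val]'(hlen.symm ▸ i.isLt : i.val < pairCodes.length) := fun i =>
    List.getD_eq_getElem _ _ _
  have hmem : ∀ i : Fin 126, pairCode i ∈ pairCodes := fun i => by
    rw [hget]; exact List.getElem_mem _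
  rcases h with h | h
  · have e : pairCode i = pairCode j :=
      Rank5.dec_inj (pairs_ok i).1 (pairs_ok j).1 (congrArg Subtype.val h)
    rw [hget, hget] at e
    exact Fin.ext (n1.getElem_inj_iff.mp e)
  · have e : pairCode i = partner (pairCode j) := by
      refine Rank5.dec_inj (pairs_ok i).1 (Rank5.encD_lt 24 fun k _ => by omega) ?_
      rw [partner_dec]; exact congrArg Subtype.val h
    exact absurd (List.mem_map.mpr ⟨_, hmem j, e.symm⟩) (n3 (hmem i))

/-- an element moves the pairs by a permutation -/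
def MovesPairs (k : Co0) (p : Equiv.Perm (Fin 126)) : Prop :=
  ∀ i, k • pairVec i = pairVec (p i) ∨ k • pairVec i = -Spor.leechV - pairVec (p i)

/-- the model stabiliser -/
noncomputable abbrev kGrp (y : leechLattice) : Subgroup Co0 :=
  pvU'.group ⊓ MulAction.stabilizer Co0 y

/-! ### The unitary group -/

/-- an isotropic vector -/
def isoVec (i : Fin 126) : Fin 3 → K25 := fun j =>
  ⟨((isoCodes.getD i.val 0 / 5 ^ (2 * j.val) : ℕ) : ZMod 5),
    ((isoCodes.getD i.val 0 / 5 ^ (2 * j.val + 1) : ℕ) : ZMod 5)⟩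

/-- a scalar from its code -/
def scal (L : List ℕ) (i : Fin 126) : K25 :=
  ⟨((L.getD i.val 0 : ℕ) : ZMod 5), ((L.getD i.val 0 / 5 : ℕ) : ZMod 5)⟩

theorem umaps : ∀ i, Matrix.mulVec matA (isoVec i) = scal scalA i • isoVec (pFun permOne i) ∧
    Matrix.mulVec matB (isoVec i) = scal scalB i • isoVec (pFun permTwo i) := by decide +kernel

theorem mat_ok : H51.adj card_K25 matA * matA = 1 ∧ H51.adj card_K25 matB * matB = 1 ∧
    matA.det = 1 ∧ matB.det = 1 := by decide +kernel

/-- frame index -/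
def frame (k : ℕ) : Fin 126 := ⟨frameIdx.getD k 0 % 126, Nat.mod_lt _ (by norm_num)⟩

/-- frame matrix -/
def frameMat : Matrix (Fin 3) (Fin 3) K25 := Matrix.of fun r c => isoVec (frame c.val) r

theorem frame_ok : frameMat * frameInv = 1 ∧ frameInv * frameMat = 1 ∧
    ∀ r, Matrix.mulVec frameInv (isoVec (frame 3)) r ≠ 0 := by decide +kernel

theorem mkSU_of_adj {M : Matrix (Fin 3) (Fin 3) K25} (hu : H51.adj card_K25 M * M = 1)
    (hd : M.det = 1) : ∃ s : SU 3 K25 5, H50.suMat s = M :=
  ⟨H50.mkSU M (fun a b => by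
    rw [H50.h_mulVec_left card_K25, Matrix.mulVec_mulVec, hu, Matrix.one_mulVec]) hd, rfl⟩

/-- a matrix fixing four points in general position is a scalar -/
theorem scalar_of_eigen {F : Type*} [Field F] (P P' : Matrix (Fin 3) (Fin 3) F) (h1 : P * P' = 1)
    (h2 : P' * P = 1) (M : Matrix (Fin 3) (Fin 3) F) (lam : Fin 3 → F) (μ : F) (v : Fin 3 → F)
    (hcol : ∀ k, Matrix.mulVec M (fun r => P r k) = lam k • fun r => P r k)
    (hv : Matrix.mulVec M v = μ • v) (hc : ∀ r, Matrix.mulVec P' v r ≠ 0) :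
    M = μ • (1 : Matrix (Fin 3) (Fin 3) F) := by
  have hMP : M * P = P * Matrix.diagonal lam := by
    refine Matrix.ext fun r k => ?_
    rw [Matrix.mul_diagonal, mul_comm (P r k)]
    exact congrFun (hcol k) r
  have hl : ∀ k, lam k = μ := fun k => by
    have e : Matrix.mulVec P' (Matrix.mulVec M (Matrix.mulVec P (Matrix.mulVec P' v))) =
        μ • Matrix.mulVec P' v := by
      rw [Matrix.mulVec_mulVec v P P', h1, Matrix.one_mulVec, hv, Matrix.mulVec_smul]
    rw [Matrix.mulVec_mulVec _ M P, hMP, Matrix.mulVec_mulVec _ P' (P * _), ← mul_assoc, h2,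
      one_mul] at e
    have e' := congrFun e k
    rw [Matrix.mulVec_diagonal] at e'
    exact mul_right_cancel₀ (hc k) e'
  calc M = M * (P * P') := by rw [h1, mul_one]
    _ = P * Matrix.diagonal (fun _ => μ) * P' := by
        rw [← mul_assoc, hMP, show lam = fun _ => μ from funext hl]
    _ = _ := by
        rw [← Matrix.smul_one_eq_diagonal, Matrix.mul_smul, mul_one, Matrix.smul_mul, h1]

theorem scalar_of_fix {M : Matrix (Fin 3) (Fin 3) K25}
    (h : ∀ i, ∃ l : K25, Matrix.mulVec M (isoVec i) = l • isoVec i) :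
    ∃ l : K25, M = l • (1 : Matrix (Fin 3) (Fin 3) K25) := by
  choose lam hlam using h
  obtain ⟨p1, p2, p3⟩ := frame_ok
  exact ⟨lam (frame 3), scalar_of_eigen frameMat frameInv p1 p2 M (fun k => lam (frame k.val))
    (lam (frame 3)) (isoVec (frame 3)) (fun k => hlam (frame k.val)) (hlam (frame 3)) p3⟩

/-- code of a vector -/
def isoEnc (v : Fin 3 → K25) : ℕ :=
  (v 0).re.val + 5 * (v 0).im.val + 25 * (v 1).re.val + 125 * (v 1).im.val + 625 * (v 2).re.val +
    3125 * (v 2).im.val

theorem iso_normal : ∀ i, isoEnc (isoVec i) = isoCodes.getD i.val 0 ∧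
    ((isoVec i 0 = 1) ∨ (isoVec i 0 = 0 ∧ isoVec i 1 = 1) ∨
      (isoVec i 0 = 0 ∧ isoVec i 1 = 0 ∧ isoVec i 2 = 1)) := by decide +kernel

theorem isoCodes_inj : ∀ i j : Fin 126, isoCodes.getD i.val 0 = isoCodes.getD j.val 0 → i = j := by
  decide +kernel

theorem isoVec_ne_smul {i j : Fin 126} (hij : i ≠ j) (c : K25) : c • isoVec i ≠ isoVec j := by
  intro h
  have e : ∀ r, c * isoVec i r = isoVec j r := fun r => congrFun h r
  have hc : c = 1 := by
    have e0 := e 0
    have e1 := e 1
    have e2 := e 2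
    rcases (iso_normal i).2 with a | ⟨a, b⟩ | ⟨a, b, d⟩
    · rw [a, mul_one] at e0
      rcases (iso_normal j).2 with a' | ⟨a', b'⟩ | ⟨a', b', d'⟩
      · rw [e0, a']
      · rw [e0.trans a', zero_mul] at e1; rw [b'] at e1; exact absurd e1 zero_ne_one
      · rw [e0.trans a', zero_mul] at e2; rw [d'] at e2; exact absurd e2 zero_ne_one
    · rw [a, mul_zero] at e0
      rw [b, mul_one] at e1
      rcases (iso_normal j).2 with a' | ⟨a', b'⟩ | ⟨a', b', d'⟩
      · rw [a'] at e0; exact absurd e0 zero_ne_one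
      · rw [e1, b']
      · rw [e1.trans b', zero_mul] at e2; rw [d'] at e2; exact absurd e2 zero_ne_one
    · rw [a, mul_zero] at e0
      rw [b, mul_zero] at e1
      rw [d, mul_one] at e2
      rcases (iso_normal j).2 with a' | ⟨a', b'⟩ | ⟨a', b', d'⟩
      · rw [a'] at e0; exact absurd e0 zero_ne_one
      · rw [b'] at e1; exact absurd e1 zero_ne_one
      · rw [e2, d']
  rw [hc, one_smul] at h
  refine hij (isoCodes_inj i j ?_)
  rw [← (iso_normal i).1, ← (iso_normal j).1, h]

theorem isoVec_ne_zero (i : Fin 126) : ∃ r, isoVec i r ≠ 0 := by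
  rcases (iso_normal i).2 with a | ⟨-, b⟩ | ⟨-, -, d⟩
  · exact ⟨0, by rw [a]; exact one_ne_zero⟩
  · exact ⟨1, by rw [b]; exact one_ne_zero⟩
  · exact ⟨2, by rw [d]; exact one_ne_zero⟩

/-- an element moves the isotropic points by a permutation -/
def MovesPoints (g : PSU 3 K25 5) (p : Equiv.Perm (Fin 126)) : Prop :=
  ∃ s : SU 3 K25 5, QuotientGroup.mk s = g ∧
    ∀ i, ∃ l : K25, Matrix.mulVec (H50.suMat s) (isoVec i) = l • isoVec (p i)

theorem card_PSU : Nat.card (PSU 3 K25 5) = 126000 := by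
  have h : Nat.gcd 3 (5 + 1) * ((5 + 1) * Nat.card (PSU 3 K25 5)) =
      5 ^ (3 * (3 - 1) / 2) * ∏ i ∈ range 3, (if Even i then 5 ^ (i + 1) + 1 else 5 ^ (i + 1) - 1) := by
    rw [H50.card_PSU_mul card_K25 (by norm_num : 2 ≤ 3), H50.card_GU card_K25]
  rw [prod_range_succ, prod_range_succ, prod_range_succ, prod_range_zero] at h
  norm_num [Nat.gcd, show ¬ Even 1 by decide] at h
  omega

theorem iso_model {y : leechLattice} (hy : dec seedA = (y : GolayPt → ℤ)) (hyn : ldot y y = 32)
    (hK : Nat.card (kGrp y) = 126000) : Nonempty (kGrp y ≃* PSU 3 K25 5) := by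
  classical
  haveI : Finite Co0 := co0_finite
  haveI : Finite (PSU 3 K25 5) := Nat.finite_of_card_ne_zero (by rw [card_PSU]; norm_num)
  let R : Subgroup (Co0 × PSU 3 K25 5 × Equiv.Perm (Fin 126)) :=
    { carrier := {t | t.1 ∈ kGrp y ∧ MovesPairs t.1 t.2.2 ∧ MovesPoints t.2.1 t.2.2}
      one_mem' := ⟨one_mem _, fun i => Or.inl (one_smul _ _),
        1, rfl, fun i => ⟨1, by simp [H50.suMat_one]⟩⟩
      mul_mem' := by
        rintro ⟨k, g, p⟩ ⟨k', g', p'⟩ ⟨hk, hp, s, hs, hg⟩ ⟨hk', hp', s', hs', hg'⟩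
        refine ⟨mul_mem hk hk', fun i => ?_, s * s', ?_, fun i => ?_⟩
        · have hv : k • Spor.leechV = Spor.leechV := hk.1.1
          simp only [Prod.mk_mul_mk, mul_smul, Equiv.Perm.mul_apply]
          rcases hp' i with e | e <;> rw [e]
          · exact hp (p' i)
          · rw [co0_sub, co0_neg, hv]
            rcases hp (p' i) with e' | e' <;> rw [e']
            · exact Or.inr rfl
            · left; abel
        · show (QuotientGroup.mk (s * s') : PSU 3 K25 5) = g * g'
          rw [QuotientGroup.mk_mul, hs, hs']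
        · obtain ⟨l', e'⟩ := hg' i
          obtain ⟨l, e⟩ := hg (p' i)
          refine ⟨l' * l, ?_⟩
          show Matrix.mulVec (H50.suMat (s * s')) (isoVec i) = (l' * l) • isoVec (p (p' i))
          rw [H50.suMat_mulVec_mul, e', Matrix.mulVec_smul, e, smul_smul]
      inv_mem' := by
        rintro ⟨k, g, p⟩ ⟨hk, hp, s, hs, hg⟩
        refine ⟨inv_mem hk, fun i => ?_, s⁻¹, ?_, fun i => ?_⟩
        · have hv : k • Spor.leechV = Spor.leechV := hk.1.1
          simp only [Prod.inv_mk]
          rcases hp (p⁻¹ i) with e | e <;> rw [Equiv.Perm.coe_inv, Equiv.apply_symm_apply] at e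
          · exact Or.inl (inv_smul_eq_iff.mpr e.symm)
          · right
            rw [inv_smul_eq_iff, co0_sub, co0_neg, hv, Equiv.Perm.coe_inv, e]
            abel
        · show (QuotientGroup.mk s⁻¹ : PSU 3 K25 5) = g⁻¹
          rw [QuotientGroup.mk_inv, hs]
        · obtain ⟨l, e⟩ := hg (p⁻¹ i)
          rw [Equiv.Perm.coe_inv, Equiv.apply_symm_apply] at e
          have hne := isoVec_ne_zero
          have hl : l ≠ 0 := by
            rintro rfl
            rw [zero_smul] at e
            obtain ⟨r, hr⟩ := hne (p.symm i)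
            refine hr (congrFun (?_ : isoVec (p.symm i) = 0) r)
            rw [← H50.suMat_inv_mulVec s (isoVec (p.symm i)), e, Matrix.mulVec_zero]
          refine ⟨l⁻¹, ?_⟩
          show Matrix.mulVec (H50.suMat s⁻¹) (isoVec i) = l⁻¹ • isoVec (p⁻¹ i)
          rw [show isoVec i = l⁻¹ • Matrix.mulVec (H50.suMat s) (isoVec (p.symm i)) by
            rw [e, smul_smul, inv_mul_cancel₀ hl, one_smul],
            Matrix.mulVec_smul, H50.suMat_inv_mulVec, Equiv.Perm.coe_inv] }
  have hmem : ∀ {t : Co0 × PSU 3 K25 5 × Equiv.Perm (Fin 126)},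
      t ∈ R ↔ t.1 ∈ kGrp y ∧ MovesPairs t.1 t.2.2 ∧ MovesPoints t.2.1 t.2.2 := Iff.rfl
  let π₁ : R →* kGrp y :=
    ((MonoidHom.fst _ _).comp R.subtype).codRestrict _ fun t => t.2.1
  let π₂ : R →* PSU 3 K25 5 := (MonoidHom.fst _ _).comp ((MonoidHom.snd _ _).comp R.subtype)
  let π₃ : R →* Equiv.Perm (Fin 126) := (MonoidHom.snd _ _).comp ((MonoidHom.snd _ _).comp R.subtype)
  have h1 : Function.Injective π₁ := by
    rw [injective_iff_map_eq_one]
    rintro ⟨⟨k, g, p⟩, hk, hp, s, hs, hg⟩ h
    have hk1 : k = 1 := congrArg Subtype.val h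
    subst hk1
    have hp1 : p = 1 := Equiv.ext fun i => by
      have := hp i
      simp only [one_smul] at this
      exact (pairVec_inj this).symm
    subst hp1
    obtain ⟨l, hl⟩ := scalar_of_fix hg
    have hc : s ∈ Subgroup.center (SU 3 K25 5) :=
      (H50.mem_center_iff_scalar card_K25 (by norm_num)).mpr ⟨l, hl⟩
    have hg1 : g = 1 := (hs.symm.trans ((QuotientGroup.eq_one_iff s).mpr hc) :)
    subst hg1
    rfl
  have hgen : P126 ≤ π₃.range := by
    rw [P126, Subgroup.closure_le]
    have mk : ∀ (w : List ℕ) (P : ℕ) (M : Matrix (Fin 3) (Fin 3) K25) (L : List ℕ)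
        (q : Equiv.Perm (Fin 126)), (∀ i, q i = pFun P i) → runK w seedA = seedA →
        (∀ i, runK w (pairCode i) = pairCode (pFun P i) ∨
          runK w (pairCode i) = partner (pairCode (pFun P i))) →
        (∃ s : SU 3 K25 5, H50.suMat s = M) →
        (∀ i, Matrix.mulVec M (isoVec i) = scal L i • isoVec (pFun P i)) → q ∈ π₃.range := by
      rintro w P M L q hq hfix hmv ⟨s, hs⟩ hM
      obtain ⟨k, hk, e⟩ := exists_kword w
      have hky : k • y = y := by
        refine Subtype.ext ?_
        rw [← e seedA y hyn hy, hfix, hy]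
      refine ⟨⟨(k, QuotientGroup.mk s, q), ⟨hk, hky⟩, fun i => ?_, s, rfl, fun i => ⟨scal L i, ?_⟩⟩, rfl⟩
      · have he := e (pairCode i) (pairVec i) (pairVec_norm i) rfl
        show k • pairVec i = pairVec (q i) ∨ k • pairVec i = -Spor.leechV - pairVec (q i)
        rcases hmv i with h | h <;> rw [h] at he <;> rw [hq]
        · exact Or.inl (Subtype.ext he.symm)
        · right; refine Subtype.ext ?_
          rw [← he, partner_dec]; rfl
      · show Matrix.mulVec (H50.suMat s) (isoVec i) = scal L i • isoVec (q i)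
        rw [hs, hq, hM]
    obtain ⟨a1, a2, d1, d2⟩ := mat_ok
    rintro q (rfl | rfl)
    · exact mk wordA permOne matA scalA _ (fun i => rfl) kfix.1 (fun i => (kmaps i).1)
        (mkSU_of_adj a1 d1) fun i => (umaps i).1
    · exact mk wordB permTwo matB scalB _ (fun i => rfl) kfix.2 (fun i => (kmaps i).2)
        (mkSU_of_adj a2 d2) fun i => (umaps i).2
  have hRge : 126000 ≤ Nat.card R :=
    le_trans card_ge (le_trans (Nat.card_le_card_of_injective _ (Subgroup.inclusion_injective hgen))
      (Nat.card_le_card_of_surjective _ π₃.rangeRestrict_surjective))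
  have hRle := Nat.card_le_card_of_injective _ h1
  have hR : Nat.card R = 126000 := le_antisymm (hK ▸ hRle) hRge
  have b1 : Function.Bijective π₁ :=
    (Nat.bijective_iff_injective_and_card _).mpr ⟨h1, hR.trans hK.symm⟩
  have b3 : Function.Injective π₃ := by
    have hle : Nat.card R ≤ Nat.card π₃.range := by
      rw [hR]
      exact le_trans card_ge (Nat.card_le_card_of_injective _ (Subgroup.inclusion_injective hgen))
    have := (Nat.bijective_iff_surjective_and_card π₃.rangeRestrict).mpr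
      ⟨π₃.rangeRestrict_surjective, le_antisymm hle
        (Nat.card_le_card_of_surjective _ π₃.rangeRestrict_surjective)⟩
    exact fun a b hab => this.1 (Subtype.ext hab)
  have b2 : Function.Bijective π₂ := by
    refine (Nat.bijective_iff_injective_and_card _).mpr ⟨?_, hR.trans card_PSU.symm⟩
    rw [injective_iff_map_eq_one]
    rintro ⟨⟨k, g, p⟩, hk, hp, s, hs, hg⟩ h
    have hg1 : g = 1 := h
    subst hg1
    obtain ⟨l, hl⟩ := (H50.mem_center_iff_scalar card_K25 (by norm_num)).mp
      ((QuotientGroup.eq_one_iff s).mp hs)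
    have inj : ∀ i j : Fin 126, i ≠ j → ∀ c : K25, c • isoVec i ≠ isoVec j :=
      fun i j h => isoVec_ne_smul h
    have hl0 : l ≠ 0 := fun h0 => by
      subst h0
      have := congrArg Matrix.det hl
      rw [zero_smul, Matrix.det_zero] at this
      have hd : (H50.suMat s).det = 1 := s.1.2
      rw [hd] at this
      exact one_ne_zero this
    have hp1 : p = 1 := Equiv.ext fun i => by
      obtain ⟨m, hm⟩ := hg i
      rw [hl, Matrix.smul_mulVec, Matrix.one_mulVec] at hm
      by_contra hne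
      refine inj (p i) i hne (l⁻¹ * m) ?_
      rw [← smul_smul, ← hm, smul_smul, inv_mul_cancel₀ hl0, one_smul]
    subst hp1
    exact b3 rfl
  exact ⟨(MulEquiv.ofBijective π₁ b1).symm.trans (MulEquiv.ofBijective π₂ b2)⟩

/-! ### The statement -/

theorem psu_transport {F : Type} [Field F] [Fintype F] (hF : Fintype.card F = 25) :
    Nonempty (PSU 3 K25 5 ≃* PSU 3 F 5) := by
  let ψ : K25 ≃+* F := FiniteField.ringEquivOfCardEq (by rw [hF, card_K25]; norm_num)
  let e := H64.suCongr 3 5 ψ
  refine ⟨QuotientGroup.congr _ _ e ?_⟩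
  ext x
  rw [Subgroup.mem_map, Subgroup.mem_center_iff]
  constructor
  · rintro ⟨z, hz, rfl⟩ g
    obtain ⟨h, rfl⟩ := e.surjective g
    show e h * e z = e z * e h
    rw [← map_mul, ← map_mul, Subgroup.mem_center_iff.mp hz h]
  · intro hx
    obtain ⟨z, rfl⟩ := e.surjective x
    refine ⟨z, Subgroup.mem_center_iff.mpr fun h => e.injective ?_, rfl⟩
    rw [map_mul, map_mul]; exact hx (e h)

theorem hs_352 (v w : leechLattice) (hv : sqNorm (v : GolayPt → ℤ) = 48)
    (hw : sqNorm (w : GolayPt → ℤ) = 48)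
    (hd : dotInt (v : GolayPt → ℤ) (w : GolayPt → ℤ) = -32) (F : Type) [Field F] [Fintype F]
    (hF : Fintype.card F = 25) (S : Set leechLattice)
    (hS : ∀ x : leechLattice, x ∈ S ↔ (sqNorm (x : GolayPt → ℤ) = 32 ∧
      dotInt (v : GolayPt → ℤ) (x : GolayPt → ℤ) = 16 ∧
      dotInt (w : GolayPt → ℤ) (x : GolayPt → ℤ) = -24)) :
    S.ncard = 352 ∧ (∀ x ∈ S, -w - x ∈ S) ∧
    (∀ x ∈ S, ∀ x' ∈ S, ∃ g : Co0, g • v = v ∧ g • w = w ∧ g • x = x') ∧
    ∀ x ∈ S, Nonempty (↥(MulAction.stabilizer Co0 v ⊓ MulAction.stabilizer Co0 w ⊓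
      MulAction.stabilizer Co0 x) ≃* PSU 3 F 5) := by
  rw [sqNorm_eq_ldot] at hv hw
  have hd : ldot v w = -32 := hd
  have hS' : ∀ x, x ∈ S ↔ ldot x x = 32 ∧ ldot v x = 16 ∧ ldot w x = -24 := fun x => by
    rw [hS, sqNorm_eq_ldot]; rfl
  have hz : ldot (-(v + w)) (-(v + w)) = 32 := by
    rw [leechLike.norm_neg, leechLike.norm_add, hv, hw, hd]; norm_num
  have hzd : ldot v (-(v + w)) = -16 := by
    rw [leechLike.neg_right, leechLike.add_right, hv, hd]; norm_num
  obtain ⟨g, h1, h2⟩ := Lam.pair_transitive_48_32_neg hv hz hzd leechV_norm pvU'.norm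
    (by rw [PairVec.dotV]; rfl)
  have hiff : ∀ x, x ∈ S ↔ -(g • x) ∈ pts ∧ ldot pvU'.w (-(g • x)) = -8 := by
    intro x
    rw [hS']
    show _ ↔ (ldot (-(g • x)) (-(g • x)) = 32 ∧ ldot Spor.leechV (-(g • x)) = -16) ∧ _
    rw [leechLike.norm_neg, co0_dot, leechLike.neg_right, leechLike.neg_right, ← h1, co0_dot, ← h2,
      co0_dot, leechLike.neg_left, leechLike.add_left]
    constructor
    · rintro ⟨a, b, c⟩; exact ⟨⟨a, by rw [b]⟩, by rw [b, c]; norm_num⟩
    · rintro ⟨⟨a, b⟩, c⟩; exact ⟨a, by linarith, by linarith⟩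
  have hgrp : ∀ k : Co0, k ∈ pvU'.group ↔
      (g⁻¹ * k * g) • v = v ∧ (g⁻¹ * k * g) • w = w := by
    intro k
    have hw' : g • w = -(Spor.leechV + pvU'.w) := by
      rw [← h1, ← h2, ← co0_add, ← co0_neg]; congr 1; abel
    rw [mul_smul, mul_smul, mul_smul, mul_smul, h1, hw', inv_smul_eq_iff, inv_smul_eq_iff, h1, hw',
      co0_neg, neg_inj, co0_add]
    constructor
    · rintro ⟨a1, a2⟩
      exact ⟨a1, by rw [show k • Spor.leechV = Spor.leechV from a1,
        show k • pvU'.w = pvU'.w from a2]⟩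
    · rintro ⟨a1, a2⟩
      rw [a1, add_right_inj] at a2
      exact ⟨a1, a2⟩
  obtain ⟨y0, y1, y2, y3, y4, -, p1, -, -, -, o1, -, -, -, -, hy1, hd1, hcl⟩ := Rank5.main
  have hinv : ∀ y ∈ MulAction.orbit pvU'.group y1, y ∈ pts ∧ ldot pvU'.w y = -8 := by
    rintro _ ⟨⟨k, hk⟩, rfl⟩
    show (ldot (k • y1) (k • y1) = 32 ∧ ldot Spor.leechV (k • y1) = -16) ∧ ldot pvU'.w (k • y1) = -8
    refine ⟨⟨by rw [co0_dot]; exact p1.1, ?_⟩, ?_⟩
    · conv_lhs => rw [← (hk.1 : k • Spor.leechV = Spor.leechV)]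
      rw [co0_dot]; exact p1.2
    · conv_lhs => rw [← (hk.2 : k • pvU'.w = pvU'.w)]
      rw [co0_dot]; exact hd1
  have hto : ∀ x ∈ S, ∃ k ∈ pvU'.group, k • y1 = -(g • x) := fun x hx => by
    obtain ⟨⟨k, hk⟩, e⟩ := hcl _ ((hiff x).mp hx).1 ((hiff x).mp hx).2
    exact ⟨k, hk, e⟩
  refine ⟨?_, fun x hx => ?_, fun x hx x' hx' => ?_, fun x hx => ?_⟩
  · rw [← o1, ← Set.ncard_image_of_injective S
      (f := fun x : leechLattice => -(g • x)) (fun a b h => MulAction.injective g (neg_injective h))]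
    congr 1
    ext y
    constructor
    · rintro ⟨x, hx, rfl⟩
      exact hcl _ ((hiff x).mp hx).1 ((hiff x).mp hx).2
    · intro hy
      exact ⟨g⁻¹ • (-y), (hiff _).mpr (by rw [smul_inv_smul, neg_neg]; exact hinv y hy),
        by show -(g • (g⁻¹ • -y)) = y; rw [smul_inv_smul, neg_neg]⟩
  · rw [hS'] at hx ⊢
    obtain ⟨a, b, c⟩ := hx
    refine ⟨?_, ?_, ?_⟩
    · rw [leechLike.norm_sub, leechLike.norm_neg, leechLike.neg_left, a, hw, c]; norm_num
    · rw [sub_eq_add_neg, leechLike.add_right, leechLike.neg_right, leechLike.neg_right, hd, b]; norm_num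
    · rw [sub_eq_add_neg, leechLike.add_right, leechLike.neg_right, leechLike.neg_right, hw, c]; norm_num
  · obtain ⟨a, ha, ea⟩ := hto x hx
    obtain ⟨b, hb, eb⟩ := hto x' hx'
    obtain ⟨e1, e2⟩ := (hgrp _).mp (mul_mem hb (inv_mem ha))
    refine ⟨_, e1, e2, ?_⟩
    rw [mul_smul, mul_smul, mul_smul, show g • x = -(a • y1) by rw [ea, neg_neg], co0_neg,
      inv_smul_smul, co0_neg, eb, neg_neg, inv_smul_smul]
  · have hK : Nat.card (kGrp y1) = 126000 := by
      have h := H90.natCard_inf_stabilizer pvU'.group y1 (MulAction.orbit pvU'.group y1) fun q => by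
        rw [MulAction.mem_orbit_iff]
        exact ⟨fun ⟨⟨k, hk⟩, e⟩ => ⟨k, hk, e⟩, fun ⟨k, hk, e⟩ => ⟨⟨k, hk⟩, e⟩⟩
      have hcnt : Nat.card pvU'.group = 44352000 := by
        refine card_hs_model ?_
        simp only [← sqNorm_eq_ldot]
        exact Census48.ncard_dot_neg16 Spor.leechV ((sqNorm_eq_ldot _).trans leechV_norm)
      rw [o1, hcnt] at h
      exact Nat.eq_of_mul_eq_mul_right (by norm_num : 0 < 352) (h.trans (by norm_num))
    obtain ⟨iso⟩ := iso_model hy1 p1.1 hK
    obtain ⟨tr⟩ := psu_transport hF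
    obtain ⟨a, ha, ea⟩ := hto x hx
    set f : Co0 := a⁻¹ * g with hf
    have hfx : f • x = -y1 := by
      rw [hf, mul_smul, show g • x = -(a • y1) by rw [ea, neg_neg], co0_neg, inv_smul_smul]
    have hmap : kGrp y1 = (MulAction.stabilizer Co0 v ⊓ MulAction.stabilizer Co0 w ⊓
        MulAction.stabilizer Co0 x).map (MulAut.conj f).toMonoidHom := by
      ext k
      rw [Subgroup.mem_map]
      have hfix : ∀ k : Co0, k • y1 = y1 ↔ (f⁻¹ * k * f) • x = x := fun k => by
        rw [mul_smul, mul_smul, hfx, inv_smul_eq_iff, hfx, co0_neg, neg_inj]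
      have hconj : ∀ k : Co0, k ∈ pvU'.group ↔ (f⁻¹ * k * f) • v = v ∧ (f⁻¹ * k * f) • w = w := by
        intro k
        rw [show f⁻¹ * k * f = g⁻¹ * (a * k * a⁻¹) * g by rw [hf]; group, ← hgrp]
        exact ⟨fun h => mul_mem (mul_mem ha h) (inv_mem ha), fun h => by
          have := mul_mem (mul_mem (inv_mem ha) h) ha
          simpa [mul_assoc] using this⟩
      constructor
      · rintro ⟨hk, hky⟩
        exact ⟨f⁻¹ * k * f, ⟨(hconj k).mp hk, (hfix k).mp hky⟩, by simp [mul_assoc]⟩
      · rintro ⟨m, ⟨hm, hmx⟩, rfl⟩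
        have e : f⁻¹ * ((MulAut.conj f).toMonoidHom m) * f = m := by simp [mul_assoc]
        exact ⟨(hconj _).mpr (by rw [e]; exact hm), (hfix _).mpr (by rw [e]; exact hmx)⟩
    exact ⟨((Subgroup.equivMapOfInjective _ (MulAut.conj f).toMonoidHom (MulAut.conj f).injective).trans
      (MulEquiv.subgroupCongr hmap.symm)).trans (iso.trans tr)⟩

end U35
end H96
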